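import Cfsg.Agent.Lib.Classical.OrthMaxND

/-!
# Rational structures for quadratic forms
-/

set_option autoImplicit false
set_option linter.unusedSectionVars false
set_option backward.isDefEq.respectTransparency false

open Module QuadraticMap CfsgLib.Orth

namespace CfsgLib.Classical.SubfieldOrth

variable {F : Type*} [Field F] [Fintype F] {V : Type*} [AddCommGroup V] [Module F V] [FiniteDimensional F V]
  {F₀ : Subfield F} {Q : QuadraticForm F V}

theorem coe_smul_eq' {V : Type*} [AddCommGroup V] [Module F V] (c : F₀) (v : V) : c • v = (c : F) • v := rfl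

theorem smul_memQ {V : Type*} [AddCommGroup V] [Module F V] {V₀ : Submodule F₀ V} {c : F} (hc : c ∈ F₀) {v : V}
    (hv : v ∈ V₀) : c • v ∈ V₀ := V₀.smul_mem ⟨c, hc⟩ hv

instance finiteOverSubfieldQ {F : Type*} [Field F] [Fintype F] {V : Type*} [AddCommGroup V] [Module F V]
    [FiniteDimensional F V] {F₀ : Subfield F} : Module.Finite F₀ V :=
  haveI : Module.Finite F₀ F := Module.Finite.of_finite
  haveI : IsScalarTower F₀ F V := ⟨fun c a v => by rw [coe_smul_eq', Subfield.smul_def, smul_eq_mul, mul_smul]⟩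
  Module.Finite.trans F V

/-- A rational structure for a multiple of a quadratic form. -/
structure IsQFrame (Q : QuadraticForm F V) (V₀ : Submodule F₀ V) (ζ : F) : Prop where
  nondeg : (QuadraticMap.polarBilin Q).Nondegenerate
  zeta_ne : ζ ≠ 0
  form : ∀ u ∈ V₀, ζ * Q u ∈ F₀
  spans : Submodule.span F (V₀ : Set V) = ⊤

variable {V₀ : Submodule F₀ V} {ζ : F}

/-! ### Singular vectors in subspaces -/

omit [Fintype F] in
/-- A subspace of dimension at least three has a nonzero singular vector. -/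
theorem exists_singular_sub [Fintype F] {U : Submodule F V} (hU : 3 ≤ finrank F U) :
    ∃ v ∈ U, v ≠ 0 ∧ Q v = 0 := by
  let Q' : QuadraticForm F U := Q.comp U.subtype
  by_cases hn : (QuadraticMap.polarBilin Q').Nondegenerate
  · obtain ⟨v, hv0, hv⟩ := CfsgLib.Orth.exists_singular (Q := Q') hn hU
    exact ⟨v, v.2, fun e => hv0 (Subtype.ext e), hv⟩
  obtain ⟨r, hr, hr0⟩ : ∃ r : U, (∀ x : U, polar Q (r : V) (x : V) = 0) ∧ r ≠ 0 := by
    by_contra hc
    push Not at hc
    exact hn (nondegenerate_of_left (Q := Q') fun v hv => hc v fun x => hv x)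
  have hr0' : (r : V) ≠ 0 := fun e => hr0 (Subtype.ext e)
  have hrr := hr r
  rw [polar_self', mul_eq_zero] at hrr
  rcases hrr with h2 | hrQ
  swap
  · exact ⟨r, r.2, hr0', hrQ⟩
  haveI : CharP F 2 := CharTwo.of_one_ne_zero_of_two_eq_zero one_ne_zero h2
  obtain ⟨b, hb, hbr⟩ : ∃ b ∈ U, b ∉ F ∙ (r : V) := by
    by_contra hall
    push Not at hall
    have := Submodule.finrank_mono (s := U) (t := F ∙ (r : V)) hall
    rw [finrank_span_singleton hr0'] at this
    omega
  by_cases hbQ : Q b = 0
  · exact ⟨b, hb, fun h => hbr (h ▸ Submodule.zero_mem _), hbQ⟩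
  obtain ⟨t, ht⟩ := FiniteField.isSquare_of_char_two (ringChar.eq F 2) (Q (r : V) / Q b)
  refine ⟨(r : V) + t • b, U.add_mem r.2 (U.smul_mem _ hb), fun h0 => ?_, ?_⟩
  · rcases eq_or_ne t 0 with rfl | ht0
    · rw [zero_smul, add_zero] at h0; exact hr0' h0
    · refine hbr (Submodule.mem_span_singleton.2 ⟨-t⁻¹, ?_⟩)
      rw [eq_neg_of_add_eq_zero_left h0, smul_neg, neg_smul, neg_neg, inv_smul_smul₀ ht0]
  · rw [quad_add', quad_smul', polar_smul_r', hr ⟨b, hb⟩, ← ht, div_mul_cancel₀ _ hbQ, mul_zero, add_zero,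
      CharTwo.add_self_eq_zero]

variable (hQ : (QuadraticMap.polarBilin Q).Nondegenerate)
include hQ

/-- The singular vectors of a large subspace span it. -/
theorem le_span_singular {U : Submodule F V} (hdim : finrank F V + 3 ≤ 2 * finrank F U) :
    U ≤ Submodule.span F {z | z ∈ U ∧ Q z = 0} := by
  set R := U ⊓ qperp Q U
  have hR : finrank F R + finrank F U ≤ finrank F V := by
    have := finrank_qperp hQ U
    have : finrank F R ≤ finrank F (qperp Q U) := Submodule.finrank_mono inf_le_right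
    omega
  obtain ⟨C', hC'⟩ := Submodule.exists_isCompl R
  set C := U ⊓ C'
  have hsup : R ⊔ C = U := by
    have h1 : (R ⊔ C') ⊓ U = R ⊔ C' ⊓ U := sup_inf_assoc_of_le C' (inf_le_left : R ≤ U)
    rw [hC'.sup_eq_top, top_inf_eq, inf_comm] at h1
    exact h1.symm
  have hCd : 3 ≤ finrank F C := by
    have h := Submodule.finrank_add_le_finrank_add_finrank R C
    rw [hsup] at h
    have := Submodule.finrank_le U
    omega
  obtain ⟨e, he, he0, heQ⟩ := exists_singular_sub (Q := Q) hCd
  obtain ⟨w, hw, hew⟩ : ∃ w ∈ U, polar Q e w ≠ 0 := by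
    by_contra hc
    push Not at hc
    have heR : e ∈ R := ⟨he.1, fun x hx => (polar_comm _ _ _).trans (hc x hx)⟩
    exact he0 (Submodule.disjoint_def.1 hC'.disjoint e heR he.2)
  set w₁ := (polar Q e w)⁻¹ • w
  have hw₁ : polar Q e w₁ = 1 := by simp only [w₁, polar_smul_r', inv_mul_cancel₀ hew]
  set f := w₁ + (-Q w₁) • e
  have heU : e ∈ U := he.1
  have hfU : f ∈ U := U.add_mem (U.smul_mem _ hw) (U.smul_mem _ heU)
  have hef : polar Q e f = 1 := by simp only [f, polar_add_right, polar_smul_r', hw₁, polar_self', heQ]; ring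
  have hfQ : Q f = 0 := by
    simp only [f, quad_add', quad_smul', polar_smul_r', heQ, polar_comm _ w₁ e, hw₁]; ring
  intro x hx
  set z := x - polar Q f x • e - polar Q e x • f with hz
  have hze : polar Q e z = 0 := by simp only [hz, polar_sub_right, polar_smul_r', polar_self', heQ, hef]; ring
  have hzf : polar Q f z = 0 := by
    simp only [hz, polar_sub_right, polar_smul_r', polar_self', hfQ, polar_comm _ f e, hef]; ring
  set s := z + e + (-Q z) • f with hs
  have hsU : s ∈ U :=
    U.add_mem (U.add_mem (U.sub_mem (U.sub_mem hx (U.smul_mem _ heU)) (U.smul_mem _ hfU)) heU) (U.smul_mem _ hfU)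
  have hs0 : Q s = 0 := by
    simp only [hs, quad_add', quad_smul', polar_add_left, polar_smul_r', heQ, hfQ, hef,
      polar_comm _ z e, polar_comm _ z f, hze, hzf]
    ring
  have e' : x = s + (polar Q f x - 1) • e + (polar Q e x + Q z) • f := by rw [hs, hz]; module
  rw [e']
  exact Submodule.add_mem _ (Submodule.add_mem _ (Submodule.subset_span ⟨hsU, hs0⟩)
    (Submodule.smul_mem _ _ (Submodule.subset_span ⟨heU, heQ⟩))) (Submodule.smul_mem _ _ (Submodule.subset_span ⟨hfU, hfQ⟩))

omit hQ

namespace IsQFrame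

variable (hR : IsQFrame Q V₀ ζ)
include hR

theorem pol_mem {u v : V} (hu : u ∈ V₀) (hv : v ∈ V₀) : ζ * polar Q u v ∈ F₀ := by
  rw [QuadraticMap.polar, mul_sub, mul_sub]
  exact sub_mem (sub_mem (hR.form _ (add_mem hu hv)) (hR.form _ hu)) (hR.form _ hv)

theorem sep {x : V} (h : ∀ u ∈ V₀, polar Q x u = 0) : x = 0 := by
  refine hR.nondeg.1 x fun y => ?_
  have hy : y ∈ Submodule.span F (V₀ : Set V) := hR.spans ▸ Submodule.mem_top
  rw [QuadraticMap.polarBilin_apply_apply]
  induction hy using Submodule.span_induction with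
  | mem u hu => exact h u hu
  | zero => exact polar_zero_right Q x
  | add a b _ _ ha hb => rw [polar_add_right, ha, hb, add_zero]
  | smul c a _ ha => rw [polar_smul_r', ha, mul_zero]

/-- The rational quadratic form. -/
def quad₀ : QuadraticForm F₀ V₀ :=
  QuadraticMap.ofPolar (fun u : V₀ => (⟨ζ * Q (u : V), hR.form _ u.2⟩ : F₀))
    (fun a u => Subtype.ext (by
      show ζ * Q ((a • u : V₀) : V) = (a : F) * (a : F) * (ζ * Q (u : V))
      rw [SetLike.val_smul, coe_smul_eq', quad_smul']; ring))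
    (fun u u' v => Subtype.ext (by
      simp only [QuadraticMap.polar, Subfield.coe_add, Subfield.coe_sub, Submodule.coe_add]
      have h := polar_add_left (Q := Q) (u : V) (u' : V) (v : V)
      simp only [QuadraticMap.polar] at h
      linear_combination ζ * h))
    (fun a u v => Subtype.ext (by
      simp only [QuadraticMap.polar, Subfield.coe_sub, smul_eq_mul, Subfield.coe_mul, Submodule.coe_add,
        SetLike.val_smul, coe_smul_eq']
      have h := polar_smul_l' (Q := Q) (a : F) (u : V) (v : V)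
      simp only [QuadraticMap.polar] at h
      linear_combination ζ * h))

theorem quad₀_coe (u : V₀) : ((hR.quad₀ u : F₀) : F) = ζ * Q (u : V) := rfl

theorem quad₀_eq_zero {u : V₀} : hR.quad₀ u = 0 ↔ Q (u : V) = 0 :=
  ⟨fun h => (mul_eq_zero.1 ((hR.quad₀_coe u).symm.trans (by rw [h]; rfl))).resolve_left hR.zeta_ne,
    fun h => Subtype.ext ((hR.quad₀_coe u).trans (by rw [h, mul_zero]; rfl))⟩

theorem polar₀_coe (u v : V₀) :
    ((QuadraticMap.polarBilin hR.quad₀ u v : F₀) : F) = ζ * polar Q (u : V) (v : V) := by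
  rw [QuadraticMap.polarBilin_apply_apply]
  simp only [QuadraticMap.polar, Subfield.coe_sub, hR.quad₀_coe, Submodule.coe_add]
  ring

theorem polar₀_eq_zero {u v : V₀} :
    QuadraticMap.polarBilin hR.quad₀ u v = 0 ↔ polar Q (u : V) (v : V) = 0 := by
  refine ⟨fun h => (mul_eq_zero.1 ?_).resolve_left hR.zeta_ne, fun h => Subtype.ext ?_⟩
  · rw [← hR.polar₀_coe, h]; rfl
  · rw [hR.polar₀_coe, h, mul_zero]; rfl

theorem nondeg₀ : (QuadraticMap.polarBilin hR.quad₀).Nondegenerate :=
  nondegenerate_of_left fun u hu => Subtype.ext (hR.sep fun v hv => hR.polar₀_eq_zero.1 (hu ⟨v, hv⟩))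

theorem finrank_le : finrank F V ≤ finrank F₀ V₀ := by
  let b := Module.finBasis F₀ V₀
  let g : Fin (finrank F₀ V₀) → V := fun i => (b i : V)
  have hsub : (V₀ : Set V) ⊆ Submodule.span F (Set.range g) := by
    intro u hu
    have e := congrArg Subtype.val (b.sum_repr ⟨u, hu⟩)
    simp only [Submodule.coe_sum, SetLike.val_smul] at e
    rw [← e]
    exact Submodule.sum_mem _ fun i _ => Submodule.smul_mem _ _ (Submodule.subset_span ⟨i, rfl⟩)
  have htop : Submodule.span F (Set.range g) = ⊤ := eq_top_iff.2 (hR.spans ▸ Submodule.span_le.2 hsub)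
  have := finrank_range_le_card (R := F) g
  rw [Set.finrank, htop, finrank_top, Fintype.card_fin] at this
  exact this

theorem finrank_span_list_le (L : List V₀) : finrank F₀ (Submodule.span F₀ {x | x ∈ L}) ≤ L.length := by
  classical
  rw [show {x | x ∈ L} = (L.toFinset : Set V₀) by ext; simp]
  exact (finrank_span_finset_le_card _).trans L.toFinset_card_le

/-- Singular rational vectors orthogonal to a short list. -/
def singPerp (Q : QuadraticForm F V) (V₀ : Submodule F₀ V) (L : List V₀) : Set V₀ :=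
  {y | Q (y : V) = 0 ∧ ∀ a ∈ L, polar Q (a : V) (y : V) = 0}

/-- The rational vectors orthogonal to a short list. -/
def perpList (L : List V₀) : Submodule F₀ V₀ :=
  ⨅ a ∈ L, LinearMap.ker (QuadraticMap.polarBilin hR.quad₀ a)

theorem mem_perpList {L : List V₀} {x : V₀} : x ∈ hR.perpList L ↔ ∀ a ∈ L, polar Q (a : V) (x : V) = 0 := by
  simp only [perpList, Submodule.mem_iInf, LinearMap.mem_ker, hR.polar₀_eq_zero]

theorem finrank_perpList (L : List V₀) : finrank F₀ V₀ ≤ finrank F₀ (hR.perpList L) + L.length := by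
  induction L with
  | nil =>
    have : hR.perpList [] = ⊤ := eq_top_iff.2 fun x _ => hR.mem_perpList.2 (by simp)
    rw [this, finrank_top]; simp
  | cons a L ih =>
    have e : hR.perpList (a :: L) = hR.perpList L ⊓ LinearMap.ker (QuadraticMap.polarBilin hR.quad₀ a) := by
      ext x
      simp only [Submodule.mem_inf, hR.mem_perpList, LinearMap.mem_ker, hR.polar₀_eq_zero, List.forall_mem_cons,
        and_comm]
    rw [e, List.length_cons]
    have h := Submodule.finrank_sup_add_finrank_inf_eq (hR.perpList L)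
      (LinearMap.ker (QuadraticMap.polarBilin hR.quad₀ a))
    have h2 := (QuadraticMap.polarBilin hR.quad₀ a).finrank_range_add_finrank_ker
    have h3 : finrank F₀ (LinearMap.range (QuadraticMap.polarBilin hR.quad₀ a)) ≤ 1 :=
      (Submodule.finrank_le _).trans (by simp)
    have h4 := Submodule.finrank_le (hR.perpList L ⊔ LinearMap.ker (QuadraticMap.polarBilin hR.quad₀ a))
    omega

theorem mem_span_sing (L : List V₀) (h : 2 * L.length + 3 ≤ finrank F₀ V₀) {x : V₀}
    (hx : ∀ a ∈ L, polar Q (a : V) (x : V) = 0) : x ∈ Submodule.span F₀ (singPerp Q V₀ L) := by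
  haveI := Fintype.ofFinite F₀
  have hle := le_span_singular hR.nondeg₀ (U := hR.perpList L) (by have := hR.finrank_perpList L; omega)
  refine Submodule.span_mono ?_ (hle (hR.mem_perpList.2 hx))
  exact fun z hz => ⟨hR.quad₀_eq_zero.1 hz.2, hR.mem_perpList.1 hz.1⟩

theorem exists_sing_outside (L : List V₀) (S : Submodule F₀ V₀) (h : 2 * L.length + 3 ≤ finrank F₀ V₀)
    (hS : finrank F₀ S + L.length < finrank F₀ V₀) :
    ∃ y : V₀, y ∉ S ∧ Q (y : V) = 0 ∧ ∀ a ∈ L, polar Q (a : V) (y : V) = 0 := by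
  by_contra hc
  push Not at hc
  have hle : hR.perpList L ≤ S := by
    intro x hx
    refine (Submodule.span_le (p := S)).2 ?_ (hR.mem_span_sing L h (hR.mem_perpList.1 hx))
    intro y hy
    by_contra hyS
    obtain ⟨a, ha, hne⟩ := hc y hyS hy.1
    exact hne (hy.2 a ha)
  have h1 := hR.finrank_perpList L
  have h2 := Submodule.finrank_mono hle
  omega

/-- A singular vector pairing to one with a vector outside a short list. -/
theorem exists_sing_pair {v : V₀} (L : List V₀) (h : 2 * L.length + 3 ≤ finrank F₀ V₀)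
    (hv : v ∉ Submodule.span F₀ {x | x ∈ L}) :
    ∃ a : V₀, Q (a : V) = 0 ∧ ζ * polar Q (a : V) (v : V) = 1 ∧ ∀ b ∈ L, polar Q (b : V) (a : V) = 0 := by
  obtain ⟨f, hfv, hfL⟩ := Submodule.exists_dual_map_eq_bot_of_notMem hv inferInstance
  set z := (LinearMap.BilinForm.toDual (QuadraticMap.polarBilin hR.quad₀) hR.nondeg₀).symm f
  have hz : ∀ a, QuadraticMap.polarBilin hR.quad₀ z a = f a := fun a => by
    rw [← LinearMap.BilinForm.toDual_def hR.nondeg₀, LinearEquiv.apply_symm_apply]
  have hzL : ∀ a ∈ L, polar Q (a : V) (z : V) = 0 := fun a ha => by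
    rw [polar_comm, ← hR.polar₀_eq_zero, hz]
    exact (Submodule.eq_bot_iff _).1 hfL _ (Submodule.mem_map_of_mem (Submodule.subset_span ha))
  obtain ⟨a, ha, hav⟩ : ∃ a ∈ singPerp Q V₀ L, QuadraticMap.polarBilin hR.quad₀ a v ≠ 0 := by
    by_contra hc
    push Not at hc
    refine hfv ?_
    have h1 : Submodule.span F₀ (singPerp Q V₀ L) ≤ LinearMap.ker ((QuadraticMap.polarBilin hR.quad₀).flip v) :=
      Submodule.span_le.2 fun a ha => hc a ha
    exact (hz v).symm.trans (h1 (hR.mem_span_sing L h hzL))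
  refine ⟨(QuadraticMap.polarBilin hR.quad₀ a v)⁻¹ • a, ?_, ?_, fun b hb => ?_⟩
  · rw [SetLike.val_smul, coe_smul_eq', quad_smul', ha.1, mul_zero]
  · rw [← hR.polar₀_coe, LinearMap.map_smul₂, smul_eq_mul, inv_mul_cancel₀ hav]; rfl
  · rw [SetLike.val_smul, coe_smul_eq', polar_smul_r', ha.2 b hb, mul_zero]

/-- A singular vector in a rational subspace of dimension at least three. -/
theorem exists_sing_in (K : Submodule F₀ V₀) (hK : 3 ≤ finrank F₀ K) : ∃ d ∈ K, d ≠ 0 ∧ Q (d : V) = 0 := by
  haveI := Fintype.ofFinite F₀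
  obtain ⟨d, hd, hd0, hdQ⟩ := exists_singular_sub (Q := hR.quad₀) hK
  exact ⟨d, hd, hd0, hR.quad₀_eq_zero.1 hdQ⟩

end IsQFrame

end CfsgLib.Classical.SubfieldOrth
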