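import Cfsg.Agent.Lib.Classical.HermMax
import Cfsg.Agent.Lib.Classical.SubfieldMax.SympFrame

/-!
# Rational structures of symplectic type for Hermitian forms
-/

set_option autoImplicit false
set_option linter.unusedSectionVars false
set_option backward.isDefEq.respectTransparency false

open Module

namespace CfsgLib.Classical.SubfieldOrth

open CfsgLib.Classical.SubfieldMax (coe_smul_eq smul_mem')

variable {F : Type*} [Field F] [Fintype F] {V : Type*} [AddCommGroup V] [Module F V] [FiniteDimensional F V]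
  {σ : F →+* F} {F₀ : Subfield F}

/-- A rational structure on which the Hermitian form is a multiple of an alternating form. -/
structure IsAFrame (B : V →ₛₗ[σ] V →ₗ[F] F) (V₀ : Submodule F₀ V) (ζ lam : F) : Prop where
  herm : IsHermitian B
  nondeg : B.SeparatingRight
  fixed : ∀ c, c ∈ F₀ ↔ σ c = c
  lam_moved : σ lam ≠ lam
  zeta_ne : ζ ≠ 0
  zeta_tr : σ ζ = -ζ
  form : ∀ u ∈ V₀, ∀ v ∈ V₀, ζ * B u v ∈ F₀
  alt : ∀ u ∈ V₀, B u u = 0
  spans : Submodule.span F (V₀ : Set V) = ⊤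

variable {B : V →ₛₗ[σ] V →ₗ[F] F} {V₀ : Submodule F₀ V} {ζ lam : F}

namespace IsAFrame

variable (hR : IsAFrame B V₀ ζ lam)
include hR

theorem sigma_coe (c : F₀) : σ (c : F) = c := (hR.fixed _).1 c.2

theorem skew (u v : V₀) : B (v : V) (u : V) = -B (u : V) (v : V) := by
  have h := hR.alt _ (add_mem u.2 v.2)
  simp only [map_add, LinearMap.add_apply, hR.alt _ u.2, hR.alt _ v.2] at h
  linear_combination h

/-- Trace zero multiples of rational pairings are rational. -/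
theorem coeff_mem {c : F} (hc : c + σ c = 0) {u v : V} (hu : u ∈ V₀) (hv : v ∈ V₀) : c * B u v ∈ F₀ := by
  rw [show c * B u v = c / ζ * (ζ * B u v) by field_simp [hR.zeta_ne]]
  exact mul_mem ((hR.fixed _).2 (by
    rw [map_div₀, hR.zeta_tr, eq_neg_of_add_eq_zero_right hc, neg_div_neg_eq])) (hR.form u hu v hv)

theorem scalar_decomp (c : F) : ∃ a b : F₀, (a : F) + lam * b = c := by
  have hne : lam - σ lam ≠ 0 := sub_ne_zero.2 (Ne.symm hR.lam_moved)
  refine ⟨⟨c - lam * ((c - σ c) / (lam - σ lam)), (hR.fixed _).2 ?_⟩,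
    ⟨(c - σ c) / (lam - σ lam), (hR.fixed _).2 ?_⟩, by simp⟩
  · rw [map_sub, map_mul, map_div₀, map_sub, map_sub, hR.herm.conj.invol, hR.herm.conj.invol,
      ← neg_sub c (σ c), ← neg_sub lam (σ lam), neg_div_neg_eq]
    field_simp
    ring
  · rw [map_div₀, map_sub, map_sub, hR.herm.conj.invol, hR.herm.conj.invol, ← neg_sub c (σ c),
      ← neg_sub lam (σ lam), neg_div_neg_eq]

theorem scalar_zero {a b : F} (ha : a ∈ F₀) (hb : b ∈ F₀) (h : a + lam * b = 0) : a = 0 ∧ b = 0 := by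
  have h2 := congrArg σ h
  rw [map_add, map_mul, (hR.fixed _).1 ha, (hR.fixed _).1 hb, map_zero] at h2
  have hb0 : b = 0 := by
    have : (lam - σ lam) * b = 0 := by linear_combination h - h2
    exact (mul_eq_zero.1 this).resolve_left (sub_ne_zero.2 (Ne.symm hR.lam_moved))
  rw [hb0, mul_zero, add_zero] at h
  exact ⟨h, hb0⟩

theorem sep {x : V} (h : ∀ u ∈ V₀, B u x = 0) : x = 0 := by
  refine hR.nondeg x fun y => ?_
  have hy : y ∈ Submodule.span F (V₀ : Set V) := hR.spans ▸ Submodule.mem_top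
  induction hy using Submodule.span_induction with
  | mem u hu => exact h u hu
  | zero => simp
  | add a b _ _ ha hb => simp [ha, hb]
  | smul c a _ ha => simp [ha]

theorem vec_decomp (x : V) : ∃ x₀ x₁ : V₀, (x₀ : V) + lam • (x₁ : V) = x := by
  have hx : x ∈ Submodule.span F (V₀ : Set V) := hR.spans ▸ Submodule.mem_top
  induction hx using Submodule.span_induction with
  | mem u hu => exact ⟨⟨u, hu⟩, 0, by simp⟩
  | zero => exact ⟨0, 0, by simp⟩
  | add a b _ _ ha hb =>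
    obtain ⟨a₀, a₁, rfl⟩ := ha
    obtain ⟨b₀, b₁, rfl⟩ := hb
    exact ⟨a₀ + b₀, a₁ + b₁, by push_cast; module⟩
  | smul c a _ ha =>
    obtain ⟨a₀, a₁, rfl⟩ := ha
    obtain ⟨p, r, hpr⟩ := hR.scalar_decomp (c * lam)
    obtain ⟨c₀, c₁, hc⟩ := hR.scalar_decomp c
    refine ⟨c₀ • a₀ + p • a₁, c₁ • a₀ + r • a₁, ?_⟩
    rw [smul_add, smul_smul, ← hpr, ← hc]
    simp only [Submodule.coe_add, SetLike.val_smul, coe_smul_eq]
    module

theorem vec_zero {a b : V₀} (h : (a : V) + lam • (b : V) = 0) : a = 0 ∧ b = 0 := by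
  have key : ∀ u ∈ V₀, B u (a : V) = 0 ∧ B u (b : V) = 0 := fun u hu => by
    have h1 := congrArg (fun z => ζ * B u z) h
    simp only [map_add, map_smul, map_zero, smul_eq_mul, mul_zero] at h1
    obtain ⟨h2, h3⟩ := hR.scalar_zero (hR.form u hu _ a.2) (hR.form u hu _ b.2) (by rw [← h1]; ring)
    exact ⟨(mul_eq_zero.1 h2).resolve_left hR.zeta_ne, (mul_eq_zero.1 h3).resolve_left hR.zeta_ne⟩
  exact ⟨Subtype.ext (hR.sep fun u hu => (key u hu).1), Subtype.ext (hR.sep fun u hu => (key u hu).2)⟩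

/-- The pairing with a rational vector. -/
def pair (x : V₀) : V₀ →ₗ[F₀] F₀ where
  toFun v := ⟨ζ * B (x : V) (v : V), hR.form _ x.2 _ v.2⟩
  map_add' a b := Subtype.ext (by simp [mul_add])
  map_smul' c a := Subtype.ext (by simp [coe_smul_eq]; ring)

theorem pair_eq_zero {x v : V₀} : hR.pair x v = 0 ↔ B (x : V) (v : V) = 0 :=
  ⟨fun h => (mul_eq_zero.1 (congrArg Subtype.val h)).resolve_left hR.zeta_ne,
    fun h => Subtype.ext (show ζ * B (x : V) (v : V) = 0 by rw [h, mul_zero])⟩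

/-- A common partner orthogonal to a given vector. -/
theorem exists_common {z a b : V₀} (ha : a ∉ Submodule.span F₀ {z}) (hb : b ∉ Submodule.span F₀ {z}) :
    ∃ c : V₀, B (z : V) (c : V) = 0 ∧ B (a : V) (c : V) ≠ 0 ∧ B (b : V) (c : V) ≠ 0 := by
  have key : ∀ x : V₀, x ∉ Submodule.span F₀ {z} → ∃ c : V₀, B (z : V) (c : V) = 0 ∧ B (x : V) (c : V) ≠ 0 := by
    intro x hx
    by_contra hc
    push Not at hc
    have hker : LinearMap.ker (hR.pair z) ≤ LinearMap.ker (hR.pair x) := fun c hc' =>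
      hR.pair_eq_zero.2 (hc c (hR.pair_eq_zero.1 hc'))
    have hmem := (mem_span_of_iInf_ker_le_ker (L := fun _ : Unit => hR.pair z) (K := hR.pair x) (by simpa using hker))
    rw [Set.range_const, Submodule.mem_span_singleton] at hmem
    obtain ⟨k, hk⟩ := hmem
    refine hx (Submodule.mem_span_singleton.2 ⟨k, ?_⟩)
    have : k • z - x = 0 := by
      refine Subtype.ext (hR.sep fun u hu => ?_)
      have h1 := LinearMap.congr_fun hk ⟨u, hu⟩
      have h2 : (k : F) * (ζ * B (z : V) u) = ζ * B (x : V) u := congrArg Subtype.val h1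
      have h3 : B ((k • z - x : V₀) : V) u = 0 := by
        refine (mul_eq_zero.1 ?_).resolve_left hR.zeta_ne
        rw [Submodule.coe_sub, SetLike.val_smul, coe_smul_eq, map_sub, map_smulₛₗ, hR.sigma_coe]
        simp only [LinearMap.sub_apply, LinearMap.smul_apply, smul_eq_mul]
        linear_combination h2
      exact hR.herm.isRefl _ _ h3
    exact sub_eq_zero.1 this
  obtain ⟨c₁, hz₁, ha₁⟩ := key a ha
  obtain ⟨c₂, hz₂, hb₂⟩ := key b hb
  by_cases h1 : B (b : V) (c₁ : V) = 0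
  · by_cases h2 : B (a : V) (c₂ : V) = 0
    · exact ⟨c₁ + c₂, by simp [hz₁, hz₂], by simp [h2, ha₁], by simp [h1, hb₂]⟩
    · exact ⟨c₂, hz₂, h2, hb₂⟩
  · exact ⟨c₁, hz₁, ha₁, h1⟩

variable {M : Subgroup (isomGroup B)} (hM : ∀ u ∈ V₀, IsTAxis M u)
include hM

/-- Moving one rational vector to another inside the stabiliser of a third. -/
theorem exists_move {z a b : V₀} (hza : B (z : V) (a : V) = 0) (hzb : B (z : V) (b : V) = 0)
    (ha : a ∉ Submodule.span F₀ {z}) (hb : b ∉ Submodule.span F₀ {z}) :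
    ∃ h ∈ M, h.1 (z : V) = z ∧ h.1 (a : V) = b ∧ ∀ x ∈ V₀, h.1 x ∈ V₀ := by
  have step : ∀ a b : V₀, B (z : V) (a : V) = 0 → B (z : V) (b : V) = 0 → B (b : V) (a : V) ≠ 0 →
      ∃ h ∈ M, h.1 (z : V) = z ∧ h.1 (a : V) = b ∧ ∀ x ∈ V₀, h.1 x ∈ V₀ := by
    intro a b hza hzb hne
    set d : V := (b : V) - (a : V)
    have hc : (B (b : V) (a : V))⁻¹ + σ (B (b : V) (a : V))⁻¹ = 0 := by
      rw [map_inv₀, hR.herm.symm, hR.skew b a, inv_neg, add_neg_cancel]
    obtain ⟨h, hh⟩ := hR.herm.exists_uTv hR.nondeg (v := d) (hR.alt _ (sub_mem b.2 a.2)) hc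
    refine ⟨h, hM _ (sub_mem b.2 a.2) h _ hh, ?_, ?_, fun x hx => ?_⟩
    · have h0 : B d (z : V) = 0 := by
        simp only [d, map_sub, LinearMap.sub_apply, hR.herm.isRefl _ _ hza, hR.herm.isRefl _ _ hzb, sub_zero]
      rw [hh.2.2, h0, mul_zero, zero_smul, add_zero]
    · rw [hh.2.2, show B d (a : V) = B (b : V) (a : V) by
        simp [d, hR.alt _ a.2], inv_mul_cancel₀ hne, one_smul]
      simp [d]
    · rw [hh.2.2]
      exact add_mem hx (smul_mem' (hR.coeff_mem hc (sub_mem b.2 a.2) hx) (sub_mem b.2 a.2))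
  obtain ⟨c, hzc, hac, hbc⟩ := hR.exists_common ha hb
  obtain ⟨h₁, hh₁, e1, e1', hV₁⟩ := step a c hza hzc (fun e => hac (hR.herm.isRefl _ _ e))
  obtain ⟨h₂, hh₂, e2, e2', hV₂⟩ := step c b hzc hzb hbc
  refine ⟨h₂ * h₁, mul_mem hh₂ hh₁, ?_, ?_, fun x hx => ?_⟩
  · rw [Subgroup.coe_mul, LinearEquiv.mul_apply, e1, e2]
  · rw [Subgroup.coe_mul, LinearEquiv.mul_apply, e1', e2']
  · rw [Subgroup.coe_mul, LinearEquiv.mul_apply]; exact hV₂ _ (hV₁ _ hx)

/-- The top argument. -/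
theorem symp_top (hn : 4 ≤ finrank F V) {g : isomGroup B} (hg : g ∈ M)
    (hnot : ¬ ∃ s : F, s ≠ 0 ∧ ∀ f ∈ V₀, s • g.1 f ∈ V₀) : sIsom B ≤ M := by
  classical
  have hpair : ∀ x₀ x₁ : V₀, B ((x₀ : V) + lam • (x₁ : V)) ((x₀ : V) + lam • (x₁ : V)) = 0 →
      B (x₀ : V) (x₁ : V) = 0 := by
    intro x₀ x₁ h
    simp only [map_add, map_smul, map_smulₛₗ, LinearMap.add_apply, LinearMap.smul_apply, RingHom.id_apply,
      smul_eq_mul, hR.alt _ x₀.2, hR.alt _ x₁.2, hR.skew x₀ x₁] at h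
    have h2 : (lam - σ lam) * B (x₀ : V) (x₁ : V) = 0 := by linear_combination h
    exact (mul_eq_zero.1 h2).resolve_left (sub_ne_zero.2 (Ne.symm hR.lam_moved))
  -- an axis with independent parts
  obtain ⟨w₀, w₁, hw, hwi, hw0⟩ : ∃ w₀ w₁ : V₀, IsTAxis M ((w₀ : V) + lam • (w₁ : V)) ∧
      B (w₀ : V) (w₁ : V) = 0 ∧ w₁ ∉ Submodule.span F₀ {w₀} ∧ w₀ ≠ 0 := by
    by_contra hc
    have himg : ∀ u : V₀, ∃ (c : F) (v : V₀), g.1 (u : V) = c • (v : V) := by
      intro u
      obtain ⟨y₀, y₁, hy⟩ := hR.vec_decomp (g.1 (u : V))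
      rw [← hy]
      by_cases h0 : y₀ = 0
      · exact ⟨lam, y₁, by simp [h0]⟩
      by_cases h1 : y₁ ∈ Submodule.span F₀ {y₀}
      · obtain ⟨k, rfl⟩ := Submodule.mem_span_singleton.1 h1
        refine ⟨1 + lam * (k : F), y₀, ?_⟩
        simp only [SetLike.val_smul, coe_smul_eq]
        module
      refine absurd ⟨y₀, y₁, ?_, ?_, h1, h0⟩ hc
      · rw [hy]; exact (hM _ u.2).map hg
      · exact hpair y₀ y₁ (by rw [hy, isomGroup_apply, hR.alt _ u.2])
    have hne : ∃ u₀ : V₀, u₀ ≠ 0 := by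
      by_contra h
      push Not at h
      have : (⊤ : Submodule F V) ≤ ⊥ := hR.spans ▸ Submodule.span_le.2 fun x hx => by
        have := congrArg Subtype.val (h ⟨x, hx⟩)
        simpa using this
      have h2 := Submodule.finrank_mono this
      rw [finrank_top, finrank_bot] at h2
      omega
    obtain ⟨u₀, hu₀⟩ := hne
    obtain ⟨c, v, hv⟩ := himg u₀
    have hinj : ∀ u : V₀, g.1 (u : V) = 0 → u = 0 := fun u h => Subtype.ext (g.1.injective (by rw [h]; simp))
    have hc0 : c ≠ 0 := fun h => hu₀ (hinj _ (by rw [hv, h, zero_smul]))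
    have hv0 : v ≠ 0 := fun h => hu₀ (hinj _ (by rw [hv, h]; simp))
    refine hnot ⟨c⁻¹, inv_ne_zero hc0, fun f hf => ?_⟩
    obtain ⟨c', v', hv'⟩ := himg ⟨f, hf⟩
    obtain ⟨c'', v'', hv''⟩ := himg (u₀ + ⟨f, hf⟩)
    change g.1 f = _ at hv'
    rw [Submodule.coe_add, map_add, hv, show ((⟨f, hf⟩ : V₀) : V) = f from rfl, hv'] at hv''
    have hsum : (v : V) + (c⁻¹ * c') • (v' : V) = (c⁻¹ * c'') • (v'' : V) := by
      rw [mul_smul, mul_smul, ← hv'', smul_add, inv_smul_smul₀ hc0]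
    rw [hv', smul_smul]
    obtain ⟨a₀, a₁, ha⟩ := hR.scalar_decomp (c⁻¹ * c')
    obtain ⟨b₀, b₁, hb⟩ := hR.scalar_decomp (c⁻¹ * c'')
    rw [← ha, ← hb] at hsum
    have hz := hR.vec_zero (a := v + a₀ • v' - b₀ • v'') (b := a₁ • v' - b₁ • v'') (by
      simp only [Submodule.coe_add, Submodule.coe_sub, SetLike.val_smul, coe_smul_eq]
      linear_combination (norm := module) hsum)
    by_cases ha1 : a₁ = 0
    · rw [← ha, ha1]
      simp only [ZeroMemClass.coe_zero, mul_zero, add_zero]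
      exact smul_mem' a₀.2 v'.2
    -- otherwise the second vector is a multiple of the first
    have e' : v' = (b₁ / a₁) • v'' := by
      rw [← inv_smul_smul₀ ha1 v', sub_eq_zero.1 hz.2, smul_smul, inv_mul_eq_div]
    have ev : v = (b₀ - a₀ * (b₁ / a₁)) • v'' := by
      rw [sub_smul, mul_smul, ← e', ← sub_eq_zero.1 hz.1, add_sub_cancel_right]
    set k := b₀ - a₀ * (b₁ / a₁) with hk
    have hk0 : k ≠ 0 := fun h => hv0 (by rw [ev, h, zero_smul])
    have ev' : v' = (b₁ / a₁ * k⁻¹) • v := by rw [ev, mul_smul, inv_smul_smul₀ hk0, e']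
    set l : F := c' * ((b₁ / a₁ * k⁻¹ : F₀) : F) * c⁻¹
    have hfu : f = l • (u₀ : V) := by
      apply g.1.injective
      rw [map_smul, hv', hv, smul_smul, ev', SetLike.val_smul, coe_smul_eq, smul_smul]
      congr 1
      simp only [l]
      field_simp
    obtain ⟨l₀, l₁, hl⟩ := hR.scalar_decomp l
    have hz2 := hR.vec_zero (a := l₀ • u₀ - ⟨f, hf⟩) (b := l₁ • u₀) (by
      simp only [Submodule.coe_sub, SetLike.val_smul, coe_smul_eq]
      rw [hfu, ← hl]
      module)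
    have hl1 : l₁ = 0 := (smul_eq_zero.1 hz2.2).resolve_right hu₀
    rw [← smul_smul, ← hv', hfu, map_smul, smul_comm, hv, inv_smul_smul₀ hc0, ← hl, hl1]
    simp only [ZeroMemClass.coe_zero, mul_zero, add_zero]
    exact smul_mem' l₀.2 v.2
  refine hR.herm.sIsom_le_of_axes hR.nondeg hn fun x hxx => ?_
  obtain ⟨x₀, x₁, rfl⟩ := hR.vec_decomp x
  by_cases h0 : x₀ = 0
  · rw [h0, Submodule.coe_zero, zero_add]
    exact (hM _ x₁.2).smul hR.herm.conj.invol fun h => hR.lam_moved (by rw [h, map_zero])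
  by_cases h1 : x₁ ∈ Submodule.span F₀ {x₀}
  · obtain ⟨k, rfl⟩ := Submodule.mem_span_singleton.1 h1
    rw [show (x₀ : V) + lam • ((k • x₀ : V₀) : V) = (1 + lam * (k : F)) • (x₀ : V) by
      simp only [SetLike.val_smul, coe_smul_eq]; module]
    by_cases hk : 1 + lam * (k : F) = 0
    · rw [hk, zero_smul]; exact hR.herm.isTAxis_zero M
    · exact (hM _ x₀.2).smul hR.herm.conj.invol hk
  have hx01 := hpair x₀ x₁ hxx
  -- first move the first part, then the second
  obtain ⟨h₁, hh₁, -, e1, hV₁⟩ := hR.exists_move hM (z := 0) (a := w₀) (b := x₀) (by simp) (by simp)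
    (by simpa using hw0.2) (by simpa using h0)
  set y₁ : V₀ := ⟨h₁.1 (w₁ : V), hV₁ _ w₁.2⟩
  have hy : B (x₀ : V) (y₁ : V) = 0 := by
    show B (x₀ : V) (h₁.1 (w₁ : V)) = 0
    rw [← e1, isomGroup_apply, hwi]
  have hyn : y₁ ∉ Submodule.span F₀ {x₀} := fun h => hw0.1 (by
    obtain ⟨k, hk⟩ := Submodule.mem_span_singleton.1 h
    refine Submodule.mem_span_singleton.2 ⟨k, Subtype.ext (h₁.1.injective ?_)⟩
    have := congrArg Subtype.val hk
    simp only [SetLike.val_smul, coe_smul_eq] at this ⊢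
    rw [map_smul, e1, this])
  obtain ⟨h₂, hh₂, e2, e2', -⟩ := hR.exists_move hM (z := x₀) (a := y₁) (b := x₁) hy hx01 hyn h1
  have := hw.map (mul_mem hh₂ hh₁)
  rwa [Subgroup.coe_mul, LinearEquiv.mul_apply, map_add, map_smul, e1, map_add, map_smul,
    show h₂.1 (h₁.1 (w₁ : V)) = x₁ from e2', e2] at this

end IsAFrame

end CfsgLib.Classical.SubfieldOrth
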