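import Cfsg.Agent.Lib.Classical.SubfieldOrth.Reduce

/-!
# Orthogonal subfield groups of unitary groups from dimension six on

A subgroup which contains every rational isometry of determinant one is moved around by products of two reflections.
-/

set_option autoImplicit false
set_option linter.unusedSectionVars false
set_option backward.isDefEq.respectTransparency false

open Module

namespace CfsgLib.Classical.SubfieldOrth

open CfsgLib.Classical.SubfieldMax (coe_smul_eq smul_mem')

variable {F : Type*} [Field F] [Fintype F] {V : Type*} [AddCommGroup V] [Module F V] [FiniteDimensional F V]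
  {σ : F →+* F} {F₀ : Subfield F} {B : V →ₛₗ[σ] V →ₗ[F] F} {V₀ : Submodule F₀ V} {ε : F}
  {M : Subgroup (isomGroup B)}

/-- The subgroup contains the rational isometries of determinant one. -/
def RatFull (B : V →ₛₗ[σ] V →ₗ[F] F) (V₀ : Submodule F₀ V) (M : Subgroup (isomGroup B)) : Prop :=
  ∀ g : isomGroup B, idet B g = 1 → (∀ f ∈ V₀, g.1 f ∈ V₀) → g ∈ M

/-- The reflection at an anisotropic vector. -/
def IsRefl (r : isomGroup B) (p : V) : Prop := ∀ x, r.1 x = x - (2 / B p p * B p x) • p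

namespace IsOFrame

variable (hR : IsOFrame B V₀ ε)
include hR

theorem exists_refl {p : V} (hp : B p p ≠ 0) : ∃ r : isomGroup B, IsRefl r p ∧ idet B r = -1 := by
  obtain ⟨r, hr, hd⟩ := hR.herm.exists_qr hR.nondeg hp (l := -1) (by rw [map_neg, map_one, neg_mul_neg, one_mul])
  exact ⟨r, fun x => by rw [hr, sub_eq_add_neg x, ← neg_smul]; congr 2; ring, hd⟩

theorem refl_fix {r : isomGroup B} {p x : V} (hr : IsRefl r p) (hx : B p x = 0) : r.1 x = x := by
  rw [hr, hx, mul_zero, zero_smul, sub_zero]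

theorem refl_rational {r : isomGroup B} {p : V₀} (hr : IsRefl r (p : V)) {x : V} (hx : x ∈ V₀) : r.1 x ∈ V₀ := by
  rw [hr]
  exact sub_mem hx (smul_mem' (mul_mem (div_mem (by exact_mod_cast (2 : F₀).2) (hR.form _ p.2 _ p.2))
    (hR.form _ p.2 _ hx)) p.2)

theorem refl_conj {r : isomGroup B} {p : V} (hr : IsRefl r p) (g : isomGroup B) :
    IsRefl (g * r * g⁻¹) (g.1 p) := by
  intro x
  have h2 : g.1 ((g⁻¹ : isomGroup B).1 x) = x := g.1.apply_symm_apply x
  simp only [Subgroup.coe_mul, LinearEquiv.mul_apply]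
  rw [hr, map_sub, map_smul, h2, ← isomGroup_apply g p ((g⁻¹ : isomGroup B).1 x), h2, isomGroup_apply]

/-- Two reflections at rational vectors. -/
theorem refl_pair (hM : RatFull B V₀ M) {p q : V₀} (hp : B (p : V) (p : V) ≠ 0) (hq : B (q : V) (q : V) ≠ 0) :
    ∃ r s : isomGroup B, IsRefl r (p : V) ∧ IsRefl s (q : V) ∧ r * s ∈ M := by
  obtain ⟨r, hr, hrd⟩ := hR.exists_refl hp
  obtain ⟨s, hs, hsd⟩ := hR.exists_refl hq
  refine ⟨r, s, hr, hs, hM _ (by rw [map_mul, hrd, hsd, neg_mul_neg, one_mul]) fun f hf => ?_⟩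
  simp only [Subgroup.coe_mul, LinearEquiv.mul_apply]
  exact hR.refl_rational hr (hR.refl_rational hs hf)

/-- An isotropic vector in a subspace of dimension three. -/
theorem exists_iso_mem {U : Submodule F₀ V₀} (hU : 3 ≤ finrank F₀ U) :
    ∃ s ∈ U, s ≠ 0 ∧ B (s : V) (s : V) = 0 := by
  haveI := Fintype.ofFinite F₀
  obtain ⟨s, hs, hs0, hQ⟩ := SimMax.exists_singular_of_three (Q := hR.quad) hR.two₀ hU
  exact ⟨s, hs, hs0, hR.quad_eq_zero.1 hQ⟩

theorem polar_two {x y : V₀} (hx : B (x : V) (x : V) = 0) (hy : B (y : V) (y : V) = 0)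
    (hsum : B ((x + y : V₀) : V) ((x + y : V₀) : V) = 0) : B (x : V) (y : V) = 0 := by
  rw [Submodule.coe_add] at hsum
  simp only [map_add, LinearMap.add_apply, hx, hy, hR.comm₀ y x, zero_add, add_zero] at hsum
  exact (mul_eq_zero.1 (show (2 : F) * B (x : V) (y : V) = 0 by linear_combination hsum)).resolve_left hR.two

/-- A subspace of more than half the dimension has an anisotropic vector outside a proper subspace. -/
theorem exists_aniso_outside {N X : Submodule F₀ V₀} (hN : finrank F₀ V₀ < 2 * finrank F₀ N) (hX : ¬ N ≤ X) :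
    ∃ y ∈ N, y ∉ X ∧ B (y : V) (y : V) ≠ 0 := by
  by_contra hc
  push Not at hc
  obtain ⟨y, hy, hyX⟩ := SetLike.not_le_iff_exists.1 hX
  have hyy := hc y hy hyX
  have hin : ∀ l ∈ N, l ∈ X → B (l : V) (l : V) = 0 ∧ B (y : V) (l : V) = 0 := by
    intro l hl hlX
    have e1 := hc (y + l) (add_mem hy hl) fun h => hyX (by simpa using sub_mem h hlX)
    have e2 := hc (y - l) (sub_mem hy hl) fun h => hyX (by simpa using add_mem h hlX)
    simp only [Submodule.coe_add, Submodule.coe_sub, map_add, map_sub, LinearMap.add_apply, LinearMap.sub_apply,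
      hyy, hR.comm₀ l y] at e1 e2
    have hll : B (l : V) (l : V) = 0 :=
      (mul_eq_zero.1 (show (2 : F) * B (l : V) (l : V) = 0 by linear_combination e1 + e2)).resolve_left hR.two
    refine ⟨hll, ?_⟩
    rw [hll] at e1
    exact (mul_eq_zero.1 (show (2 : F) * B (y : V) (l : V) = 0 by linear_combination e1)).resolve_left hR.two
  have hiso : ∀ x ∈ N, B (x : V) (x : V) = 0 := fun x hx => by
    by_cases hxX : x ∈ X
    · exact (hin x hx hxX).1
    · exact hc x hx hxX
  have hTI : N ≤ LinearMap.BilinForm.orthogonal hR.form₀ N := fun z hz x hx =>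
    hR.form₀_eq_zero.2 (hR.polar_two (hiso x hx) (hiso z hz) (hiso _ (add_mem hx hz)))
  have hb : LinearMap.BilinForm.Nondegenerate hR.form₀ :=
    ⟨fun a ha => Subtype.ext (hR.sep fun u hu => hR.symm_zero (hR.form₀_eq_zero.1 (ha ⟨u, hu⟩))),
      fun a ha => Subtype.ext (hR.sep fun u hu => hR.form₀_eq_zero.1 (ha ⟨u, hu⟩))⟩
  have hrefl : LinearMap.BilinForm.IsRefl hR.form₀ := fun a b h =>
    hR.form₀_eq_zero.2 (hR.symm_zero (hR.form₀_eq_zero.1 h))
  have h1 := Submodule.finrank_mono hTI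
  rw [LinearMap.BilinForm.finrank_orthogonal hb] at h1
  omega

/-- Rational vectors orthogonal to two given ones. -/
theorem finrank_perp_two (a b : V₀) :
    finrank F₀ V₀ ≤ finrank F₀ ↥(LinearMap.ker (hR.form₀ a) ⊓ LinearMap.ker (hR.form₀ b)) + 2 := by
  have h1 := ((hR.form₀ a).prod (hR.form₀ b)).finrank_range_add_finrank_ker
  have h2 : finrank F₀ (LinearMap.range ((hR.form₀ a).prod (hR.form₀ b))) ≤ 2 :=
    (Submodule.finrank_le _).trans (by simp)
  rw [LinearMap.ker_prod] at h1
  omega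

/-- An isotropic vector orthogonal to two given ones. -/
theorem exists_iso_perp_two (hdim : 5 ≤ finrank F₀ V₀) (a b : V₀) :
    ∃ m : V₀, m ≠ 0 ∧ B (m : V) (m : V) = 0 ∧ B (a : V) (m : V) = 0 ∧ B (b : V) (m : V) = 0 := by
  have := hR.finrank_perp_two a b
  obtain ⟨m, ⟨ha, hb⟩, hm0, hmm⟩ := hR.exists_iso_mem
    (U := LinearMap.ker (hR.form₀ a) ⊓ LinearMap.ker (hR.form₀ b)) (by omega)
  exact ⟨m, hm0, hmm, hR.form₀_eq_zero.1 ha, hR.form₀_eq_zero.1 hb⟩

end IsOFrame

theorem RatFull.ratSg (hR : IsOFrame B V₀ ε) (hM : RatFull B V₀ M) : RatSg B V₀ M := by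
  intro a b haa hbb hab
  obtain ⟨s, hs, hsg⟩ := hR.exists_sg haa hbb hab
  refine ⟨s, hM s hs fun f hf => ?_, hsg⟩
  rw [hsg, zero_mul, zero_smul, add_zero]
  exact sub_mem (add_mem hf (smul_mem' (hR.form _ a.2 _ hf) b.2)) (smul_mem' (hR.form _ b.2 _ hf) a.2)

variable (hR : IsOFrame B V₀ ε) (hM : RatFull B V₀ M) (hdim : 6 ≤ finrank F₀ V₀)
include hR hM hdim

/-- A nonrational vector of the radical outside the line gives the whole radical. -/
theorem full_of_seed_six {d : V₀} (hd : B (d : V) (d : V) = 0) {x₀ x₁ : V₀}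
    (hx : (x₀ : V) + ε • (x₁ : V) ∈ Rad M (d : V)) (hx₁ : x₁ ∉ Submodule.span F₀ {y | y ∈ [d]}) :
    Full M (d : V) := by
  have hM' := hM.ratSg hR
  let U₁ : Set V₀ := {v | B (d : V) (v : V) = 0 ∧ ε • (v : V) ∈ Rad M (d : V)}
  have hseed : x₁ ∈ U₁ := by
    obtain ⟨h0, h1⟩ := hR.perp_parts hx.1
    refine ⟨h1, ?_⟩
    have h := rad_add hR.herm hd hx (rad_neg hR.herm hd (rad_rational hR hM' hdim hd h0))
    rwa [add_neg_cancel_comm] at h
  have hadd : ∀ {v w : V₀}, v ∈ U₁ → w ∈ U₁ → v + w ∈ U₁ := fun {v w} hv hw =>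
    ⟨by simp [hv.1, hw.1], by rw [Submodule.coe_add, smul_add]; exact rad_add hR.herm hd hv.2 hw.2⟩
  have hneg : ∀ {v : V₀}, v ∈ U₁ → -v ∈ U₁ := fun {v} hv =>
    ⟨by simp [hv.1], by rw [Submodule.coe_neg, smul_neg]; exact rad_neg hR.herm hd hv.2⟩
  -- the stabiliser of `d` acts
  have hact : ∀ {p q v w : V₀}, B (p : V) (p : V) ≠ 0 → B (q : V) (q : V) ≠ 0 → B (p : V) (d : V) = 0 →
      B (q : V) (d : V) = 0 → v ∈ U₁ → (∀ r s : isomGroup B, IsRefl r (p : V) → IsRefl s (q : V) →
        r.1 (s.1 (v : V)) = (w : V)) → w ∈ U₁ := by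
    intro p q v w hp hq hpd hqd ⟨hdv, _, k, hk, c, hc⟩ hw
    obtain ⟨r, s, hr, hs, hrs⟩ := hR.refl_pair hM hp hq
    have e1 : (r * s).1 (d : V) = d := by
      rw [Subgroup.coe_mul, LinearEquiv.mul_apply, hR.refl_fix hs hqd, hR.refl_fix hr hpd]
    have e2 : (r * s).1 (ε • (v : V)) = ε • (w : V) := by
      rw [map_smul, Subgroup.coe_mul, LinearEquiv.mul_apply, hw r s hr hs]
    have h := hc.conj (r * s)
    rw [e1, e2] at h
    have hdw : B (d : V) (w : V) = 0 := by
      conv_lhs => arg 1; rw [← e1]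
      rw [← hw r s hr hs, ← LinearEquiv.mul_apply, ← Subgroup.coe_mul, isomGroup_apply, hdv]
    exact ⟨hdw, by rw [map_smul, hdw, smul_zero], _, mul_mem (mul_mem hrs hk) (inv_mem hrs), c, h⟩
  -- the torus of a hyperbolic pair
  have htorus : ∀ {b b' x : V₀}, B (b : V) (b : V) = 0 → B (b' : V) (b' : V) = 0 → B (b : V) (b' : V) = 1 →
      B (d : V) (b : V) = 0 → B (d : V) (b' : V) = 0 → B (b : V) (x : V) = 0 → B (b' : V) (x : V) = 0 →
      ∀ (a t : F₀), t ≠ 0 → a • b + x ∈ U₁ → (a * t) • b + x ∈ U₁ := by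
    intro b b' x hbb hb'b' hbb' hdb hdb' hbx hb'x a t ht hv
    have hb'b : B (b' : V) (b : V) = 1 := by rw [hR.comm₀, hbb']
    have h2 := hR.two
    have ht' : (t : F) ≠ 0 := fun e => ht (Subtype.ext e)
    have hp : B ((b - b' : V₀) : V) ((b - b' : V₀) : V) ≠ 0 := by
      simp [hbb, hb'b', hbb', hb'b]
      intro e; exact h2 (by linear_combination -e)
    have hq : B ((b - t⁻¹ • b' : V₀) : V) ((b - t⁻¹ • b' : V₀) : V) ≠ 0 := by
      simp [coe_smul_eq, hbb, hb'b', hbb', hb'b, hR.sigma_coe]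
      intro e; exact h2 (by field_simp at e; linear_combination -e)
    refine hact hq hp (by simp [coe_smul_eq, hR.sigma_coe, hR.symm_zero hdb, hR.symm_zero hdb'])
      (by simp [hR.symm_zero hdb, hR.symm_zero hdb']) hv fun r s hr hs => ?_
    rw [Submodule.coe_add, SetLike.val_smul, coe_smul_eq, map_add, map_smul, map_add, map_smul]
    rw [hR.refl_fix hs (x := (x : V)) (by simp [hbx, hb'x]),
      hR.refl_fix hr (x := (x : V)) (by simp [coe_smul_eq, hbx, hb'x])]
    simp only [hs (b : V), Submodule.coe_sub, map_sub, LinearMap.sub_apply, hbb, hb'b', hbb', hb'b, map_smul]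
    simp only [hr _, Submodule.coe_sub, Submodule.coe_add, SetLike.val_smul, coe_smul_eq, map_sub, map_smul,
      map_smulₛₗ, LinearMap.sub_apply, LinearMap.smul_apply, smul_eq_mul, hR.sigma_coe, hbb, hb'b', hbb', hb'b,
      Subfield.coe_inv, Subfield.coe_mul, map_inv₀]
    match_scalars <;>
      simp only [zero_sub, mul_zero, sub_zero, mul_one, neg_neg,
        show -(t : F)⁻¹ - (t : F)⁻¹ = -(2 * (t : F)⁻¹) by ring, show (-1 : F) - 1 = -2 by ring] <;>
      field_simp [h2, ht'] <;> ring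
  -- an isotropic vector
  obtain ⟨b, hbb, hb, hbU⟩ : ∃ b : V₀, B (b : V) (b : V) = 0 ∧
      b ∉ Submodule.span F₀ {y | y ∈ [d]} ∧ b ∈ U₁ := by
    by_cases hxx : B (x₁ : V) (x₁ : V) = 0
    · exact ⟨x₁, hxx, hx₁, hseed⟩
    obtain ⟨C, hC⟩ := Submodule.exists_isCompl (Submodule.span F₀ {y | y ∈ [d]})
    set P := LinearMap.ker (hR.form₀ d) ⊓ LinearMap.ker (hR.form₀ x₁)
    have h1 := hR.finrank_perp_two d x₁
    have h2 := Submodule.finrank_sup_add_finrank_inf_eq P C
    have h3 := Submodule.finrank_add_eq_of_isCompl hC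
    have h4 := Submodule.finrank_le (P ⊔ C)
    have h5 := IsOFrame.finrank_span_list_le hR [d]
    obtain ⟨b, ⟨⟨hbd, hbx⟩, hbC⟩, hb0, hbb⟩ := hR.exists_iso_mem (U := P ⊓ C) (by
      simp only [List.length_cons, List.length_nil] at h5
      change finrank F₀ V₀ ≤ finrank F₀ P + 2 at h1
      omega)
    have hb : b ∉ Submodule.span F₀ {y | y ∈ [d]} := fun h =>
      hb0 (Submodule.disjoint_def.1 hC.disjoint b h hbC)
    have hdb := hR.form₀_eq_zero.1 hbd
    have hxb := hR.form₀_eq_zero.1 hbx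
    obtain ⟨b', hb'b', hbb', hb'b, hb'L⟩ := hR.exists_iso_partner hbb [d] (by simp; omega) hb
    have hdb' := hb'L d (by simp)
    obtain ⟨f, hfx, hfL⟩ := Submodule.exists_dual_map_eq_bot_of_notMem
      (p := Submodule.span F₀ ({d, b} : Set V₀)) (x := x₁) (fun h => by
        obtain ⟨k, l, e⟩ := Submodule.mem_span_pair.1 h
        refine hxx ?_
        rw [← e]
        simp [coe_smul_eq, hd, hbb, hdb, hR.symm_zero hdb]) inferInstance
    obtain ⟨z, hz⟩ := hR.exists_of_dual f
    have hf0 : ∀ y ∈ ({d, b} : Set V₀), B (z : V) (y : V) = 0 := fun y hy => by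
      rw [hz, show f y = 0 from (Submodule.eq_bot_iff _).1 hfL _ (Submodule.mem_map_of_mem (Submodule.subset_span hy))]
      rfl
    have hzd := hf0 d (by simp)
    have hzb := hf0 b (by simp)
    obtain ⟨m, hmm, hbm, hdm, hxm⟩ : ∃ m : V₀, B (m : V) (m : V) = 0 ∧ B (b : V) (m : V) = 1 ∧
        B (d : V) (m : V) = 0 ∧ B (m : V) (x₁ : V) ≠ 0 := by
      by_cases h0 : B (b' : V) (x₁ : V) = 0
      swap
      · exact ⟨b', hb'b', hbb', hdb', h0⟩
      let s : F₀ := ⟨B (b' : V) (z : V), hR.form _ b'.2 _ z.2⟩ + ⟨B (z : V) (z : V), hR.form _ z.2 _ z.2⟩ / 2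
      refine ⟨b' + z - s • b, ?_, ?_, ?_, ?_⟩
      · simp [s, coe_smul_eq, hR.sigma_coe, hb'b', hbb', hb'b, hbb, hzb, hR.symm_zero hzb, hR.comm₀ z b',
          (hR.fixed _).1 (hR.form _ b'.2 _ z.2), (hR.fixed _).1 (hR.form _ z.2 _ z.2), show ((2 : F₀) : F) = 2 from rfl, map_ofNat]
        have h2 := hR.two
        field_simp
        ring
      · simp [coe_smul_eq, hbb', hbb, hR.symm_zero hzb]
      · simp [coe_smul_eq, hdb', hdb, hR.symm_zero hzd]
      · simp [coe_smul_eq, hR.symm_zero hxb, h0, hz, hfx]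
    set a : F₀ := ⟨B (m : V) (x₁ : V), hR.form _ m.2 _ x₁.2⟩
    have hv : a • b + (x₁ - a • b) ∈ U₁ := by rwa [add_sub_cancel]
    have hv' := htorus hbb hmm hbm hdb hdm (by simp [coe_smul_eq, hbb, hR.symm_zero hxb])
      (by simp [a, coe_smul_eq, hR.comm₀ m b, hbm]) a (-1) (by simp) hv
    have hv'' := hadd hv (hneg hv')
    refine ⟨(a + a) • b, by simp [coe_smul_eq, hR.sigma_coe, hbb], fun h => hb ?_, ?_⟩
    · have ha : a + a ≠ 0 := fun e => hxm (by
        have e' : B (m : V) (x₁ : V) + B (m : V) (x₁ : V) = 0 := congrArg Subtype.val e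
        exact (mul_eq_zero.1 (show (2 : F) * _ = 0 by rw [two_mul]; exact e')).resolve_left hR.two)
      rwa [Submodule.smul_mem_iff _ ha] at h
    · convert hv'' using 1
      module
  -- all multiples, and all isotropic vectors
  let T : Submodule F₀ V₀ :=
    { carrier := {y | ∀ t : F₀, t • y ∈ U₁}
      add_mem' := fun {y z} hy hz t => by rw [smul_add]; exact hadd (hy t) (hz t)
      zero_mem' := fun t => by
        rw [smul_zero]
        exact ⟨by simp, by simpa using rad_line (M := M) hd 0⟩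
      smul_mem' := fun k y hy t => by rw [smul_smul]; exact hy _ }
  have hscal : ∀ {v : V₀}, B (v : V) (v : V) = 0 → v ∉ Submodule.span F₀ {y | y ∈ [d]} → v ∈ U₁ → v ∈ T := by
    intro v hvv hv hvU t
    rcases eq_or_ne t 0 with rfl | ht
    · simpa using T.zero_mem 1
    obtain ⟨v', hv'v', hvv', -, hL⟩ := hR.exists_iso_partner hvv [d] (by simp; omega) hv
    simpa using htorus (x := 0) hvv hv'v' hvv' hvU.1 (hL d (by simp)) (by simp) (by simp) 1 t ht (by simpa using hvU)
  have hbT := hscal hbb hb hbU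
  have hdb : B (d : V) (b : V) = 0 := hbU.1
  have hmove : ∀ {v : V₀}, B (v : V) (v : V) = 0 → B (d : V) (v : V) = 0 → B (b : V) (v : V) ≠ 0 → v ∈ T := by
    intro v hvv hdv hbv
    have hp : B ((b - v : V₀) : V) ((b - v : V₀) : V) ≠ 0 := by
      simp [hbb, hvv, hR.comm₀ v b]
      intro e; exact hbv ((mul_eq_zero.1 (show (2 : F) * _ = 0 by linear_combination -e)).resolve_left hR.two)
    obtain ⟨q, ⟨hqd, hqv⟩, -, hqq⟩ := hR.exists_aniso_outside
      (N := LinearMap.ker (hR.form₀ d) ⊓ LinearMap.ker (hR.form₀ v)) (X := ⊥)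
      (by have := hR.finrank_perp_two d v; omega)
      (fun h => by
        have h1 := Submodule.finrank_mono h
        have := hR.finrank_perp_two d v
        rw [finrank_bot] at h1
        omega)
    have hdd' := hR.symm_zero hdb
    have hvd := hR.symm_zero hdv
    refine hscal hvv (fun h => hbv ?_) (hact (w := v) hqq hp (hR.symm_zero (hR.form₀_eq_zero.1 hqd))
      (by simp [hdd', hvd]) hbU fun r s hr hs => ?_)
    · rw [show {y | y ∈ [d]} = ({d} : Set V₀) by ext; simp, Submodule.mem_span_singleton] at h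
      obtain ⟨k, rfl⟩ := h
      simp [coe_smul_eq, hR.symm_zero hdb]
    · have e : s.1 (b : V) = v := by
        rw [hs, Submodule.coe_sub]
        simp only [map_sub, LinearMap.sub_apply, hbb, hvv, hR.comm₀ v b]
        match_scalars <;>
          simp only [zero_sub, mul_one, sub_zero, show ∀ x : F, -x - x = -(2 * x) from fun x => by ring] <;>
          field_simp [hbv, hR.two] <;> ring
      rw [e, hR.refl_fix hr (hR.symm_zero (hR.form₀_eq_zero.1 hqv))]
  have hle : Submodule.span F₀ (IsOFrame.isoPerp B V₀ [d]) ≤ T := by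
    refine Submodule.span_le.2 fun v hv => ?_
    have hdv := hv.2 d (by simp)
    by_cases hbv : B (b : V) (v : V) = 0
    swap
    · exact hmove hv.1 hdv hbv
    obtain ⟨m, hmm, hbm, hmb, hmL⟩ := hR.exists_iso_partner hbb [d] (by simp; omega) hb
    set s : F₀ := ⟨B (v : V) (m : V), hR.form _ v.2 _ m.2⟩
    have hx : v + m - s • b ∈ T := hmove
      (by simp [s, coe_smul_eq, (hR.fixed _).1 (hR.form _ v.2 _ m.2), hv.1, hmm, hbb, hbm, hmb, hbv,
        hR.symm_zero hbv, hR.comm₀ m v])
      (by simp [coe_smul_eq, hdv, hdb, hmL d (by simp)])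
      (by simp [coe_smul_eq, hbb, hbm, hbv])
    have := T.add_mem (T.sub_mem hx (hmove hmm (hmL d (by simp)) (by rw [hbm]; exact one_ne_zero))) (T.smul_mem s hbT)
    rwa [show v + m - s • b - m + s • b = v by module] at this
  intro x hdx
  obtain ⟨y₀, y₁, rfl⟩ := hR.vec_decomp x
  obtain ⟨h0, h1⟩ := hR.perp_parts hdx
  refine rad_add hR.herm hd (rad_rational hR hM' hdim hd h0) ?_
  have := (hle (hR.mem_span_iso [d] (by simp; omega) (x := y₁) (by simp [h1])) 1).2
  rwa [one_smul] at this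

/-- A full radical spreads to orthogonal vectors, from dimension six on. -/
theorem full_of_perp_six {d e : V₀} (hd : B (d : V) (d : V) = 0) (hee : B (e : V) (e : V) = 0)
    (hde : B (d : V) (e : V) = 0) (hind : d ∉ Submodule.span F₀ {y | y ∈ [e]}) (h : Full M (d : V)) :
    Full M (e : V) := by
  have hdεe : B (d : V) (ε • (e : V)) = 0 := by rw [map_smul, hde, smul_zero]
  obtain ⟨-, g, hg, c, hc⟩ := h (ε • (e : V)) hdεe
  have hcc : c + σ c = 0 := by
    obtain ⟨f, hff, hdf, hfd, -⟩ := hR.exists_iso_partner hd [e] (by simp; omega) hind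
    have hX := (hR.fixed _).1 (hR.form _ e.2 _ f.2)
    have h1 : B (g.1 (f : V)) (g.1 (f : V)) = 0 := by rw [isomGroup_apply, hff]
    rw [hc] at h1
    simp only [map_add, map_sub, map_smul, map_smulₛₗ, LinearMap.add_apply, LinearMap.sub_apply, LinearMap.smul_apply,
      RingHom.id_apply, smul_eq_mul, hff, hdf, hfd, hee, hde, hR.symm_zero hde, hd, hR.eps_tr, map_one, map_mul, map_neg,
      hX, hR.comm₀ f e] at h1
    linear_combination h1
  obtain ⟨t, ht⟩ := hR.herm.exists_uTv hR.nondeg (v := (d : V)) (c := -c) hd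
    (by rw [map_neg, ← neg_add, hcc, neg_zero])
  have htM := isTAxis_of_full hR (hM.ratSg hR) hdim hd h t _ ht
  refine full_of_seed_six hR hM hdim hee (x₀ := 0) (x₁ := d) ⟨by simp [hR.symm_zero hde], t * g, mul_mem htM hg, 0,
    fun z => ?_⟩ hind
  simp only [Subgroup.coe_mul, LinearEquiv.mul_apply]
  rw [ht.2.2, hc]
  simp only [map_add, map_sub, map_smul, map_smulₛₗ, LinearMap.smul_apply, RingHom.id_apply, smul_eq_mul, hd, hde,
    hR.eps_tr, Submodule.coe_zero, zero_add]
  module

/-- One full radical gives the special unitary group, from dimension six on. -/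
theorem sIsom_le_of_full_six (hn : 4 ≤ finrank F V) {d : V₀} (hd : B (d : V) (d : V) = 0) (hd0 : d ≠ 0)
    (h : Full M (d : V)) : sIsom B ≤ M := by
  have hfull : ∀ e : V₀, B (e : V) (e : V) = 0 → e ≠ 0 → Full M (e : V) := by
    intro e hee he0
    have hstep : ∀ {p q : V₀}, B (p : V) (p : V) = 0 → B (q : V) (q : V) = 0 → B (p : V) (q : V) = 0 →
        p ∉ Submodule.span F₀ {y | y ∈ [q]} → Full M (p : V) → Full M (q : V) := fun hp hq hpq hi hf =>
      full_of_perp_six hR hM hdim hp hq hpq hi hf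
    have hflip : ∀ {p q : V₀}, p ≠ 0 → q ∉ Submodule.span F₀ {y | y ∈ [p]} →
        p ∉ Submodule.span F₀ {y | y ∈ [q]} := by
      intro p q hp hq hpq
      rw [show {y | y ∈ [q]} = ({q} : Set V₀) by ext; simp, Submodule.mem_span_singleton] at hpq
      obtain ⟨k, rfl⟩ := hpq
      have hk : k ≠ 0 := fun e => hp (by rw [e, zero_smul])
      refine hq ?_
      have := Submodule.smul_mem _ k⁻¹ (Submodule.subset_span (R := F₀)
        (show k • q ∈ {y | y ∈ [k • q]} by simp))
      rwa [inv_smul_smul₀ hk] at this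
    by_cases hde : B (d : V) (e : V) = 0
    · by_cases hi : d ∈ Submodule.span F₀ {y | y ∈ [e]}
      swap
      · exact hstep hd hee hde hi h
      -- a proportional vector
      obtain ⟨m, hm, hmm, hmL⟩ := hR.exists_iso_outside [e] (Submodule.span F₀ {y | y ∈ [e]}) (by simp; omega)
        (by have := IsOFrame.finrank_span_list_le hR [e]; simp at this ⊢; omega)
      have hdm : d ∉ Submodule.span F₀ {y | y ∈ [m]} := by
        refine hflip hd0 fun h' => hm ?_
        refine (Submodule.span_le.2 fun y hy => ?_ : Submodule.span F₀ {y | y ∈ [d]} ≤ _) h'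
        simp only [Set.mem_setOf_eq, List.mem_singleton] at hy
        rw [hy]; exact hi
      refine hstep hmm hee (hR.symm_zero (hmL e (by simp))) hm (hstep hd hmm ?_ hdm h)
      rw [show {y | y ∈ [e]} = ({e} : Set V₀) by ext; simp, Submodule.mem_span_singleton] at hi
      obtain ⟨k, rfl⟩ := hi
      simp [coe_smul_eq, hmL e (by simp)]
    obtain ⟨m, hm0, hmm, hdm, hem⟩ := hR.exists_iso_perp_two (by omega) d e
    refine hstep hmm hee (hR.symm_zero hem) (fun h' => hm0 ?_) (hstep hd hmm hdm (hflip hd0 fun h' => hm0 ?_) h)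
    · rw [show {y | y ∈ [e]} = ({e} : Set V₀) by ext; simp, Submodule.mem_span_singleton] at h'
      obtain ⟨k, rfl⟩ := h'
      simp only [SetLike.val_smul, coe_smul_eq, map_smul, smul_eq_mul, mul_eq_zero] at hdm
      rw [show k = 0 from Subtype.ext (hdm.resolve_right hde), zero_smul]
    · rw [show {y | y ∈ [d]} = ({d} : Set V₀) by ext; simp, Submodule.mem_span_singleton] at h'
      obtain ⟨k, rfl⟩ := h'
      simp only [SetLike.val_smul, coe_smul_eq, map_smul, smul_eq_mul, mul_eq_zero] at hem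
      rw [show k = 0 from Subtype.ext (hem.resolve_right fun e' => hde (hR.symm_zero e')), zero_smul]
  refine hR.herm.sIsom_le_of_axes hR.nondeg hn fun v hvv => ?_
  by_cases hv0 : v = 0
  · rw [hv0]; exact hR.herm.isTAxis_zero M
  obtain ⟨u, huu, huv⟩ : ∃ u : V₀, B (u : V) (u : V) = 0 ∧ B (u : V) v ≠ 0 := by
    by_contra hc
    push Not at hc
    refine hv0 (hR.sep fun z hz => ?_)
    have hz' : (⟨z, hz⟩ : V₀) ∈ Submodule.span F₀ (IsOFrame.isoPerp B V₀ []) :=
      hR.mem_span_iso [] (by simp; omega) (by simp)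
    suffices ∀ y ∈ Submodule.span F₀ (IsOFrame.isoPerp B V₀ []), B (y : V) v = 0 from this _ hz'
    intro y hy
    induction hy using Submodule.span_induction with
    | mem y hy => exact hc y hy.1
    | zero => simp
    | add a b _ _ ha hb => simp [ha, hb]
    | smul c a _ ha => simp [coe_smul_eq, ha]
  have hu0 : u ≠ 0 := by rintro rfl; simp at huv
  obtain ⟨f, hff, huf, hfu, -⟩ := hR.exists_iso_partner huu [] (by simp; omega) (by simpa using hu0)
  have hf0 : f ≠ 0 := by rintro rfl; simp at huf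
  suffices IsTAxis M ((B (u : V) v)⁻¹ • v) by
    have h' := this.smul hR.invol huv
    rwa [smul_smul, mul_inv_cancel₀ huv, one_smul] at h'
  set v₁ := (B (u : V) v)⁻¹ • v with hv₁
  have huv₁ : B (u : V) v₁ = 1 := by rw [hv₁, map_smul, smul_eq_mul, inv_mul_cancel₀ huv]
  have hvu₁ : B v₁ (u : V) = 1 := by rw [← hR.symm, huv₁, map_one]
  have hvv₁ : B v₁ v₁ = 0 := by rw [hv₁, hR.herm.smul_self, hvv, mul_zero]
  set y := v₁ - (f : V)
  obtain ⟨-, φ, hφ, c, hc⟩ := hfull u huu hu0 y (by rw [map_sub, huv₁, huf, sub_self])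
  set κ := c - B y (f : V)
  have e : φ.1 (f : V) = v₁ + κ • (u : V) := by
    rw [hc, huf]
    simp only [y, κ]
    module
  have hiso : B (v₁ + κ • (u : V)) (v₁ + κ • (u : V)) = 0 := by rw [← e, isomGroup_apply, hff]
  have hκ : κ + σ κ = 0 := by
    simp only [map_add, map_smul, map_smulₛₗ, LinearMap.add_apply, LinearMap.smul_apply, RingHom.id_apply,
      smul_eq_mul, hvv₁, huv₁, hvu₁, huu] at hiso
    linear_combination hiso
  obtain ⟨t, ht⟩ := hR.herm.exists_uTv hR.nondeg (v := (u : V)) (c := -κ) huu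
    (by rw [map_neg, ← neg_add, hκ, neg_zero])
  have htM := isTAxis_of_full hR (hM.ratSg hR) hdim huu (hfull u huu hu0) t _ ht
  have htv : (t * φ).1 (f : V) = v₁ := by
    rw [Subgroup.coe_mul, LinearEquiv.mul_apply, e, ht.2.2]
    simp only [map_add, map_smul, smul_eq_mul, huv₁, huu]
    module
  have := (isTAxis_of_full hR (hM.ratSg hR) hdim hff (hfull f hff hf0)).map (mul_mem htM hφ)
  rwa [htv] at this

/-- The top argument, from dimension six on. -/
theorem orth_top_six (hF : finrank F₀ F = 2) (hn : 4 ≤ finrank F V) {g : isomGroup B} (hg : g ∈ M)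
    (hnot : ¬ ∃ s : F, s ≠ 0 ∧ ∀ f ∈ V₀, s • g.1 f ∈ V₀) : sIsom B ≤ M := by
  classical
  have hM' := hM.ratSg hR
  suffices hbad : ∃ p : V₀, B (p : V) (p : V) ≠ 0 ∧ ∀ a b : V₀, (a : V) + ε • (b : V) = g.1 (p : V) →
      ∀ k l : F₀, k • a + l • b = 0 → k = 0 ∧ l = 0 by
    obtain ⟨p, hpp, hbad⟩ := hbad
    obtain ⟨a, b, hab⟩ := hR.vec_decomp (g.1 (p : V))
    have hind := hbad a b hab
    set P := g.1 (p : V) with hPdef
    set PL := Submodule.span F₀ ({a, b} : Set V₀) with hPL
    -- an isotropic vector orthogonal to both parts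
    obtain ⟨d, hdd, hda, hdb, hdPL⟩ : ∃ d : V₀, B (d : V) (d : V) = 0 ∧ B (d : V) (a : V) = 0 ∧
        B (d : V) (b : V) = 0 ∧ d ∉ PL := by
      set N := LinearMap.ker (hR.form₀ a) ⊓ LinearMap.ker (hR.form₀ b) with hN
      have hN4 := hR.finrank_perp_two a b
      have hPL2 : finrank F₀ PL ≤ 2 := by
        refine (finrank_span_le_card (R := F₀) ({a, b} : Set V₀)).trans ?_
        simp only [Set.toFinset_insert, Set.toFinset_singleton]
        exact Finset.card_insert_le _ _
      have hne : ¬ PL ≤ N := fun hle => hpp (by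
        obtain ⟨ha1, hb1⟩ := hle (Submodule.subset_span (show a ∈ ({a, b} : Set V₀) by simp))
        obtain ⟨ha2, hb2⟩ := hle (Submodule.subset_span (show b ∈ ({a, b} : Set V₀) by simp))
        rw [← isomGroup_apply g (p : V), ← hPdef, ← hab]
        simp [hR.form₀_eq_zero.1 ha1, hR.form₀_eq_zero.1 hb1, hR.form₀_eq_zero.1 ha2, hR.form₀_eq_zero.1 hb2])
      have hlt : finrank F₀ ↥(PL ⊓ N) < finrank F₀ PL :=
        Submodule.finrank_lt_finrank_of_lt (lt_of_le_of_ne inf_le_left fun e => hne (e ▸ inf_le_right))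
      obtain ⟨C, hC⟩ := Submodule.exists_isCompl (PL ⊓ N)
      have h1 := Submodule.finrank_sup_add_finrank_inf_eq N C
      have h2 := Submodule.finrank_add_eq_of_isCompl hC
      have h3 := Submodule.finrank_le (N ⊔ C)
      obtain ⟨d, ⟨⟨hda, hdb⟩, hdC⟩, hd0, hdd⟩ := hR.exists_iso_mem (U := N ⊓ C) (by
        change finrank F₀ V₀ ≤ finrank F₀ N + 2 at hN4
        omega)
      exact ⟨d, hdd, hR.symm_zero (hR.form₀_eq_zero.1 hda), hR.symm_zero (hR.form₀_eq_zero.1 hdb),
        fun h => hd0 (Submodule.disjoint_def.1 hC.disjoint d ⟨h, hda, hdb⟩ hdC)⟩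
    have hdP : B (d : V) P = 0 := by rw [← hab, map_add, map_smul, hda, hdb, smul_zero, add_zero]
    obtain ⟨d₀, d₁, hd'⟩ := hR.vec_decomp ((g⁻¹ : isomGroup B).1 (d : V))
    -- the second reflection
    set N := LinearMap.ker (hR.form₀ d₀) ⊓ LinearMap.ker (hR.form₀ d₁) with hNdef
    let E : Submodule F V := Submodule.span F {(d : V), (a : V), (b : V)}
    let T : V₀ →ₗ[F₀] V :=
      { toFun := fun x => g.1 (x : V)
        map_add' := fun a b => by simp
        map_smul' := fun c a => by simp [coe_smul_eq] }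
    set X := (E.restrictScalars F₀).comap T with hX
    obtain ⟨q, hqN, hqX, hqq⟩ : ∃ q ∈ N, q ∉ X ∧ B (q : V) (q : V) ≠ 0 := by
      have hN4 := hR.finrank_perp_two d₀ d₁
      change finrank F₀ V₀ ≤ finrank F₀ N + 2 at hN4
      refine hR.exists_aniso_outside (by omega) fun hle => ?_
      let Φ : X × X →ₗ[F₀] (E.restrictScalars F₀) :=
        { toFun := fun x => ⟨g.1 ((x.1 : V₀) : V) + ε • g.1 ((x.2 : V₀) : V),
            E.add_mem x.1.2 (E.smul_mem _ x.2.2)⟩
          map_add' := fun x y => Subtype.ext (by simp; module)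
          map_smul' := fun c x => Subtype.ext (by simp [coe_smul_eq, smul_add, smul_comm ε]) }
      have hΦ : Function.Injective Φ := (injective_iff_map_eq_zero _).2 fun x hx => by
        have e : g.1 (((x.1 : V₀) : V) + ε • ((x.2 : V₀) : V)) = 0 := by
          rw [map_add, map_smul]; exact congrArg Subtype.val hx
        obtain ⟨e1, e2⟩ := hR.vec_zero (g.1.map_eq_zero_iff.1 e)
        exact Prod.ext (Subtype.ext e1) (Subtype.ext e2)
      have h1 := LinearMap.finrank_le_finrank_of_injective hΦ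
      rw [finrank_prod] at h1
      have h2 : finrank F₀ (E.restrictScalars F₀) = 2 * finrank F E := by
        rw [← hF]
        exact (Module.finrank_mul_finrank F₀ F E).symm
      have h3 : finrank F E ≤ 3 := by
        have := finrank_span_finset_le_card (R := F) ({(d : V), (a : V), (b : V)} : Finset V)
        simp only [Finset.coe_insert, Finset.coe_singleton] at this
        exact this.trans Finset.card_le_three
      have h4 := Submodule.finrank_mono hle
      omega
    set Q := g.1 (q : V) with hQdef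
    obtain ⟨qa, qb, hq'⟩ := hR.vec_decomp Q
    have hdQ : B (d : V) Q = 0 := by
      have h2 : g.1 ((g⁻¹ : isomGroup B).1 (d : V)) = (d : V) := g.1.apply_symm_apply _
      rw [hQdef, ← h2, isomGroup_apply, ← hd']
      simp [hR.form₀_eq_zero.1 hqN.1, hR.form₀_eq_zero.1 hqN.2]
    set S := Submodule.span F₀ ({d, qa, qb} : Set V₀) with hS
    -- a rational vector seeing the first reflection only
    obtain ⟨u, hud, huqa, huqb, huP⟩ : ∃ u : V₀, B (d : V) (u : V) = 0 ∧ B (u : V) (qa : V) = 0 ∧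
        B (u : V) (qb : V) = 0 ∧ B (u : V) P ≠ 0 := by
      have hout : a ∉ S ∨ b ∉ S := by
        by_contra hc
        push Not at hc
        have h3 : Submodule.span F₀ ({d, a, b} : Set V₀) ≤ S := Submodule.span_le.2 (by
          rintro y (rfl | rfl | rfl)
          · exact Submodule.subset_span (by simp)
          · exact hc.1
          · exact hc.2)
        have hS3 : finrank F₀ S ≤ 3 := by
          have := finrank_span_finset_le_card (R := F₀) ({d, qa, qb} : Finset V₀)
          simp only [Finset.coe_insert, Finset.coe_singleton] at this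
          exact this.trans Finset.card_le_three
        have hli : LinearIndependent F₀ ![d, a, b] := by
          rw [Fintype.linearIndependent_iff]
          intro c hc0
          simp only [Fin.sum_univ_three, Matrix.cons_val_zero, Matrix.cons_val_one, Matrix.cons_val] at hc0
          have hc00 : c 0 = 0 := by
            by_contra h0
            refine hdPL ?_
            rw [show d = (c 0)⁻¹ • (-(c 1 • a + c 2 • b)) by
              rw [← eq_neg_of_add_eq_zero_left (show c 0 • d + (c 1 • a + c 2 • b) = 0 by rw [← hc0]; abel),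
                inv_smul_smul₀ h0]]
            exact PL.smul_mem _ (PL.neg_mem (PL.add_mem (PL.smul_mem _ (Submodule.subset_span (by simp)))
              (PL.smul_mem _ (Submodule.subset_span (by simp)))))
          rw [hc00, zero_smul, zero_add] at hc0
          obtain ⟨h1, h2⟩ := hind _ _ hc0
          intro i; fin_cases i <;> assumption
        have e := finrank_span_eq_card hli
        rw [Fintype.card_fin, Matrix.range_cons, Matrix.range_cons, Matrix.range_cons, Matrix.range_empty,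
          Set.union_empty, Set.singleton_union, Set.singleton_union] at e
        have heq := Submodule.eq_of_le_of_finrank_le h3 (by omega)
        refine hqX ?_
        show Q ∈ E
        have hmem : ∀ x ∈ S, (x : V) ∈ E := by
          rw [← heq]
          intro x hx
          induction hx using Submodule.span_induction with
          | mem x hx =>
            simp at hx
            rcases hx with rfl | rfl | rfl <;> exact Submodule.subset_span (by simp)
          | zero => simp
          | add x y _ _ hx hy => exact E.add_mem hx hy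
          | smul c x _ hx => rw [SetLike.val_smul, coe_smul_eq]; exact E.smul_mem _ hx
        rw [← hq']
        exact E.add_mem (hmem _ (Submodule.subset_span (by simp))) (E.smul_mem _ (hmem _ (Submodule.subset_span (by simp))))
      obtain ⟨f, hf, hfS⟩ : ∃ f : V₀ →ₗ[F₀] F₀, (f a ≠ 0 ∨ f b ≠ 0) ∧ S.map f = ⊥ := by
        rcases hout with h | h <;> obtain ⟨f, hfv, hfS⟩ := Submodule.exists_dual_map_eq_bot_of_notMem h inferInstance
        exacts [⟨f, Or.inl hfv, hfS⟩, ⟨f, Or.inr hfv, hfS⟩]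
      obtain ⟨u, hu⟩ := hR.exists_of_dual f
      have h0 : ∀ y ∈ ({d, qa, qb} : Set V₀), B (u : V) (y : V) = 0 := fun y hy => by
        rw [hu, show f y = 0 from (Submodule.eq_bot_iff _).1 hfS _ (Submodule.mem_map_of_mem (Submodule.subset_span hy))]
        rfl
      refine ⟨u, hR.symm_zero (h0 d (by simp)), h0 qa (by simp), h0 qb (by simp), fun h => ?_⟩
      rw [← hab, map_add, map_smul, smul_eq_mul] at h
      obtain ⟨h1, h2⟩ := hR.scalar_zero (hR.form _ u.2 _ a.2) (hR.form _ u.2 _ b.2) h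
      rw [hu] at h1 h2
      exact hf.elim (fun hf => hf (Subtype.ext h1)) (fun hf => hf (Subtype.ext h2))
    have hQu : B Q (u : V) = 0 := by
      apply hR.symm_zero
      rw [← hq', map_add, map_smul, huqa, huqb, smul_zero, add_zero]
    -- the conjugate of the pair of reflections
    obtain ⟨r, s, hr, hs, hrs⟩ := hR.refl_pair hM hpp hqq
    set t := (g * r * g⁻¹) * (g * s * g⁻¹) with ht
    have htM : t ∈ M := by
      rw [ht, show (g * r * g⁻¹) * (g * s * g⁻¹) = g * (r * s) * g⁻¹ by group]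
      exact mul_mem (mul_mem hg hrs) (inv_mem hg)
    have htd : t.1 (d : V) = d := by
      rw [ht, Subgroup.coe_mul, LinearEquiv.mul_apply, hR.refl_fix (hR.refl_conj hs g) (hR.symm_zero hdQ),
        hR.refl_fix (hR.refl_conj hr g) (hR.symm_zero hdP)]
    have htu : t.1 (u : V) = (u : V) + (-(2 / B P P * B P (u : V))) • P := by
      rw [ht, Subgroup.coe_mul, LinearEquiv.mul_apply, hR.refl_fix (hR.refl_conj hs g) hQu, hR.refl_conj hr g _,
        ← hPdef]
      module
    obtain ⟨-, k, hk, c, hc⟩ := rad_rational hR hM' hdim hdd hud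
    have hconj := hc.conj t
    rw [htd, htu] at hconj
    set κ := -(2 / B P P * B P (u : V)) with hκ
    have hκ0 : κ ≠ 0 := neg_ne_zero.2 (mul_ne_zero (div_ne_zero hR.two
      (by rw [hPdef, isomGroup_apply]; exact hpp)) fun h => huP (hR.symm_zero h))
    have hrad : κ • P ∈ Rad M (d : V) := by
      have h1 : (u : V) + κ • P ∈ Rad M (d : V) :=
        ⟨by simp [hud, hdP], _, mul_mem (mul_mem htM hk) (inv_mem htM), c, hconj⟩
      have h2 := rad_add hR.herm hdd h1 (rad_neg hR.herm hdd ⟨hud, k, hk, c, hc⟩)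
      rwa [add_neg_cancel_comm] at h2
    obtain ⟨k₀, k₁, hk'⟩ := hR.scalar_decomp κ
    let x₀ : V₀ := k₀ • a + (⟨ε * ε, hR.eps_sq⟩ * k₁ : F₀) • b
    let x₁ : V₀ := k₁ • a + k₀ • b
    have hx : (x₀ : V) + ε • (x₁ : V) = κ • P := by
      rw [← hk', ← hab]
      simp only [x₀, x₁, Submodule.coe_add, SetLike.val_smul, coe_smul_eq, Subfield.coe_mul]
      module
    have hd0 : d ≠ 0 := fun h => hdPL (by rw [h]; exact zero_mem _)
    refine sIsom_le_of_full_six hR hM hdim hn hdd hd0 (full_of_seed_six hR hM hdim hdd (hx.symm ▸ hrad) ?_)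
    rw [show {z | z ∈ [d]} = ({d} : Set V₀) by ext; simp, Submodule.mem_span_singleton]
    rintro ⟨c, hc⟩
    rcases eq_or_ne c 0 with rfl | hc0
    · rw [zero_smul] at hc
      obtain ⟨h1, h0⟩ := hind k₁ k₀ hc.symm
      refine hκ0 ?_
      rw [← hk', h1, h0]
      simp
    · refine hdPL ?_
      rw [show d = c⁻¹ • x₁ by rw [← hc, inv_smul_smul₀ hc0]]
      exact PL.smul_mem _ (PL.add_mem (PL.smul_mem _ (Submodule.subset_span (by simp)))
        (PL.smul_mem _ (Submodule.subset_span (by simp))))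
  by_contra hgood
  push Not at hgood
  -- every image of an anisotropic vector is a multiple of a rational vector
  have haniso : ∀ p : V₀, B (p : V) (p : V) ≠ 0 → ∃ (c : F) (v : V₀), g.1 (p : V) = c • (v : V) := by
    intro p hpp
    obtain ⟨y₀, y₁, hy, k, l, hkl, hne⟩ := hgood p hpp
    rw [← hy]
    by_cases hk : k = 0
    · refine ⟨1, y₀, ?_⟩
      rw [hk, zero_smul, zero_add] at hkl
      rw [(smul_eq_zero.1 hkl).resolve_left (hne hk)]; simp
    · refine ⟨-((l : F) / (k : F)) + ε, y₁, ?_⟩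
      have e0 : y₀ = -(l / k) • y₁ := by
        have e' : k • y₀ = -(l • y₁) := eq_neg_of_add_eq_zero_left hkl
        rw [← inv_smul_smul₀ hk y₀, e', smul_neg, smul_smul, neg_smul, inv_mul_eq_div]
      rw [e0]
      simp only [Submodule.coe_neg, SetLike.val_smul, coe_smul_eq, Subfield.coe_div, neg_smul]
      module
  -- and so are the images of isotropic vectors
  have himg : ∀ e : V₀, B (e : V) (e : V) = 0 → ∃ (c : F) (v : V₀), g.1 (e : V) = c • (v : V) := by
    intro e hee
    obtain ⟨p, hpN, -, hpp⟩ := hR.exists_aniso_outside (N := LinearMap.ker (hR.form₀ e)) (X := ⊥)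
      (by
        have := (hR.form₀ e).finrank_range_add_finrank_ker
        have h2 : finrank F₀ (LinearMap.range (hR.form₀ e)) ≤ 1 := (Submodule.finrank_le _).trans (by simp)
        omega)
      (fun h => by
        have h1 := Submodule.finrank_mono h
        have := (hR.form₀ e).finrank_range_add_finrank_ker
        have h2 : finrank F₀ (LinearMap.range (hR.form₀ e)) ≤ 1 := (Submodule.finrank_le _).trans (by simp)
        rw [finrank_bot] at h1
        omega)
    have hep := hR.form₀_eq_zero.1 hpN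
    obtain ⟨c, r, hr⟩ := haniso p hpp
    obtain ⟨c₁, r₁, h₁⟩ := haniso (e + p) (by simpa [hee, hep, hR.symm_zero hep] using hpp)
    obtain ⟨c₂, r₂, h₂⟩ := haniso (e - p) (by simpa [hee, hep, hR.symm_zero hep] using hpp)
    rw [Submodule.coe_add, map_add, hr] at h₁
    rw [Submodule.coe_sub, map_sub, hr] at h₂
    have hc : c ≠ 0 := fun h0 => hpp (by
      rw [← isomGroup_apply g (p : V), hr, h0, zero_smul, map_zero])
    obtain ⟨a₁, b₁, e₁⟩ := hR.scalar_decomp (c⁻¹ * c₁)
    obtain ⟨a₂, b₂, e₂⟩ := hR.scalar_decomp (c⁻¹ * c₂)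
    have he : c⁻¹ • g.1 (e : V) = (c⁻¹ * c₁) • (r₁ : V) - (r : V) := by
      rw [mul_smul, ← h₁, smul_add, inv_smul_smul₀ hc]; abel
    have he' : c⁻¹ • g.1 (e : V) = (c⁻¹ * c₂) • (r₂ : V) + (r : V) := by
      rw [mul_smul, ← h₂, smul_sub, inv_smul_smul₀ hc]; abel
    have hz := hR.vec_zero (a := a₁ • r₁ - a₂ • r₂ - (2 : F₀) • r) (b := b₁ • r₁ - b₂ • r₂) (by
      have e := he.symm.trans he'
      rw [← e₁, ← e₂] at e
      simp only [Submodule.coe_sub, SetLike.val_smul, coe_smul_eq]
      rw [show ((2 : F₀) : F) = 2 from rfl]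
      linear_combination (norm := module) e)
    suffices h : ∃ (k : F) (v : V₀), c⁻¹ • g.1 (e : V) = k • (v : V) by
      obtain ⟨k, v, hv⟩ := h
      exact ⟨c * k, v, by rw [mul_smul, ← hv, smul_inv_smul₀ hc]⟩
    by_cases hb₁ : b₁ = 0
    · refine ⟨1, a₁ • r₁ - r, ?_⟩
      rw [he, ← e₁, hb₁]
      simp [coe_smul_eq]
    by_cases hb₂ : b₂ = 0
    · refine ⟨1, a₂ • r₂ + r, ?_⟩
      rw [he', ← e₂, hb₂]
      simp [coe_smul_eq]
    set s := b₁ / b₂
    have hr₂ : r₂ = s • r₁ := by
      rw [show s = b₂⁻¹ * b₁ from div_eq_inv_mul _ _, mul_smul, sub_eq_zero.1 hz.2, inv_smul_smul₀ hb₂]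
    set w : F₀ := (a₁ - a₂ * s) / 2
    have hrr : r = w • r₁ := by
      have e3 := sub_eq_zero.1 hz.1
      rw [hr₂, smul_smul, ← sub_smul] at e3
      rw [show w = 2⁻¹ * (a₁ - a₂ * s) from div_eq_inv_mul _ _, mul_smul, e3, inv_smul_smul₀ hR.two₀]
    refine ⟨c⁻¹ * c₁ - (w : F), r₁, ?_⟩
    rw [he, hrr, SetLike.val_smul, coe_smul_eq, sub_smul]
  -- orthogonal vectors have the same scalar
  have hstep : ∀ {s : F}, s ≠ 0 → ∀ m e : V₀, B (m : V) (m : V) = 0 → B (e : V) (e : V) = 0 →
      B (m : V) (e : V) = 0 → m ≠ 0 → s • g.1 (m : V) ∈ V₀ → s • g.1 (e : V) ∈ V₀ := by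
    intro s hs m e hmm hee hme hm0 hsm
    obtain ⟨c', v', hv'⟩ := himg e hee
    obtain ⟨c'', v'', hv''⟩ := himg (m + e) (by simp [hmm, hee, hme, hR.symm_zero hme])
    set v : V₀ := ⟨_, hsm⟩
    have hv : (v : V) = s • g.1 (m : V) := rfl
    have hv0 : v ≠ 0 := fun h => hm0 (Subtype.ext (g.1.injective (by
      have : s • g.1 (m : V) = 0 := by rw [← hv, h]; rfl
      rw [(smul_eq_zero.1 this).resolve_left hs]; simp)))
    have hsum : (v : V) + (s * c') • (v' : V) = (s * c'') • (v'' : V) := by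
      rw [hv, mul_smul, mul_smul, ← smul_add, ← hv', ← hv'', Submodule.coe_add, map_add]
    rw [hv', smul_smul]
    obtain ⟨a₀, a₁, ha⟩ := hR.scalar_decomp (s * c')
    obtain ⟨b₀, b₁, hb⟩ := hR.scalar_decomp (s * c'')
    rw [← ha, ← hb] at hsum
    have hz := hR.vec_zero (a := v + a₀ • v' - b₀ • v'') (b := a₁ • v' - b₁ • v'') (by
      simp only [Submodule.coe_add, Submodule.coe_sub, SetLike.val_smul, coe_smul_eq]
      linear_combination (norm := module) hsum)
    by_cases ha1 : a₁ = 0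
    · rw [← ha, ha1]
      simp only [ZeroMemClass.coe_zero, mul_zero, add_zero]
      exact smul_mem' a₀.2 v'.2
    -- otherwise the second vector is proportional to the first
    have e1 : a₁ • v' = b₁ • v'' := sub_eq_zero.1 hz.2
    have e0 : v + a₀ • v' = b₀ • v'' := sub_eq_zero.1 hz.1
    have e' : v' = (b₁ / a₁) • v'' := by
      rw [← inv_smul_smul₀ ha1 v', e1, smul_smul, inv_mul_eq_div]
    have ev : v = (b₀ - a₀ * (b₁ / a₁)) • v'' := by
      rw [sub_smul, mul_smul, ← e', ← e0, add_sub_cancel_right]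
    set k := b₀ - a₀ * (b₁ / a₁) with hk
    have hk0 : k ≠ 0 := fun h => hv0 (by rw [ev, h, zero_smul])
    have ev' : (v' : V) = ((b₁ / a₁ : F₀) : F) • ((k⁻¹ : F₀) : F) • (v : V) := by
      have : v' = (b₁ / a₁) • k⁻¹ • v := by rw [ev, inv_smul_smul₀ hk0, e']
      rw [← coe_smul_eq, ← coe_smul_eq]
      exact congrArg Subtype.val this
    -- so `e` is a multiple of `m`
    set l : F := c' * ((b₁ / a₁ : F₀) : F) * ((k⁻¹ : F₀) : F) * s
    have hem : (e : V) = l • (m : V) := by
      apply g.1.injective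
      rw [map_smul, hv', ev', hv, smul_smul, smul_smul, smul_smul]
    have hl : l ∈ F₀ := by
      obtain ⟨f, -, hmf, hfm, -⟩ := hR.exists_iso_partner hmm [] (by simp; omega) (by simpa using hm0)
      have := hR.form _ f.2 _ e.2
      rwa [hem, map_smul, hfm, smul_eq_mul, mul_one] at this
    rw [← smul_smul, ← hv', hem, map_smul, smul_comm]
    exact smul_mem' hl hsm
  obtain ⟨e₀, he₀, he₀e₀, -⟩ := hR.exists_iso_outside [] ⊥ (by simp; omega) (by simp; omega)
  obtain ⟨c, v₀, hv₀⟩ := himg e₀ he₀e₀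
  have he₀' : e₀ ≠ 0 := fun h => he₀ (by simp [h])
  have hc : c ≠ 0 := fun h => he₀' (Subtype.ext (g.1.injective (by rw [hv₀, h]; simp)))
  refine hnot ⟨c⁻¹, inv_ne_zero hc, fun f hf => ?_⟩
  have hspan : ⟨f, hf⟩ ∈ Submodule.span F₀ (IsOFrame.isoPerp B V₀ []) :=
    hR.mem_span_iso [] (by simp; omega) (by simp)
  let P : Submodule F₀ V₀ :=
    { carrier := {x | c⁻¹ • g.1 (x : V) ∈ V₀}
      add_mem' := fun {a b} ha hb => by
        show c⁻¹ • g.1 ((a + b : V₀) : V) ∈ V₀
        rw [Submodule.coe_add, map_add, smul_add]; exact add_mem ha hb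
      zero_mem' := by simp
      smul_mem' := fun k a ha => by
        show c⁻¹ • g.1 ((k • a : V₀) : V) ∈ V₀
        rw [SetLike.val_smul, coe_smul_eq, map_smul, smul_comm]; exact smul_mem' k.2 ha }
  refine (Submodule.span_le (p := P)).2 (fun e he => ?_) hspan
  obtain ⟨m, hm0, hmm, hm₀, hme⟩ := hR.exists_iso_perp_two (by omega) e₀ e
  have h1 : c⁻¹ • g.1 (m : V) ∈ V₀ := hstep (inv_ne_zero hc) e₀ m he₀e₀ hmm hm₀ he₀'
    (by rw [hv₀, inv_smul_smul₀ hc]; exact v₀.2)
  exact hstep (inv_ne_zero hc) m e hmm he.1 (hR.symm_zero hme) hm0 h1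

end CfsgLib.Classical.SubfieldOrth
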