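import Cfsg.Agent.Lib.Classical.SubfieldOrth.QuadTop
import Cfsg.Agent.Lib.Classical.SubfieldMax.Member
import Cfsg.Agent.Lib.Classical.OrthMaxPair

/-!
# Subfield groups are maximal in `Ω`
-/

set_option autoImplicit false
set_option linter.unusedSectionVars false
set_option backward.isDefEq.respectTransparency false

open Module QuadraticMap CfsgLib.Orth Matrix

namespace CfsgLib.Classical.SubfieldOrth

variable {F : Type*} [Field F] [Fintype F] {ι : Type} [Fintype ι] [DecidableEq ι] {Qf : (ι → F) → F}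

theorem subfield_isMaximalIn (Q : QuadraticForm F (ι → F)) (hQf : ∀ v, Qf v = Q v)
    (hQ : (QuadraticMap.polarBilin Q).Nondegenerate) (h4 : Good F (ι → F)) (hn : 7 ≤ Fintype.card ι)
    (F₀ : Subfield F) {r : ℕ} (hr : r.Prime) (hcard : Fintype.card F = Nat.card F₀ ^ r) (P : GL ι F)
    {ζ : F} (hζ : ζ ≠ 0)
    (hP : Cfsg.Geo.IsQuadFormRationalStructure (fun v : ι → F => ζ * Qf v) F₀ P) :
    Cfsg.Geo.IsMaximalIn (Cfsg.Geo.omegaGL Qf) (Cfsg.Geo.subfieldSubgroup F₀ P ⊓ Cfsg.Geo.omegaGL Qf) := by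
  classical
  let Pm : Matrix ι ι F := P
  let Pi' : Matrix ι ι F := ((P⁻¹ : GL ι F) : Matrix _ _ F)
  have hPP : ∀ x, Pm.mulVec (Pi'.mulVec x) = x := fun x => by
    rw [Matrix.mulVec_mulVec, ← Units.val_mul, mul_inv_cancel, Units.val_one, Matrix.one_mulVec]
  have hPP' : ∀ x, Pi'.mulVec (Pm.mulVec x) = x := fun x => by
    rw [Matrix.mulVec_mulVec, ← Units.val_mul, inv_mul_cancel, Units.val_one, Matrix.one_mulVec]
  let V₀ : Submodule F₀ (ι → F) :=
    { carrier := {x | ∀ i, Pi'.mulVec x i ∈ F₀}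
      add_mem' := fun {a b} ha hb i => by rw [Matrix.mulVec_add]; exact add_mem (ha i) (hb i)
      zero_mem' := fun i => by rw [Matrix.mulVec_zero]; exact zero_mem F₀
      smul_mem' := fun c a ha i => by
        rw [coe_smul_eq', Matrix.mulVec_smul]; exact mul_mem c.2 (ha i) }
  have hcol : ∀ j, Pm.mulVec (Pi.single j 1) ∈ V₀ := fun j i => by
    rw [hPP', Pi.single_apply]; split_ifs <;> [exact one_mem F₀; exact zero_mem F₀]
  have hR : IsQFrame Q V₀ ζ := by
    refine ⟨hQ, hζ, fun u hu => ?_, eq_top_iff.2 fun x _ => ?_⟩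
    · have h := hP _ hu
      simp only [show (P : Matrix ι ι F).mulVec (Pi'.mulVec u) = u from hPP u, hQf] at h
      exact h
    · rw [show x = ∑ j, Pi'.mulVec x j • Pm.mulVec (Pi.single j 1) by
        rw [← (Finset.sum_congr rfl fun j _ => Matrix.mulVec_smul Pm (Pi'.mulVec x j) (Pi.single j 1)),
          ← Matrix.mulVec_sum]
        conv_lhs => rw [← hPP x]
        congr 1
        ext i; simp [Finset.sum_apply, Pi.single_apply]]
      exact Submodule.sum_mem _ fun j _ => Submodule.smul_mem _ _ (Submodule.subset_span (hcol j))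
  have hdim : 7 ≤ finrank F₀ V₀ := le_trans (by simp; omega) hR.finrank_le
  have hn5 : 5 ≤ finrank F (ι → F) := by simp; omega
  have hmv : ∀ (g : orthGroup Q) (v : ι → F),
      (orthToGL Q hQf g : Matrix ι ι F).mulVec v = g.1 v := fun g v => matOf_mulVec Q g v
  have hP' : ∀ g : orthGroup Q, orthToGL Q hQf g ∈ Cfsg.Geo.subfieldSubgroup F₀ P ↔
      ∃ s : F, s ≠ 0 ∧ ∀ f ∈ V₀, s • g.1 f ∈ V₀ := by
    intro g
    rw [SubfieldMax.mem_subfieldSubgroup_iff]
    refine exists_congr fun c => and_congr_right fun _ => ⟨fun h f hf i => ?_, fun h a b => ?_⟩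
    · have e : Pi'.mulVec (c • g.1 f) =
          (c • ((P⁻¹ * orthToGL Q hQf g * P : GL ι F) : Matrix _ _ F)).mulVec (Pi'.mulVec f) := by
        rw [Matrix.mulVec_smul, Matrix.smul_mulVec, Units.val_mul, Units.val_mul, ← Matrix.mulVec_mulVec,
          ← Matrix.mulVec_mulVec, show (P : Matrix _ _ F).mulVec (Pi'.mulVec f) = f from hPP f, hmv]
      rw [e]
      simp only [Matrix.mulVec, dotProduct]
      refine Subfield.sum_mem _ fun j _ => mul_mem ?_ (hf j)
      exact h i j
    · have := h _ (hcol b) a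
      rw [Matrix.mulVec_smul, Pi.smul_apply, ← hmv, Matrix.mulVec_mulVec,
        Matrix.mulVec_mulVec, Matrix.mulVec_single_one] at this
      rw [Units.val_mul, Units.val_mul]
      exact this
  obtain ⟨μ, hμ⟩ : ∃ μ, μ ∉ F₀ := by
    by_contra hc
    push Not at hc
    have h1 : Fintype.card F ≤ Nat.card F₀ := by
      rw [← Nat.card_eq_fintype_card]
      exact Nat.card_le_card_of_injective (fun x => (⟨x, hc x⟩ : F₀)) fun a b e =>
        congrArg (fun z : F₀ => (z : F)) e
    have h2 : Nat.card F₀ ^ r ≤ Nat.card F₀ ^ 1 := by rw [pow_one, ← hcard]; exact h1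
    have h3 := (Nat.pow_le_pow_iff_right Finite.one_lt_card).1 h2
    have := hr.two_le
    omega
  refine omega_isMaximalIn_inf Q hQf _ ?_ fun M hM g hg hgΩ hgP => ?_
  · obtain ⟨k, hk, hkn⟩ := exists_not_rational hR hdim h4 hn5 hμ
    exact ⟨k, hk, fun h => hkn ((hP' k).1 h)⟩
  · refine quad_top hR hdim ?_ hr hcard h4 hn5 hg fun h => hgP ((hP' g).2 h)
    intro d u hd hu hdu s hs
    obtain ⟨hp⟩ := exists_hypPairs hQ hn5
    refine hM s (hs.mem_commutator hQ h4 hp hn5) ((hP' s).2 ⟨1, one_ne_zero, fun x hx => ?_⟩)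
    rw [one_smul, hs.2.2, quad_smul', hu, mul_zero, zero_mul, sub_zero, polar_smul_l', smul_smul]
    refine add_mem (add_mem hx (smul_memQ ?_ u.2)) (smul_memQ (neg_mem (hR.pol_mem u.2 hx)) d.2)
    rw [mul_comm]
    exact hR.pol_mem d.2 hx

end CfsgLib.Classical.SubfieldOrth
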