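import Cfsg.Agent.Lib.Classical.SimMaxBasic
import Cfsg.Agent.Lib.Classical.HermMax
import Cfsg.Agent.Lib.Classical.SubfieldMax.HermFrame

/-!
# Rational structures of orthogonal type for Hermitian forms
-/

set_option autoImplicit false
set_option linter.unusedSectionVars false

open Module

namespace CfsgLib.Classical.SubfieldOrth

open CfsgLib.Classical.SubfieldMax (coe_smul_eq smul_mem')

variable {F : Type*} [Field F] [Fintype F] {V : Type*} [AddCommGroup V] [Module F V] [FiniteDimensional F V]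
  {σ : F →+* F} {F₀ : Subfield F}

/-- A rational structure over the fixed field of the conjugation. -/
structure IsOFrame (B : V →ₛₗ[σ] V →ₗ[F] F) (V₀ : Submodule F₀ V) (ε : F) : Prop where
  herm : IsHermitian B
  nondeg : B.SeparatingRight
  fixed : ∀ c, c ∈ F₀ ↔ σ c = c
  two : (2 : F) ≠ 0
  eps_ne : ε ≠ 0
  eps_tr : σ ε = -ε
  form : ∀ u ∈ V₀, ∀ v ∈ V₀, B u v ∈ F₀
  spans : Submodule.span F (V₀ : Set V) = ⊤

variable {B : V →ₛₗ[σ] V →ₗ[F] F} {V₀ : Submodule F₀ V} {ε : F}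

namespace IsOFrame

variable (hR : IsOFrame B V₀ ε)
include hR

theorem symm (x y : V) : σ (B x y) = B y x := hR.herm.symm x y

theorem symm_zero {x y : V} (e : B x y = 0) : B y x = 0 := hR.herm.isRefl _ _ e

theorem invol (a : F) : σ (σ a) = a := hR.herm.conj.invol a

theorem sigma_coe (c : F₀) : σ (c : F) = c := (hR.fixed _).1 c.2

theorem comm₀ (u v : V₀) : B (u : V) (v : V) = B (v : V) (u : V) := by
  rw [← hR.symm, (hR.fixed _).1 (hR.form _ v.2 _ u.2)]

theorem eps_sq : ε * ε ∈ F₀ := (hR.fixed _).2 (by rw [map_mul, hR.eps_tr, neg_mul_neg])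

/-- Every scalar is a combination of one and the trace zero scalar. -/
theorem scalar_decomp (c : F) : ∃ a b : F₀, (a : F) + ε * b = c := by
  refine ⟨⟨(c + σ c) / 2, (hR.fixed _).2 ?_⟩, ⟨(c - σ c) / (2 * ε), (hR.fixed _).2 ?_⟩, ?_⟩
  · rw [map_div₀, map_add, hR.invol, map_ofNat, add_comm]
  · rw [map_div₀, map_sub, hR.invol, map_mul, map_ofNat, hR.eps_tr, mul_neg, div_neg, ← neg_div, neg_sub]
  · have := hR.two
    have := hR.eps_ne
    field_simp
    ring

theorem scalar_zero {a b : F} (ha : a ∈ F₀) (hb : b ∈ F₀) (h : a + ε * b = 0) : a = 0 ∧ b = 0 := by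
  have h2 := congrArg σ h
  rw [map_add, map_mul, (hR.fixed _).1 ha, (hR.fixed _).1 hb, hR.eps_tr, map_zero] at h2
  have ha0 : a = 0 := by
    have : (2 : F) * a = 0 := by linear_combination h + h2
    exact (mul_eq_zero.1 this).resolve_left hR.two
  rw [ha0, zero_add] at h
  exact ⟨ha0, (mul_eq_zero.1 h).resolve_left hR.eps_ne⟩

theorem sep {x : V} (h : ∀ u ∈ V₀, B u x = 0) : x = 0 := by
  refine hR.nondeg x fun y => ?_
  have hy : y ∈ Submodule.span F (V₀ : Set V) := hR.spans ▸ Submodule.mem_top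
  induction hy using Submodule.span_induction with
  | mem u hu => exact h u hu
  | zero => simp
  | add a b _ _ ha hb => simp [ha, hb]
  | smul c a _ ha => simp [ha]

/-- Every vector is a combination of two rational vectors. -/
theorem vec_decomp (x : V) : ∃ x₀ x₁ : V₀, (x₀ : V) + ε • (x₁ : V) = x := by
  have hx : x ∈ Submodule.span F (V₀ : Set V) := hR.spans ▸ Submodule.mem_top
  induction hx using Submodule.span_induction with
  | mem u hu => exact ⟨⟨u, hu⟩, 0, by simp⟩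
  | zero => exact ⟨0, 0, by simp⟩
  | add a b _ _ ha hb =>
    obtain ⟨a₀, a₁, rfl⟩ := ha
    obtain ⟨b₀, b₁, rfl⟩ := hb
    exact ⟨a₀ + b₀, a₁ + b₁, by push_cast; module⟩
  | smul c a _ ha =>
    obtain ⟨a₀, a₁, rfl⟩ := ha
    obtain ⟨c₀, c₁, rfl⟩ := hR.scalar_decomp c
    refine ⟨c₀ • a₀ + (⟨ε * ε, hR.eps_sq⟩ * c₁ : F₀) • a₁, c₁ • a₀ + c₀ • a₁, ?_⟩
    simp only [Submodule.coe_add, SetLike.val_smul, coe_smul_eq, Subfield.coe_mul]
    module

theorem vec_zero {a b : V₀} (h : (a : V) + ε • (b : V) = 0) : a = 0 ∧ b = 0 := by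
  have key : ∀ u ∈ V₀, B u (a : V) = 0 ∧ B u (b : V) = 0 := fun u hu => by
    have h1 := congrArg (B u) h
    rw [map_add, map_smul, map_zero, smul_eq_mul] at h1
    exact hR.scalar_zero (hR.form u hu _ a.2) (hR.form u hu _ b.2) h1
  exact ⟨Subtype.ext (hR.sep fun u hu => (key u hu).1), Subtype.ext (hR.sep fun u hu => (key u hu).2)⟩

theorem perp_parts {u : V₀} {x₀ x₁ : V₀} (h : B (u : V) ((x₀ : V) + ε • (x₁ : V)) = 0) :
    B (u : V) (x₀ : V) = 0 ∧ B (u : V) (x₁ : V) = 0 := by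
  rw [map_add, map_smul, smul_eq_mul] at h
  exact hR.scalar_zero (hR.form _ u.2 _ x₀.2) (hR.form _ u.2 _ x₁.2) h

/-! ### The restricted form -/

/-- The restricted bilinear form. -/
def form₀ : LinearMap.BilinForm F₀ V₀ :=
  LinearMap.mk₂ F₀ (fun a b => (⟨B (a : V) (b : V), hR.form _ a.2 _ b.2⟩ : F₀))
    (fun a b c => Subtype.ext (by simp))
    (fun c a b => Subtype.ext (by simp [coe_smul_eq, hR.sigma_coe]))
    (fun a b c => Subtype.ext (by simp))
    (fun c a b => Subtype.ext (by simp [coe_smul_eq]))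

theorem form₀_coe (a b : V₀) : ((hR.form₀ a b : F₀) : F) = B (a : V) (b : V) := rfl

theorem form₀_eq_zero {a b : V₀} : hR.form₀ a b = 0 ↔ B (a : V) (b : V) = 0 :=
  ⟨fun h => by rw [← hR.form₀_coe, h]; rfl, fun h => Subtype.ext h⟩

theorem two₀ : (2 : F₀) ≠ 0 := fun h => hR.two (congrArg (fun c : F₀ => (c : F)) h)

/-- The associated quadratic form. -/
def quad : QuadraticForm F₀ V₀ := LinearMap.BilinMap.toQuadraticMap hR.form₀

theorem quad_eq_zero {a : V₀} : hR.quad a = 0 ↔ B (a : V) (a : V) = 0 := hR.form₀_eq_zero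

theorem polar_quad (a b : V₀) : QuadraticMap.polarBilin hR.quad a b = 2 * hR.form₀ a b := by
  rw [QuadraticMap.polarBilin_apply_apply, quad, LinearMap.BilinMap.polar_toQuadraticMap,
    show hR.form₀ b a = hR.form₀ a b from Subtype.ext (hR.comm₀ b a), two_mul]

theorem polar_eq_zero {a b : V₀} : QuadraticMap.polarBilin hR.quad a b = 0 ↔ B (a : V) (b : V) = 0 := by
  rw [hR.polar_quad, mul_eq_zero, or_iff_right hR.two₀, hR.form₀_eq_zero]

theorem nondeg₀ : (QuadraticMap.polarBilin hR.quad).Nondegenerate := by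
  refine ⟨fun a ha => Subtype.ext (hR.sep fun u hu => hR.symm_zero (hR.polar_eq_zero.1 (ha ⟨u, hu⟩))),
    fun a ha => Subtype.ext (hR.sep fun u hu => hR.polar_eq_zero.1 (ha ⟨u, hu⟩))⟩

theorem exists_of_dual (f : V₀ →ₗ[F₀] F₀) : ∃ z : V₀, ∀ a : V₀, B (z : V) (a : V) = (f a : F) := by
  have hb : LinearMap.BilinForm.Nondegenerate hR.form₀ :=
    ⟨fun a ha => Subtype.ext (hR.sep fun u hu => hR.symm_zero (hR.form₀_eq_zero.1 (ha ⟨u, hu⟩))),
      fun a ha => Subtype.ext (hR.sep fun u hu => hR.form₀_eq_zero.1 (ha ⟨u, hu⟩))⟩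
  refine ⟨(LinearMap.BilinForm.toDual hR.form₀ hb).symm f, fun a => ?_⟩
  rw [← hR.form₀_coe, ← LinearMap.BilinForm.toDual_def hb, LinearEquiv.apply_symm_apply]

theorem finrank_le : finrank F V ≤ finrank F₀ V₀ := by
  let b := Module.finBasis F₀ V₀
  let g : Fin (finrank F₀ V₀) → V := fun i => (b i : V)
  have hsub : (V₀ : Set V) ⊆ Submodule.span F (Set.range g) := by
    intro u hu
    have e := congrArg Subtype.val (b.sum_repr ⟨u, hu⟩)
    simp only [Submodule.coe_sum, SetLike.val_smul] at e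
    rw [← e]
    exact Submodule.sum_mem _ fun i _ => Submodule.smul_mem _ _ (Submodule.subset_span ⟨i, rfl⟩)
  have htop : Submodule.span F (Set.range g) = ⊤ := eq_top_iff.2 (hR.spans ▸ Submodule.span_le.2 hsub)
  have := finrank_range_le_card (R := F) g
  rw [Set.finrank, htop, finrank_top, Fintype.card_fin] at this
  exact this

/-! ### Isotropic rational vectors -/

theorem finrank_span_list_le (L : List V₀) : finrank F₀ (Submodule.span F₀ {x | x ∈ L}) ≤ L.length := by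
  classical
  rw [show {x | x ∈ L} = (L.toFinset : Set V₀) by ext; simp]
  exact (finrank_span_finset_le_card _).trans L.toFinset_card_le

/-- Isotropic rational vectors orthogonal to a short list. -/
def isoPerp (B : V →ₛₗ[σ] V →ₗ[F] F) (V₀ : Submodule F₀ V) (L : List V₀) : Set V₀ :=
  {y | B (y : V) (y : V) = 0 ∧ ∀ a ∈ L, B (a : V) (y : V) = 0}

theorem mem_span_iso (L : List V₀) (h : 2 * L.length + 4 ≤ finrank F₀ V₀) {x : V₀}
    (hx : ∀ a ∈ L, B (a : V) (x : V) = 0) : x ∈ Submodule.span F₀ (isoPerp B V₀ L) := by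
  let w : Fin L.length → V₀ := fun i => L.get i
  have hw : ∀ z, z ∈ SimMax.perp hR.quad w ↔ ∀ a ∈ L, B (a : V) (z : V) = 0 := fun z => by
    rw [SimMax.mem_perp]
    exact ⟨fun h a ha => by obtain ⟨i, rfl⟩ := List.get_of_mem ha; exact hR.polar_eq_zero.1 (h i),
      fun h i => hR.polar_eq_zero.2 (h _ (List.get_mem L i))⟩
  haveI := Fintype.ofFinite F₀
  refine SimMax.le_of_singular_mem hR.nondeg₀ hR.two₀ (U := SimMax.perp hR.quad w) ?_ ?_ ((hw x).2 hx)
  · have := SimMax.finrank_perp_ge hR.quad w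
    omega
  · exact fun z hz hzQ => Submodule.subset_span ⟨hR.quad_eq_zero.1 hzQ, (hw z).1 hz⟩

theorem exists_iso_outside (L : List V₀) (S : Submodule F₀ V₀) (h : 2 * L.length + 4 ≤ finrank F₀ V₀)
    (hS : finrank F₀ S + L.length < finrank F₀ V₀) :
    ∃ y : V₀, y ∉ S ∧ B (y : V) (y : V) = 0 ∧ ∀ a ∈ L, B (a : V) (y : V) = 0 := by
  by_contra hc
  push Not at hc
  let w : Fin L.length → V₀ := fun i => L.get i
  have hle : SimMax.perp hR.quad w ≤ S := by
    intro x hx
    rw [SimMax.mem_perp] at hx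
    refine (Submodule.span_le (p := S)).2 ?_ (hR.mem_span_iso L h fun a ha => by
      obtain ⟨i, rfl⟩ := List.get_of_mem ha; exact hR.polar_eq_zero.1 (hx i))
    intro y hy
    by_contra hyS
    obtain ⟨a, ha, hne⟩ := hc y hyS hy.1
    exact hne (hy.2 a ha)
  have h1 := SimMax.finrank_perp_ge hR.quad w
  have h2 := Submodule.finrank_mono hle
  omega

/-- An isotropic vector pairing to one with a vector outside a short list. -/
theorem exists_iso_pair {v : V₀} (L : List V₀) (h : 2 * L.length + 4 ≤ finrank F₀ V₀)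
    (hv : v ∉ Submodule.span F₀ {x | x ∈ L}) :
    ∃ a : V₀, B (a : V) (a : V) = 0 ∧ B (a : V) (v : V) = 1 ∧ ∀ b ∈ L, B (b : V) (a : V) = 0 := by
  obtain ⟨f, hfv, hfL⟩ := Submodule.exists_dual_map_eq_bot_of_notMem hv inferInstance
  obtain ⟨z, hz⟩ := hR.exists_of_dual f
  have hzL : ∀ a ∈ L, B (a : V) (z : V) = 0 := fun a ha => by
    apply hR.symm_zero
    rw [hz, show f a = 0 from (Submodule.eq_bot_iff _).1 hfL _
      (Submodule.mem_map_of_mem (Submodule.subset_span ha))]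
    rfl
  obtain ⟨a, ha, hav⟩ : ∃ a ∈ isoPerp B V₀ L, hR.form₀ a v ≠ 0 := by
    by_contra hc
    push Not at hc
    refine hfv ?_
    have h1 : Submodule.span F₀ (isoPerp B V₀ L) ≤ LinearMap.ker ((hR.form₀).flip v) :=
      Submodule.span_le.2 fun a ha => hc a ha
    have h2 : hR.form₀ z v = 0 := h1 (hR.mem_span_iso L h hzL)
    exact Subtype.ext ((hz v).symm.trans (hR.form₀_eq_zero.1 h2))
  refine ⟨(hR.form₀ a v)⁻¹ • a, ?_, ?_, fun b hb => ?_⟩
  · simp [coe_smul_eq, ha.1]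
  · rw [← hR.form₀_coe, LinearMap.map_smul₂, smul_eq_mul, inv_mul_cancel₀ hav]; rfl
  · simp [coe_smul_eq, ha.2 b hb]

/-- An isotropic partner. -/
theorem exists_iso_partner {v : V₀} (hvv : B (v : V) (v : V) = 0) (L : List V₀)
    (h : 2 * L.length + 4 ≤ finrank F₀ V₀) (hv : v ∉ Submodule.span F₀ {x | x ∈ L}) :
    ∃ v' : V₀, B (v' : V) (v' : V) = 0 ∧ B (v : V) (v' : V) = 1 ∧ B (v' : V) (v : V) = 1 ∧
      ∀ a ∈ L, B (a : V) (v' : V) = 0 := by
  obtain ⟨a, ha, hav, hL⟩ := hR.exists_iso_pair L h hv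
  exact ⟨a, ha, by rw [hR.comm₀, hav], hav, hL⟩

end IsOFrame

end CfsgLib.Classical.SubfieldOrth
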