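import Cfsg.Agent.Lib.Classical.SubfieldOrth.QuadPlane
import Cfsg.Agent.Lib.Classical.SubfieldMax.Borel

/-!
# Root elements with a small rational fixed space
-/

set_option autoImplicit false
set_option linter.unusedSectionVars false
set_option backward.isDefEq.respectTransparency false

open Module QuadraticMap CfsgLib.Orth Matrix
open scoped MatrixGroups

namespace CfsgLib.Classical.SubfieldOrth

variable {F : Type*} [Field F] [Fintype F] {V : Type*} [AddCommGroup V] [Module F V] [FiniteDimensional F V]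
  {F₀ : Subfield F} {Q : QuadraticForm F V} {V₀ : Submodule F₀ V} {ζ : F}
  {M : Subgroup (orthGroup Q)}

theorem om_self (y z u : V) : om Q y z u u = 0 := by simp only [om]; ring

theorem om_swap (y z u u' : V) : om Q y z u' u = -om Q y z u u' := by simp only [om]; ring

theorem om_add_right (y z u a b : V) : om Q y z u (a + b) = om Q y z u a + om Q y z u b := by
  simp only [om, polar_add_right]; ring

theorem om_smul_right (y z u a : V) (c : F) : om Q y z u (c • a) = c * om Q y z u a := by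
  simp only [om, polar_smul_r']; ring

/-- The functional `x ↦ om u x` on rational vectors. -/
def omMap (Q : QuadraticForm F V) (V₀ : Submodule F₀ V) (y z : V) (u : V₀) : V₀ →ₗ[F₀] F where
  toFun x := om Q y z (u : V) (x : V)
  map_add' a b := by rw [Submodule.coe_add, om_add_right]
  map_smul' c a := by
    rw [SetLike.val_smul, coe_smul_eq', om_smul_right, RingHom.id_apply, Subfield.smul_def, smul_eq_mul]

/-- A sum of principal minors of a map fixing a line with a scalar on the quotient. -/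
theorem minors_eq {F : Type*} [Field F] (a b : Fin 3 → F) (B : Fin 3 → Fin 3 → F) (γ : F)
    (N : Fin 3 → F) (hN : N = ![a 1 * b 2 - a 2 * b 1, a 2 * b 0 - a 0 * b 2, a 0 * b 1 - a 1 * b 0])
    (ha : ∀ i, ∑ l, B i l * a l = γ * a i) (hb : ∀ i, ∑ l, B i l * b l = γ * b i)
    (hfix : ∀ l, ∑ i, N i * B i l = N l) (hne : N 2 ≠ 0) :
    (B 0 0 * B 1 1 - B 0 1 * B 1 0) + (B 0 0 * B 2 2 - B 0 2 * B 2 0) + (B 1 1 * B 2 2 - B 1 2 * B 2 1) =
      γ * γ + 2 * γ := by
  let C : Fin 3 → F := fun i => (B i 2 - if i = 2 then γ else 0) / N 2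
  have hB : ∀ i l, B i l = (if i = l then γ else 0) + C i * N l := by
    intro i l
    have h1 := ha i
    have h2 := hb i
    simp only [Fin.sum_univ_three] at h1 h2
    simp only [C]
    rw [div_mul_eq_mul_div, ← sub_eq_iff_eq_add', eq_div_iff hne, hN]
    fin_cases i <;> fin_cases l <;> simp at h1 h2 ⊢ <;> first
      | ring1
      | linear_combination (b 1) * h1 - (a 1) * h2
      | linear_combination (a 1) * h2 - (b 1) * h1
      | linear_combination (b 0) * h1 - (a 0) * h2
      | linear_combination (a 0) * h2 - (b 0) * h1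
  have hT : C 0 * N 0 + C 1 * N 1 + C 2 * N 2 = 1 - γ := by
    have h := hfix 2
    simp only [Fin.sum_univ_three, hB] at h
    simp at h
    refine mul_left_cancel₀ hne ?_
    linear_combination h
  rw [hB 0 0, hB 1 1, hB 2 2, hB 0 1, hB 1 0, hB 0 2, hB 2 0, hB 1 2, hB 2 1]
  simp
  linear_combination (2 * γ) * hT

variable (hR : IsQFrame Q V₀ ζ) (hM : RatSiegel V₀ ζ M) (hdim : 7 ≤ finrank F₀ V₀)
variable {r : ℕ} (hr : r.Prime) (hcard : Fintype.card F = Nat.card F₀ ^ r) (h4 : Good F V) (hn : 5 ≤ finrank F V)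
variable {y z : V} (hy : Q y = 0) (hz : Q z = 0) (hyz : polar Q y z = 0) (hT : SiegelIn M y z)
include hR hM hdim hr hcard h4 hn hy hz hyz hT

set_option maxHeartbeats 1600000 in
/-- A root element with a small fixed rational space. -/
theorem omega_le_of_small (hK : finrank F₀ (LinearMap.ker (pairMap Q V₀ y z)) ≤ 2)
    (hbad : IsQBad Q V₀ ζ y z) : commutator (orthGroup Q) ≤ M := by
  classical
  set Φ := pairMap Q V₀ y z with hΦdef
  -- the degree is at least three
  have hr3 : 3 ≤ r := by
    have h1 := Φ.finrank_range_add_finrank_ker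
    have h2 : finrank F₀ (LinearMap.range Φ) ≤ 2 * r := by
      refine (Submodule.finrank_le _).trans ?_
      rw [finrank_prod]
      have h := Module.natCard_eq_pow_finrank (K := F₀) (V := F)
      rw [Nat.card_eq_fintype_card, hcard] at h
      have := Nat.pow_right_injective Finite.one_lt_card h
      omega
    omega
  -- the first two members
  obtain ⟨u1, hu1K, hu1Q, -⟩ := hR.exists_sing_outside [] (LinearMap.ker Φ) (by simp; omega) (by simp; omega)
  have hu10 : u1 ≠ 0 := fun e => hu1K (by rw [e]; exact zero_mem _)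
  obtain ⟨u2, hu2Q, hu12, hw⟩ : ∃ u2 : V₀, Q (u2 : V) = 0 ∧ polar Q (u1 : V) (u2 : V) = 0 ∧
      om Q y z (u1 : V) (u2 : V) ≠ 0 := by
    by_contra hc
    push Not at hc
    obtain ⟨f, hfQ, hfu, -⟩ := hR.exists_sing_pair (v := u1) [] (by simp; omega) (by simpa using hu10)
    have hperp : ∀ u : V₀, polar Q (u1 : V) (u : V) = 0 → om Q y z (u1 : V) (u : V) = 0 := by
      intro u hu
      have h := hR.mem_span_sing [u1] (by simp; omega) (x := u) (by simp [hu])
      exact (Submodule.span_le (p := LinearMap.ker (omMap Q V₀ y z u1))).2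
        (fun x hx => hc x hx.1 (hx.2 u1 (by simp))) h
    set x := polar Q y (u1 : V) • z + (-(polar Q z (u1 : V))) • y with hxdef
    have hxom : ∀ u : V, polar Q x u = om Q y z (u1 : V) u := fun u => by
      rw [hxdef, polar_add_left, polar_smul_l', polar_smul_l', om]; ring
    obtain ⟨k, hk⟩ : ∃ k : F, x = k • (u1 : V) := by
      refine ⟨ζ * polar Q x (f : V), sub_eq_zero.1 (hR.sep fun u hu => ?_)⟩
      have h1 := hperp (⟨u, hu⟩ - (⟨ζ * polar Q (u1 : V) u, hR.pol_mem u1.2 hu⟩ : F₀) • f) (by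
        simp only [Submodule.coe_sub, SetLike.val_smul, coe_smul_eq', polar_sub_right, polar_smul_r',
          polar_comm _ (u1 : V) (f : V)]
        linear_combination -(polar Q (u1 : V) u) * hfu)
      rw [← hxom] at h1
      simp only [Submodule.coe_sub, SetLike.val_smul, coe_smul_eq', polar_sub_right, polar_smul_r'] at h1
      rw [sub_eq_add_neg, polar_add_left, polar_neg_left, polar_smul_l']
      linear_combination h1
    have hxy : polar Q x y = 0 := by
      rw [hxdef, polar_add_left, polar_smul_l', polar_smul_l', polar_comm _ z y, hyz, polar_self', hy]; ring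
    have hxz : polar Q x z = 0 := by
      rw [hxdef, polar_add_left, polar_smul_l', polar_smul_l', hyz, polar_self', hz]; ring
    have hk0 : k = 0 := by
      by_contra hk0
      rw [hk, polar_smul_l', polar_comm] at hxy hxz
      exact hu1K (mem_pairKer.2 ⟨(mul_eq_zero.1 hxy).resolve_left hk0, (mul_eq_zero.1 hxz).resolve_left hk0⟩)
    obtain ⟨a, b, hb⟩ := hbad
    apply hb
    have hx0 : ∀ u : V₀, om Q y z (u1 : V) (u : V) = 0 := fun u => by
      rw [← hxom, hk, hk0, zero_smul, polar_zero_left]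
    have ea := hx0 a
    have eb := hx0 b
    rw [om] at ea eb
    have : om Q y z (a : V) (b : V) = 0 := by
      by_cases h1 : polar Q y (u1 : V) = 0
      · have h2 : polar Q z (u1 : V) ≠ 0 := fun h => hu1K (mem_pairKer.2 ⟨h1, h⟩)
        rw [h1, zero_mul, zero_sub, neg_eq_zero, mul_eq_zero, or_iff_right h2] at ea eb
        rw [om, ea, eb]; ring
      · refine (mul_eq_zero.1 ?_).resolve_left h1
        simp only [om]
        linear_combination (polar Q y (a : V)) * eb - (polar Q y (b : V)) * ea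
    rw [this, mul_zero]; exact zero_mem _
  set w := om Q y z (u1 : V) (u2 : V) with hwdef
  -- when the pairings with the first two members are confined
  have hcount : ∀ (L : List V₀) (P : Submodule F₀ F), 2 * L.length + 3 ≤ finrank F₀ V₀ →
      L.length + 2 + 2 * finrank F₀ P < finrank F₀ V₀ → ∃ u : V₀, Q (u : V) = 0 ∧
        (∀ a ∈ L, polar Q (a : V) (u : V) = 0) ∧
        (om Q y z (u1 : V) (u : V) ∉ P ∨ om Q y z (u2 : V) (u : V) ∉ P) := by
    intro L P hL hbig
    by_contra hc
    push Not at hc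
    let Ψ : V₀ →ₗ[F₀] F × F := (omMap Q V₀ y z u1).prod (omMap Q V₀ y z u2)
    have hle : hR.perpList L ≤ (P.prod P).comap Ψ := by
      intro x hx
      refine (Submodule.span_le (p := (P.prod P).comap Ψ)).2 ?_ (hR.mem_span_sing L hL (hR.mem_perpList.1 hx))
      exact fun u hu => hc u hu.1 hu.2
    have h1 := (Ψ.domRestrict (hR.perpList L)).finrank_range_add_finrank_ker
    have h2 : finrank F₀ (LinearMap.range (Ψ.domRestrict (hR.perpList L))) ≤ 2 * finrank F₀ P := by
      refine (Submodule.finrank_mono (t := P.prod P) ?_).trans ?_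
      · rintro _ ⟨x, rfl⟩; exact hle x.2
      · rw [two_mul, ← finrank_prod]
        have hrange : P.prod P = LinearMap.range (P.subtype.prodMap P.subtype) := by
          rw [LinearMap.range_prodMap, Submodule.range_subtype]
        rw [hrange]
        exact LinearMap.finrank_range_le _
    have h3 : finrank F₀ (LinearMap.ker (Ψ.domRestrict (hR.perpList L))) ≤ finrank F₀ (LinearMap.ker Φ) :=
      LinearMap.finrank_le_finrank_of_injective
        (f := ((hR.perpList L).subtype.comp (LinearMap.ker (Ψ.domRestrict (hR.perpList L))).subtype).codRestrict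
          (LinearMap.ker Φ) fun x => by
            have hx : Ψ x.1.1 = 0 := x.2
            obtain ⟨e1, e2⟩ := Prod.mk_eq_zero.1 hx
            change om Q y z (u1 : V) (x.1.1 : V) = 0 at e1
            change om Q y z (u2 : V) (x.1.1 : V) = 0 at e2
            rw [om] at e1 e2
            refine mem_pairKer.2 ⟨(mul_eq_zero.1 (?_ : w * polar Q y (x.1.1 : V) = 0)).resolve_left hw,
              (mul_eq_zero.1 (?_ : w * polar Q z (x.1.1 : V) = 0)).resolve_left hw⟩
            · rw [hwdef, om]; linear_combination (polar Q y (u2 : V)) * e1 - (polar Q y (u1 : V)) * e2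
            · rw [hwdef, om]; linear_combination (polar Q z (u2 : V)) * e1 - (polar Q z (u1 : V)) * e2)
        fun a b h => by
          have h' := congrArg Subtype.val h
          exact Subtype.ext (Subtype.ext h')
    have h5 := hR.finrank_perpList L
    omega
  -- the third member
  obtain ⟨u3, hu3Q, hu3L, hu3⟩ := hcount [u1, u2] (Submodule.span F₀ {w}) (by simp; omega) (by
    rw [finrank_span_singleton hw]; simp; omega)
  set u : Fin 3 → V₀ := ![u1, u2, u3] with hudef
  have hiso : ∀ i j, polar Q (u i : V) (u j : V) = 0 := by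
    have h13 := hu3L u1 (by simp); have h23 := hu3L u2 (by simp)
    intro i j
    fin_cases i <;> fin_cases j <;>
      first
        | assumption
        | (show polar Q _ _ = 0; rw [polar_comm]; assumption)
        | (show polar Q _ _ = 0; simp [polar_self', hu1Q, hu2Q, hu3Q, hudef])
  have huQ : ∀ i, Q (u i : V) = 0 := fun i => by fin_cases i <;> assumption
  have hli : LinearIndependent F₀ u := by
    rw [Fintype.linearIndependent_iff]
    intro g hg
    have key : ∀ a : V₀, (g 0 : F) * om Q y z (a : V) (u1 : V) + (g 1 : F) * om Q y z (a : V) (u2 : V) +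
        (g 2 : F) * om Q y z (a : V) (u3 : V) = 0 := fun a => by
      have h := congrArg (omMap Q V₀ y z a) hg
      simpa [omMap, show om Q y z (a : V) 0 = 0 by simp [om], map_sum, Fin.sum_univ_three, hudef, Subfield.smul_def, om_add_right, om_smul_right,
        coe_smul_eq'] using h
    have k1 := key u1
    have k2 := key u2
    rw [om_self] at k1 k2
    rw [om_swap (Q := Q) y z (u1 : V) (u2 : V), ← hwdef] at k2
    rw [← hwdef] at k1
    have hg2 : g 2 = 0 := by
      by_contra h2
      have h20 : (g 2 : F) ≠ 0 := fun e => h2 (Subtype.ext e)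
      rcases hu3 with h | h <;> refine h (Submodule.mem_span_singleton.2 ?_)
      · exact ⟨⟨_, neg_mem (div_mem (g 1).2 (g 2).2)⟩, by
          rw [Subfield.smul_def, smul_eq_mul]; field_simp; linear_combination -k1⟩
      · exact ⟨⟨_, div_mem (g 0).2 (g 2).2⟩, by
          rw [Subfield.smul_def, smul_eq_mul]; field_simp; linear_combination -k2⟩
    simp only [hg2, ZeroMemClass.coe_zero, zero_mul, add_zero, mul_zero, zero_add] at k1 k2
    intro i
    fin_cases i
    · exact Subtype.ext ((mul_eq_zero.1 k2).resolve_right (neg_ne_zero.2 hw))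
    · exact Subtype.ext ((mul_eq_zero.1 k1).resolve_right hw)
    · exact hg2
  -- dual singular vectors
  have hdual : ∀ i, ∃ Y : V₀, ∀ j, ζ * polar Q (Y : V) (u j : V) = if i = j then 1 else 0 := by
    intro i
    let L : List V₀ := ((Finset.univ.erase i).toList).map u
    have hnot : u i ∉ Submodule.span F₀ {x | x ∈ L} := fun hc =>
      hli.notMem_span_image (s := {j | j ≠ i}) (by simp) (Submodule.span_mono (by
        intro a ha
        obtain ⟨j, hj, rfl⟩ := List.mem_map.1 (show a ∈ L from ha)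
        exact ⟨j, by simpa using hj, rfl⟩) hc)
    obtain ⟨Y, -, hYi, hYL⟩ := hR.exists_sing_pair L (by simp [L]; omega) hnot
    refine ⟨Y, fun j => ?_⟩
    split_ifs with hij
    · subst hij; exact hYi
    · rw [polar_comm, hYL (u j) (List.mem_map.2 ⟨j, by simp [Ne.symm hij], rfl⟩), mul_zero]
  -- the span of the members
  let UF : Submodule F V := Submodule.span F (Set.range fun i => (u i : V))
  have hmemUF : ∀ i, (u i : V) ∈ UF := fun i => Submodule.subset_span ⟨i, rfl⟩
  have hUFperp : ∀ x : V, (∀ i, polar Q x (u i : V) = 0) → ∀ a ∈ UF, polar Q x a = 0 := by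
    intro x hx a ha
    induction ha using Submodule.span_induction with
    | mem a ha => obtain ⟨i, rfl⟩ := ha; exact hx i
    | zero => exact polar_zero_right Q x
    | add a b _ _ ha hb => rw [polar_add_right, ha, hb, add_zero]
    | smul c a _ ha => rw [polar_smul_r', ha, mul_zero]
  have hUFiso : ∀ a ∈ UF, ∀ b ∈ UF, polar Q a b = 0 := fun a ha =>
    hUFperp a fun i => (polar_comm _ _ _).trans (hUFperp _ (fun j => hiso i j) a ha)
  let β₁ : V →ₗ[F] F := QuadraticMap.polarBilin Q y
  let β₂ : V →ₗ[F] F := QuadraticMap.polarBilin Q z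
  let Z : Submodule F V := UF ⊓ LinearMap.ker β₁ ⊓ LinearMap.ker β₂
  have hmemZ : ∀ v, v ∈ Z ↔ v ∈ UF ∧ polar Q y v = 0 ∧ polar Q z v = 0 := fun v => by
    simp [Z, β₁, β₂, and_assoc]
  -- normalised members
  obtain ⟨x₁, hx₁def⟩ : ∃ x, x = w⁻¹ • (polar Q z (u2 : V) • (u1 : V) - polar Q z (u1 : V) • (u2 : V)) :=
    ⟨_, rfl⟩
  obtain ⟨x₂, hx₂def⟩ : ∃ x, x = w⁻¹ • (polar Q y (u1 : V) • (u2 : V) - polar Q y (u2 : V) • (u1 : V)) :=
    ⟨_, rfl⟩
  have hx₁U : x₁ ∈ UF := hx₁def ▸ UF.smul_mem _ (UF.sub_mem (UF.smul_mem _ (hmemUF 0)) (UF.smul_mem _ (hmemUF 1)))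
  have hx₂U : x₂ ∈ UF := hx₂def ▸ UF.smul_mem _ (UF.sub_mem (UF.smul_mem _ (hmemUF 1)) (UF.smul_mem _ (hmemUF 0)))
  have hyx₁ : polar Q y x₁ = 1 := by
    rw [hx₁def, polar_smul_r', polar_sub_right, polar_smul_r', polar_smul_r', inv_mul_eq_one₀ hw, hwdef, om]
    ring
  have hzx₁ : polar Q z x₁ = 0 := by
    rw [hx₁def, polar_smul_r', polar_sub_right, polar_smul_r', polar_smul_r']; ring
  have hzx₂ : polar Q z x₂ = 1 := by
    rw [hx₂def, polar_smul_r', polar_sub_right, polar_smul_r', polar_smul_r', inv_mul_eq_one₀ hw, hwdef, om]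
    ring
  have hyx₂ : polar Q y x₂ = 0 := by
    rw [hx₂def, polar_smul_r', polar_sub_right, polar_smul_r', polar_smul_r']; ring
  have hdec : ∀ v ∈ UF, v - (polar Q y v • x₁ + polar Q z v • x₂) ∈ Z := fun v hv => (hmemZ _).2
    ⟨UF.sub_mem hv (UF.add_mem (UF.smul_mem _ hx₁U) (UF.smul_mem _ hx₂U)),
      by rw [polar_sub_right, polar_add_right, polar_smul_r', polar_smul_r', hyx₁, hyx₂]; ring,
      by rw [polar_sub_right, polar_add_right, polar_smul_r', polar_smul_r', hzx₁, hzx₂]; ring⟩
  -- the group induced on the two lines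
  let Cond : orthGroup Q → SL(2, F) → V → V → Prop := fun m k e f =>
    (m.1 e - ((k : Matrix (Fin 2) (Fin 2) F) 0 0 • e + (k : Matrix (Fin 2) (Fin 2) F) 1 0 • f) ∈ Z) ∧
    (m.1 f - ((k : Matrix (Fin 2) (Fin 2) F) 0 1 • e + (k : Matrix (Fin 2) (Fin 2) F) 1 1 • f) ∈ Z)
  have hCond : ∀ {m m' : orthGroup Q} {k k' : SL(2, F)} {e f : V}, (∀ v ∈ Z, m.1 v = v) → Cond m k e f →
      Cond m' k' e f → Cond (m * m') (k * k') e f := by
    rintro m m' k k' e f h3 ⟨h1, h2⟩ ⟨h1', h2'⟩
    refine ⟨?_, ?_⟩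
    · have e2 := h3 _ h1'
      rw [map_sub, map_add, map_smul, map_smul, sub_eq_iff_eq_add] at e2
      rw [Matrix.SpecialLinearGroup.coe_mul]
      simp only [Matrix.mul_apply, Fin.sum_univ_two]
      rw [Subgroup.coe_mul, LinearEquiv.mul_apply, e2]
      convert add_mem h1' (add_mem (Z.smul_mem ((k' : Matrix (Fin 2) (Fin 2) F) 0 0) h1)
        (Z.smul_mem ((k' : Matrix (Fin 2) (Fin 2) F) 1 0) h2)) using 1
      module
    · have e2 := h3 _ h2'
      rw [map_sub, map_add, map_smul, map_smul, sub_eq_iff_eq_add] at e2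
      rw [Matrix.SpecialLinearGroup.coe_mul]
      simp only [Matrix.mul_apply, Fin.sum_univ_two]
      rw [Subgroup.coe_mul, LinearEquiv.mul_apply, e2]
      convert add_mem h2' (add_mem (Z.smul_mem ((k' : Matrix (Fin 2) (Fin 2) F) 0 1) h1)
        (Z.smul_mem ((k' : Matrix (Fin 2) (Fin 2) F) 1 1) h2)) using 1
      module
  let K₀ : Submonoid SL(2, F) :=
    { carrier := {k | ∃ m ∈ M, Cond m k x₁ z ∧ Cond m k x₂ (-y) ∧ ∀ v ∈ Z, (m : orthGroup Q).1 v = v}
      one_mem' := ⟨1, M.one_mem, ⟨by simp, by simp⟩, ⟨by simp, by simp⟩, fun v _ => rfl⟩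
      mul_mem' := by
        rintro k k' ⟨m, hm, h1, h2, h3⟩ ⟨m', hm', h1', h2', h3'⟩
        exact ⟨m * m', M.mul_mem hm hm', hCond h3 h1 h1', hCond h3 h2 h2', fun v hv => by
          rw [Subgroup.coe_mul, LinearEquiv.mul_apply, h3' v hv, h3 v hv]⟩ }
  let K : Subgroup SL(2, F) :=
    { K₀ with
      inv_mem' := fun {k} hk => by
        have e : k⁻¹ = k ^ (orderOf k - 1) := inv_eq_of_mul_eq_one_right (by
          rw [← pow_succ', Nat.sub_add_cancel (orderOf_pos k), pow_orderOf_eq_one])
        show k⁻¹ ∈ K₀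
        rw [e]
        exact pow_mem hk _ }
  let Λ : AddSubgroup F := AddSubgroup.closure
    {b | ∃ (c : F₀) (i j : Fin 3), b = -(ζ * ((c : F) * om Q y z (u i : V) (u j : V)))}
  have hsub : ∀ b ∈ Λ, SubfieldMax.upper b ∈ K := by
    intro b hb
    induction hb using AddSubgroup.closure_induction with
    | mem b hb =>
      obtain ⟨c, i, j, rfl⟩ := hb
      set p : V₀ := c • u i with hp
      have hpU : (p : V) ∈ UF := by rw [hp, SetLike.val_smul, coe_smul_eq']; exact UF.smul_mem _ (hmemUF i)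
      have hpp : Q (p : V) = 0 := by rw [hp, SetLike.val_smul, coe_smul_eq', quad_smul', huQ, mul_zero]
      have hpq : polar Q (p : V) (u j : V) = 0 := hUFiso _ hpU _ (hmemUF j)
      obtain ⟨g, hg⟩ := exists_isSiegel hR.nondeg (d := (p : V)) (u := ζ • (u j : V)) hpp
        (by rw [polar_smul_r', hpq, mul_zero])
      have hfixU : ∀ v ∈ UF, g.1 v = v := fun v hv => by
        rw [hg.2.2, hUFiso _ hpU _ hv, hUFiso _ (UF.smul_mem _ (hmemUF j)) _ hv]
        simp
      have hgv : ∀ v, g.1 v = v + ((polar Q (p : V) v * ζ) • (u j : V) + (-(ζ * polar Q (u j : V) v)) • (p : V)) :=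
        fun v => by
          rw [hg.2.2, quad_smul', huQ, mul_zero, zero_mul, sub_zero, polar_smul_l', smul_smul]
          abel
      have hdv : ∀ v, (polar Q (p : V) v * ζ) • (u j : V) + (-(ζ * polar Q (u j : V) v)) • (p : V) ∈ UF := fun v =>
        UF.add_mem (UF.smul_mem _ (hmemUF j)) (UF.smul_mem _ hpU)
      have hc : (p : V) = (c : F) • (u i : V) := rfl
      refine ⟨g, hM p (u j) hpp (huQ j) hpq g hg, ⟨?_, ?_⟩, ⟨?_, ?_⟩, fun v hv => hfixU v ((hmemZ v).1 hv).1⟩
      · rw [hfixU _ hx₁U]; simp [SubfieldMax.upper]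
      · rw [hgv]
        convert hdec _ (hdv z) using 1
        simp only [SubfieldMax.upper, polar_add_right, polar_smul_r', hc, polar_smul_l', om,
          polar_comm _ (u i : V) z, polar_comm _ (u j : V) z]
        simp
        module
      · rw [hfixU _ hx₂U]; simp [SubfieldMax.upper]
      · rw [map_neg, hgv]
        convert Z.neg_mem (hdec _ (hdv y)) using 1
        simp only [SubfieldMax.upper, polar_add_right, polar_smul_r', hc, polar_smul_l', om,
          polar_comm _ (u i : V) y, polar_comm _ (u j : V) y]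
        simp
        module
    | zero =>
      rw [show SubfieldMax.upper (0 : F) = 1 by
        apply Matrix.SpecialLinearGroup.ext; intro i j; fin_cases i <;> fin_cases j <;> simp [SubfieldMax.upper]]
      exact K.one_mem
    | add a b _ _ ha hb =>
      rw [show SubfieldMax.upper (a + b) = SubfieldMax.upper a * SubfieldMax.upper b by
        apply Matrix.SpecialLinearGroup.ext; intro i j
        fin_cases i <;> fin_cases j <;> simp [SubfieldMax.upper, Matrix.mul_apply, Fin.sum_univ_two, add_comm]]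
      exact mul_mem ha hb
    | neg a _ ha =>
      rw [show SubfieldMax.upper (-a) = (SubfieldMax.upper a)⁻¹ by
        apply eq_inv_of_mul_eq_one_left
        apply Matrix.SpecialLinearGroup.ext; intro i j
        fin_cases i <;> fin_cases j <;> simp [SubfieldMax.upper, Matrix.mul_apply, Fin.sum_univ_two]]
      exact inv_mem ha
  let w₀ : SL(2, F) := ⟨!![1, 0; 1, 1], by simp⟩
  have hw₀ : w₀ ∈ K := by
    obtain ⟨t, ht⟩ := exists_isSiegel hR.nondeg hy hyz
    have hyy : polar Q y y = 0 := by rw [polar_self', hy, mul_zero]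
    have hzz : polar Q z z = 0 := by rw [polar_self', hz, mul_zero]
    have hzy : polar Q z y = 0 := by rw [polar_comm, hyz]
    refine ⟨t, hT t ht, ⟨?_, ?_⟩, ⟨?_, ?_⟩, fun v hv => ?_⟩
    · rw [ht.2.2, hz, hyx₁, hzx₁]; simp [w₀]
    · rw [ht.2.2, hz, hyz, hzz]; simp [w₀]
    · rw [ht.2.2, hz, hyx₂, hzx₂]; simp [w₀]
    · rw [map_neg, ht.2.2, hz, hyy, hzy]; simp [w₀]
    · obtain ⟨-, h1, h2⟩ := (hmemZ v).1 hv
      rw [ht.2.2, hz, h1, h2]; simp
  -- the upper part is large
  obtain ⟨i₀, j₀, h₀⟩ : ∃ i₀ j₀ : Fin 3, om Q y z (u i₀ : V) (u j₀ : V) ∉ Submodule.span F₀ {w} := by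
    rcases hu3 with h3 | h3
    · exact ⟨0, 2, h3⟩
    · exact ⟨1, 2, h3⟩
  set o₀ := om Q y z (u i₀ : V) (u j₀ : V)
  have hgen : ∀ (c : F₀) (i j : Fin 3), -(ζ * ((c : F) * om Q y z (u i : V) (u j : V))) ∈ Λ := fun c i j =>
    AddSubgroup.subset_closure ⟨c, i, j, rfl⟩
  have hΛcard : Nat.card F₀ ^ 2 ≤ Nat.card Λ := by
    rw [show Nat.card F₀ ^ 2 = Nat.card (F₀ × F₀) by rw [Nat.card_prod]; ring]
    refine Nat.card_le_card_of_injective (fun a =>
      ⟨-(ζ * ((a.1 : F) * w)) + -(ζ * ((a.2 : F) * o₀)), add_mem (hgen _ 0 1) (hgen _ i₀ j₀)⟩) ?_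
    intro a b hab
    have h : ((a.1 : F) - b.1) * w + ((a.2 : F) - b.2) * o₀ = 0 := by
      have h := congrArg Subtype.val hab
      refine (mul_eq_zero.1 (?_ : ζ * _ = 0)).resolve_left hR.zeta_ne
      linear_combination -h
    have h1 : (a.2 : F) = b.2 := by
      by_contra hne
      refine h₀ (Submodule.mem_span_singleton.2 ⟨-(a.1 - b.1) / (a.2 - b.2), ?_⟩)
      simp only [Subfield.smul_def, smul_eq_mul, Subfield.coe_div, Subfield.coe_neg, Subfield.coe_sub]
      have := sub_ne_zero.2 hne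
      field_simp
      linear_combination -h
    rw [h1, sub_self, zero_mul, add_zero] at h
    have h0 : (a.1 : F) = b.1 := sub_eq_zero.1 ((mul_eq_zero.1 h).resolve_right hw)
    exact Prod.ext (Subtype.ext h0) (Subtype.ext h1)
  obtain ⟨k, ⟨m, hmM, ⟨hm₁, -⟩, ⟨hm₂, -⟩, hmZ⟩, hk0, hksq⟩ := SubfieldMax.exists_borel_outside' K Λ hsub hw₀
    (by simp [w₀]) F₀
    (by
      rcases Nat.lt_or_ge (Nat.card F₀) 3 with h2 | h3
      · have h2' : Nat.card F₀ = 2 := by have : 1 < Nat.card F₀ := Finite.one_lt_card; omega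
        refine Or.inr ⟨?_, by rw [h2'] at hΛcard; omega⟩
        rw [hcard, h2']
        exact Nat.even_pow.2 ⟨even_two, by omega⟩
      · have : 3 ^ 2 ≤ Nat.card F₀ ^ 2 := Nat.pow_le_pow_left h3 2
        omega)
    hΛcard
  set γ := (k : Matrix (Fin 2) (Fin 2) F) 0 0
  rw [hk0, zero_smul, add_zero] at hm₁ hm₂
  have himg : ∀ v ∈ UF, (m.1 v ∈ UF ∧ polar Q y (m.1 v) = γ * polar Q y v ∧ polar Q z (m.1 v) = γ * polar Q z v) := by
    intro v hv
    have e : m.1 v = polar Q y v • m.1 x₁ + polar Q z v • m.1 x₂ + (v - (polar Q y v • x₁ + polar Q z v • x₂)) := by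
      rw [← hmZ _ (hdec v hv), map_sub, map_add, map_smul, map_smul]; abel
    obtain ⟨a1, a2, a3⟩ := (hmemZ _).1 hm₁
    obtain ⟨b1, b2, b3⟩ := (hmemZ _).1 hm₂
    obtain ⟨c1, c2, c3⟩ := (hmemZ _).1 (hdec v hv)
    rw [polar_sub_right, polar_smul_r', sub_eq_zero] at a2 a3 b2 b3
    rw [hyx₁] at a2; rw [hzx₁] at a3; rw [hyx₂] at b2; rw [hzx₂] at b3
    have a1' : m.1 x₁ ∈ UF := by
      have := UF.add_mem a1 (UF.smul_mem γ hx₁U); rwa [sub_add_cancel] at this
    have b1' : m.1 x₂ ∈ UF := by
      have := UF.add_mem b1 (UF.smul_mem γ hx₂U); rwa [sub_add_cancel] at this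
    rw [e]
    refine ⟨UF.add_mem (UF.add_mem (UF.smul_mem _ a1') (UF.smul_mem _ b1')) c1, ?_, ?_⟩
    · rw [polar_add_right, polar_add_right, polar_smul_r', polar_smul_r', a2, b2, c2]; ring
    · rw [polar_add_right, polar_add_right, polar_smul_r', polar_smul_r', a3, b3, c3]; ring
  -- the images are rational root elements
  by_contra hno
  choose B hB using fun i => (Submodule.mem_span_range_iff_exists_fun F).1 (himg _ (hmemUF i)).1
  have hcoord : ∀ (a : Fin 3 → F) (s : Fin 3) (Y : V₀), (∀ l, ζ * polar Q (Y : V) (u l : V) =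
      if s = l then 1 else 0) → ζ * polar Q (∑ l, a l • (u l : V)) (Y : V) = a s := by
    intro a s Y hY
    rw [polar_comm, ← QuadraticMap.polarBilin_apply_apply, map_sum, Finset.mul_sum,
      Finset.sum_eq_single s (fun l _ hl => ?_) (by simp)]
    · rw [map_smul, smul_eq_mul, QuadraticMap.polarBilin_apply_apply, mul_left_comm, hY, if_pos rfl, mul_one]
    · rw [map_smul, smul_eq_mul, QuadraticMap.polarBilin_apply_apply, mul_left_comm, hY, if_neg (Ne.symm hl),
        mul_zero]
  have hminor : ∀ i j s t, B i s * B j t - B i t * B j s ∈ F₀ := by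
    intro i j s t
    obtain ⟨hpU, -, -⟩ := himg _ (hmemUF i)
    obtain ⟨hqU, -, -⟩ := himg _ (hmemUF j)
    set p := m.1 (u i : V)
    set q := m.1 (u j : V)
    have hgood : ¬ IsQBad Q V₀ ζ p (ζ • q) := by
      intro hbad'
      refine hno (omega_le_of_fixed (y := p) (z := ζ • q) hR hM hdim hr hcard h4 hn ((apply_quad m _).trans (huQ i))
        (by rw [quad_smul', apply_quad, huQ, mul_zero]) (by rw [polar_smul_r', hUFiso _ hpU _ hqU, mul_zero]) ?_ ?_
        hbad')
      · obtain ⟨S, hS⟩ := exists_isSiegel hR.nondeg (d := (u i : V)) (u := ζ • (u j : V)) (huQ i)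
          (by rw [polar_smul_r', hiso, mul_zero])
        have hS' := hS.conj m
        rw [map_smul] at hS'
        intro g hg
        rw [hg.unique hS']
        exact M.mul_mem (M.mul_mem hmM (hM (u i) (u j) (huQ i) (huQ j) (hiso i j) S hS)) (M.inv_mem hmM)
      · have hle : hR.perpList [u 0, u 1, u 2] ≤ LinearMap.ker (pairMap Q V₀ p (ζ • q)) := by
          intro x hx
          rw [hR.mem_perpList] at hx
          have hx' : ∀ l, polar Q (x : V) (u l : V) = 0 := fun l => by
            rw [polar_comm]; refine hx _ ?_; fin_cases l <;> simp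
          refine mem_pairKer.2 ⟨?_, ?_⟩
          · rw [polar_comm]; exact hUFperp _ hx' _ hpU
          · rw [polar_comm]; exact hUFperp _ hx' _ (UF.smul_mem _ hqU)
        have h1 := hR.finrank_perpList [u 0, u 1, u 2]
        have h2 := Submodule.finrank_mono hle
        simp at h1
        omega
    simp only [IsQBad, not_exists, not_not] at hgood
    obtain ⟨Ys, hYs⟩ := hdual s
    obtain ⟨Yt, hYt⟩ := hdual t
    have h := hgood Ys Yt
    rw [om, show p = _ from (hB i).symm, show q = _ from (hB j).symm, polar_smul_l', polar_smul_l'] at h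
    rw [← hcoord (B i) s Ys hYs, ← hcoord (B j) t Yt hYt, ← hcoord (B i) t Yt hYt, ← hcoord (B j) s Ys hYs]
    convert h using 1
    ring
  -- the sum of the principal minors
  have hexp : ∀ (x : V) i, polar Q x (m.1 (u i : V)) = ∑ l, B i l * polar Q x (u l : V) := fun x i => by
    rw [← hB i, ← QuadraticMap.polarBilin_apply_apply, map_sum]
    simp
  let N : Fin 3 → F :=
    ![polar Q y (u 1 : V) * polar Q z (u 2 : V) - polar Q y (u 2 : V) * polar Q z (u 1 : V),
      polar Q y (u 2 : V) * polar Q z (u 0 : V) - polar Q y (u 0 : V) * polar Q z (u 2 : V),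
      polar Q y (u 0 : V) * polar Q z (u 1 : V) - polar Q y (u 1 : V) * polar Q z (u 0 : V)]
  have hNw : N 2 = w := by
    show polar Q y (u1 : V) * polar Q z (u2 : V) - polar Q y (u2 : V) * polar Q z (u1 : V) = w
    rw [hwdef, om]; ring
  set z₀ := ∑ l, N l • (u l : V) with hz₀
  have hz₀Z : z₀ ∈ Z := (hmemZ _).2 ⟨Submodule.sum_mem _ fun l _ => UF.smul_mem _ (hmemUF l),
    by simp [hz₀, Fin.sum_univ_three, polar_add_right, polar_smul_r', N]; ring,
    by simp [hz₀, Fin.sum_univ_three, polar_add_right, polar_smul_r', N]; ring⟩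
  have hfix : ∀ l, ∑ i, N i * B i l = N l := by
    intro l
    obtain ⟨Y, hY⟩ := hdual l
    have h : ∑ l, (∑ i, N i * B i l) • (u l : V) = z₀ := by
      conv_rhs => rw [← hmZ _ hz₀Z, hz₀, map_sum]
      simp only [map_smul, ← hB, Finset.smul_sum, smul_smul, Finset.sum_smul]
      exact Finset.sum_comm
    have h' := congrArg (fun x => ζ * polar Q x (Y : V)) h
    simp only [hz₀, hcoord _ l Y hY] at h'
    exact h'
  have he2 := minors_eq (fun l => polar Q y (u l : V)) (fun l => polar Q z (u l : V)) B γ N rfl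
    (fun i => by rw [← hexp]; exact (himg _ (hmemUF i)).2.1) (fun i => by rw [← hexp]; exact (himg _ (hmemUF i)).2.2)
    hfix (by rw [hNw]; exact hw)
  have ht : γ * γ + 2 * γ ∈ F₀ :=
    he2 ▸ add_mem (add_mem (hminor 0 1 0 1) (hminor 0 2 0 2)) (hminor 1 2 1 2)
  have htwo : (2 : F) ∈ F₀ := ofNat_mem F₀ 2
  let R : Subring F :=
    { carrier := {c | ∃ a b : F₀, c = (a : F) + b * γ}
      one_mem' := ⟨1, 0, by simp⟩
      zero_mem' := ⟨0, 0, by simp⟩
      add_mem' := by rintro _ _ ⟨a, b, rfl⟩ ⟨a', b', rfl⟩; exact ⟨a + a', b + b', by push_cast; ring⟩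
      neg_mem' := by rintro _ ⟨a, b, rfl⟩; exact ⟨-a, -b, by push_cast; ring⟩
      mul_mem' := by
        rintro _ _ ⟨a, b, rfl⟩ ⟨a', b', rfl⟩
        exact ⟨a * a' + b * b' * ⟨_, ht⟩, a * b' + b * a' - b * b' * ⟨_, htwo⟩, by push_cast; ring⟩ }
  have hγ : γ ∉ F₀ := fun hc => hksq (pow_mem hc 2)
  have hall : ∀ c, c ∈ R := SubfieldMax.eq_top_of_prime_degree hr hcard R (fun c hc => ⟨⟨c, hc⟩, 0, by simp⟩)
    (show γ ∈ R from ⟨0, 1, by simp⟩) hγ
  have hle : Fintype.card F ≤ Nat.card F₀ ^ 2 := by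
    rw [← Nat.card_eq_fintype_card, show Nat.card F₀ ^ 2 = Nat.card (F₀ × F₀) by rw [Nat.card_prod]; ring]
    exact Nat.card_le_card_of_surjective (fun a : F₀ × F₀ => (a.1 : F) + a.2 * γ) fun c => by
      obtain ⟨a, b, rfl⟩ := hall c
      exact ⟨(a, b), rfl⟩
  have h2r : Nat.card F₀ ^ 2 < Nat.card F₀ ^ r := Nat.pow_lt_pow_right Finite.one_lt_card (by omega)
  omega

end CfsgLib.Classical.SubfieldOrth
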