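import Cfsg.Agent.Lib.Classical.SubfieldOrth.QuadSpread
import Cfsg.Agent.Lib.KnownA.RankAux

/-!
# Root elements with a large rational fixed space
-/

set_option autoImplicit false
set_option linter.unusedSectionVars false
set_option backward.isDefEq.respectTransparency false

open Module QuadraticMap CfsgLib.Orth

namespace CfsgLib.Classical.SubfieldOrth

variable {F : Type*} [Field F] [Fintype F] {V : Type*} [AddCommGroup V] [Module F V] [FiniteDimensional F V]
  {F₀ : Subfield F} {Q : QuadraticForm F V} {V₀ : Submodule F₀ V} {ζ : F}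
  {M : Subgroup (orthGroup Q)}

/-- The alternating form of a root element. -/
def om (Q : QuadraticForm F V) (y z u u' : V) : F :=
  polar Q y u * polar Q z u' - polar Q z u * polar Q y u'

/-- The root element of the pair is not rational. -/
def IsQBad (Q : QuadraticForm F V) (V₀ : Submodule F₀ V) (ζ : F) (y z : V) : Prop :=
  ∃ u u' : V₀, ζ * om Q y z (u : V) (u' : V) ∉ F₀

/-- The pairings with the pair. -/
def pairMap (Q : QuadraticForm F V) (V₀ : Submodule F₀ V) (y z : V) : V₀ →ₗ[F₀] F × F where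
  toFun u := (polar Q y (u : V), polar Q z (u : V))
  map_add' a b := by simp [polar_add_right]
  map_smul' c a := by
    simp only [SetLike.val_smul, coe_smul_eq', polar_smul_r', RingHom.id_apply, Prod.smul_mk]
    exact Prod.ext (Subfield.smul_def c _).symm (Subfield.smul_def c _).symm

theorem mem_pairKer {y z : V} {u : V₀} :
    u ∈ LinearMap.ker (pairMap Q V₀ y z) ↔ polar Q y (u : V) = 0 ∧ polar Q z (u : V) = 0 := by
  rw [LinearMap.mem_ker]
  exact Prod.mk_eq_zero

namespace IsQFrame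

/-- A vector orthogonal to the rational vectors orthogonal to a list lies in the span of the list. -/
theorem mem_span_of_perp (hR : IsQFrame Q V₀ ζ) : ∀ (L : List V₀) {x : V},
    (∀ u ∈ hR.perpList L, polar Q x (u : V) = 0) → x ∈ Submodule.span F {v : V | ∃ a ∈ L, (a : V) = v}
  | [], x, h => by
    rw [show x = 0 from hR.sep fun u hu => h ⟨u, hu⟩ (hR.mem_perpList.2 (by simp))]
    exact Submodule.zero_mem _
  | a :: L, x, h => by
    have hmono : Submodule.span F {v : V | ∃ b ∈ L, (b : V) = v} ≤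
        Submodule.span F {v : V | ∃ b ∈ a :: L, (b : V) = v} :=
      Submodule.span_mono fun v ⟨b, hb, e⟩ => ⟨b, List.mem_cons_of_mem _ hb, e⟩
    by_cases h1 : ∀ u ∈ hR.perpList L, polar Q x (u : V) = 0
    · exact hmono (mem_span_of_perp hR L h1)
    push Not at h1
    obtain ⟨v₁, hv₁, hx₁⟩ := h1
    have ha : polar Q (a : V) (v₁ : V) ≠ 0 := fun e => hx₁ (h v₁ (hR.mem_perpList.2 fun b hb => by
      rcases List.mem_cons.1 hb with rfl | hb
      · exact e
      · exact hR.mem_perpList.1 hv₁ b hb))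
    have hx' : ∀ u ∈ hR.perpList L,
        polar Q (x + (-(polar Q x (v₁ : V) / polar Q (a : V) (v₁ : V))) • (a : V)) (u : V) = 0 := by
      intro u hu
      set r : F₀ := ⟨ζ * polar Q (a : V) (u : V) / (ζ * polar Q (a : V) (v₁ : V)),
        div_mem (hR.pol_mem a.2 u.2) (hR.pol_mem a.2 v₁.2)⟩
      have hr : (r : F) = polar Q (a : V) (u : V) / polar Q (a : V) (v₁ : V) := mul_div_mul_left _ _ hR.zeta_ne
      have := h (u + (-r) • v₁) (hR.mem_perpList.2 fun b hb => by
        simp only [Submodule.coe_add, SetLike.val_smul, coe_smul_eq', Subfield.coe_neg, polar_add_right, polar_smul_r']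
        rcases List.mem_cons.1 hb with rfl | hb
        · rw [hr]; field_simp; ring
        · rw [hR.mem_perpList.1 hu b hb, hR.mem_perpList.1 hv₁ b hb]; ring)
      simp only [Submodule.coe_add, SetLike.val_smul, coe_smul_eq', Subfield.coe_neg, polar_add_right, polar_smul_r',
        hr] at this
      rw [polar_add_left, polar_smul_l']
      linear_combination this
    have := Submodule.add_mem _ (hmono (mem_span_of_perp hR L hx'))
      (Submodule.smul_mem (Submodule.span F {v : V | ∃ b ∈ a :: L, (b : V) = v})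
        (polar Q x (v₁ : V) / polar Q (a : V) (v₁ : V)) (Submodule.subset_span ⟨a, List.mem_cons_self, rfl⟩))
    rwa [neg_smul, add_assoc, neg_add_cancel, add_zero] at this

end IsQFrame

variable (hR : IsQFrame Q V₀ ζ) (hM : RatSiegel V₀ ζ M) (hdim : 7 ≤ finrank F₀ V₀)
variable {r : ℕ} (hr : r.Prime) (hcard : Fintype.card F = Nat.card F₀ ^ r) (h4 : Good F V) (hn : 5 ≤ finrank F V)
variable {y z : V} (hy : Q y = 0) (hz : Q z = 0) (hyz : polar Q y z = 0) (hT : SiegelIn M y z)
include hR hM hdim hr hcard h4 hn hy hz hyz hT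

/-- A fixed rational singular vector and a bad pair orthogonal to it. -/
theorem omega_le_of_fixed_pair {d u u' : V₀} (hd : Q (d : V) = 0) (hd0 : d ≠ 0) (hyd : polar Q y (d : V) = 0)
    (hzd : polar Q z (d : V) = 0) (hdu : polar Q (d : V) (u : V) = 0) (hdu' : polar Q (d : V) (u' : V) = 0)
    (hbad : ζ * om Q y z (u : V) (u' : V) ∉ F₀) : commutator (orthGroup Q) ≤ M := by
  obtain ⟨t, ht⟩ := exists_isSiegel hR.nondeg hy hyz
  have htM := hT t ht
  have hζu : polar Q (d : V) (ζ • (u : V)) = 0 := by rw [polar_smul_r', hdu, mul_zero]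
  obtain ⟨s, hs⟩ := exists_isSiegel hR.nondeg hd hζu
  have hsM := siegelIn_rational hR hM hdim hd hdu s hs
  have hc := hs.conj t
  have e1 : t.1 (d : V) = d := by
    rw [ht.2.2, hyd, hzd, mul_zero, neg_zero, sub_zero, zero_smul, zero_smul, add_zero, add_zero]
  set w : V := polar Q y (u : V) • z + (-(polar Q z (u : V))) • y with hw
  have e2 : t.1 (ζ • (u : V)) = ζ • (u : V) + ζ • w := by
    rw [ht.2.2, hz, zero_mul, sub_zero, polar_smul_r', polar_smul_r', hw]
    module
  rw [e1, e2] at hc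
  have hdw : polar Q (d : V) (ζ • w) = 0 := by
    simp only [hw, polar_smul_r', polar_add_right, polar_comm _ (d : V) z, hzd, polar_comm _ (d : V) y, hyd]
    ring
  have hin : SiegelIn M (d : V) (ζ • (u : V) + ζ • w) := fun k hk => by
    rw [hk.unique hc]; exact M.mul_mem (M.mul_mem htM hsM) (M.inv_mem htM)
  have h2 := SiegelIn.add hR.nondeg hd (by rw [polar_add_right, hζu, hdw, add_zero])
    (by rw [polar_neg_right, hζu, neg_zero]) hin
    (SiegelIn.neg hR.nondeg hd hζu (siegelIn_rational hR hM hdim hd hdu))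
  rw [add_neg_cancel_comm] at h2
  refine omega_le_of_seed hR hM hdim hr hcard h4 hn hd hd0 hdw h2 hdu' ?_
  simp only [hw, polar_smul_r', polar_add_right, polar_comm _ (u' : V) z, polar_comm _ (u' : V) y]
  rwa [show ζ * (polar Q y (u : V) * polar Q z (u' : V) + -(polar Q z (u : V)) * polar Q y (u' : V)) =
    ζ * om Q y z (u : V) (u' : V) by rw [om]; ring]

set_option maxHeartbeats 800000 in
/-- The case of a four-dimensional fixed space in dimension seven. -/
theorem omega_le_of_fixed_four (hdim7 : finrank F₀ V₀ = 7)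
    (hK : finrank F₀ (LinearMap.ker (pairMap Q V₀ y z)) = 4)
    (hbad : IsQBad Q V₀ ζ y z) : commutator (orthGroup Q) ≤ M := by
  classical
  haveI := Fintype.ofFinite F₀
  obtain ⟨u₀, u₀', hb⟩ := hbad
  set K := LinearMap.ker (pairMap Q V₀ y z) with hKdef
  have hB : ∀ a b : V₀, QuadraticMap.polarBilin hR.quad₀ a b = 0 ↔ polar Q (a : V) (b : V) = 0 :=
    fun a b => hR.polar₀_eq_zero
  have h2 : (2 : F) ≠ 0 := by
    intro h2
    have h := CfsgLib.KnownA.RankAux.even_finrank_range (QuadraticMap.polarBilin hR.quad₀) fun v => (hB v v).2 (by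
      rw [polar_self', h2, zero_mul])
    rw [LinearMap.finrank_range_of_inj (LinearMap.ker_eq_bot.1 (LinearMap.separatingLeft_iff_ker_eq_bot.1 hR.nondeg₀.1)),
      hdim7] at h
    exact absurd h (by decide)
  by_cases hA : ∃ d ∈ K, Q (d : V) = 0 ∧ ∃ k ∈ K, polar Q (d : V) (k : V) ≠ 0
  · obtain ⟨d, hd, hdQ, k, hk, hdk⟩ := hA
    have hd0 : d ≠ 0 := fun e => hdk (by rw [e, Submodule.coe_zero, polar_zero_left])
    obtain ⟨hyd, hzd⟩ := mem_pairKer.1 hd
    obtain ⟨hyk, hzk⟩ := mem_pairKer.1 hk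
    let adj : V₀ → V₀ := fun u => u + (-(⟨ζ * polar Q (d : V) (u : V) / (ζ * polar Q (d : V) (k : V)),
      div_mem (hR.pol_mem d.2 u.2) (hR.pol_mem d.2 k.2)⟩ : F₀)) • k
    have hadj : ∀ u : V₀, polar Q (d : V) (adj u : V) = 0 ∧ polar Q y (adj u : V) = polar Q y (u : V) ∧
        polar Q z (adj u : V) = polar Q z (u : V) := fun u => by
      simp only [adj, Submodule.coe_add, SetLike.val_smul, coe_smul_eq', Subfield.coe_neg, polar_add_right,
        polar_smul_r', hyk, hzk, mul_div_mul_left _ _ hR.zeta_ne]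
      refine ⟨?_, by ring, by ring⟩
      field_simp
      ring
    refine omega_le_of_fixed_pair hR hM hdim hr hcard h4 hn hy hz hyz hT hdQ hd0 hyd hzd (hadj u₀).1 (hadj u₀').1 ?_
    rwa [om, (hadj u₀).2.1, (hadj u₀).2.2, (hadj u₀').2.1, (hadj u₀').2.2, ← om]
  push Not at hA
  set N := LinearMap.BilinForm.orthogonal (QuadraticMap.polarBilin hR.quad₀) K with hNdef
  have hmemN : ∀ u : V₀, u ∈ N ↔ ∀ k ∈ K, polar Q (k : V) (u : V) = 0 := fun u =>
    ⟨fun h k hk => (hB k u).1 (h k hk), fun h k hk => (hB k u).2 (h k hk)⟩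
  set R := K ⊓ N with hRdef
  have hRmem : ∀ d ∈ K, Q (d : V) = 0 → d ∈ R := fun d hd hdQ =>
    Submodule.mem_inf.2 ⟨hd, (hmemN d).2 fun k hk => by rw [polar_comm]; exact hA d hd hdQ k hk⟩
  have hRQ : ∀ d ∈ R, Q (d : V) = 0 := fun d hd => by
    have := (hmemN d).1 hd.2 d hd.1
    rw [polar_self'] at this
    exact (mul_eq_zero.1 this).resolve_left h2
  by_cases h3 : 3 ≤ finrank F₀ R
  · obtain ⟨d, hd, hd0⟩ : ∃ d ∈ R ⊓ hR.perpList [u₀, u₀'], d ≠ 0 := by
      refine Submodule.exists_mem_ne_zero_of_ne_bot fun e => ?_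
      have h1 := Submodule.finrank_sup_add_finrank_inf_eq R (hR.perpList [u₀, u₀'])
      have h5 := hR.finrank_perpList [u₀, u₀']
      have h6 := Submodule.finrank_le (R ⊔ hR.perpList [u₀, u₀'])
      rw [e, finrank_bot] at h1
      simp at h5
      omega
    obtain ⟨hyd, hzd⟩ := mem_pairKer.1 hd.1.1
    have hL := hR.mem_perpList.1 hd.2
    exact omega_le_of_fixed_pair hR hM hdim hr hcard h4 hn hy hz hyz hT (hRQ d hd.1) hd0 hyd hzd
      (by rw [polar_comm]; exact hL u₀ (by simp)) (by rw [polar_comm]; exact hL u₀' (by simp)) hb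
  exfalso
  have hrefl : LinearMap.BilinForm.IsRefl (QuadraticMap.polarBilin hR.quad₀) := polar_qperp_refl
  have hNd : finrank F₀ N = 3 := by rw [hNdef, LinearMap.BilinForm.finrank_orthogonal hR.nondeg₀, hdim7, hK]
  have h2R : 2 ≤ finrank F₀ R := by
    by_contra hlt
    obtain ⟨C, hC⟩ := Submodule.exists_isCompl R
    obtain ⟨c, hc, hc0, hcQ⟩ := hR.exists_sing_in (K ⊓ C) (by
      have h1 := Submodule.finrank_sup_add_finrank_inf_eq K C
      have h5 := Submodule.finrank_add_eq_of_isCompl hC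
      have h6 := Submodule.finrank_le (K ⊔ C)
      omega)
    exact hc0 (Submodule.disjoint_def.1 hC.disjoint c (hRmem c hc.1 hcQ) hc.2)
  let bR := Module.finBasisOfFinrankEq F₀ R (show finrank F₀ R = 2 by omega)
  obtain ⟨n, hnN, hnR⟩ : ∃ n ∈ N, n ∉ R := by
    by_contra! h
    have := Submodule.finrank_mono h
    omega
  have hRN : R ⊔ (F₀ ∙ n) = N := by
    refine Submodule.eq_of_le_of_finrank_le (sup_le inf_le_right ((Submodule.span_singleton_le_iff_mem _ _).2 hnN)) ?_
    rw [hNd, Submodule.finrank_sup_span_singleton hnR]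
    omega
  have hnQ : Q (n : V) ≠ 0 := by
    intro e
    refine hnR (Submodule.mem_inf.2 ⟨?_, hnN⟩)
    rw [← LinearMap.BilinForm.orthogonal_orthogonal hR.nondeg₀ hrefl K, ← hNdef]
    intro a ha
    rw [← hRN] at ha
    obtain ⟨r, hr', _, hs, rfl⟩ := Submodule.mem_sup.1 ha
    obtain ⟨c, rfl⟩ := Submodule.mem_span_singleton.1 hs
    refine (hB _ _).2 ?_
    rw [Submodule.coe_add, SetLike.val_smul, coe_smul_eq', polar_add_left, polar_smul_l', polar_self', e,
      (hmemN n).1 hnN r hr'.1]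
    ring
  set r₁ : V₀ := (bR 0 : V₀)
  set r₂ : V₀ := (bR 1 : V₀)
  have hr₁ : r₁ ∈ R := (bR 0).2
  have hr₂ : r₂ ∈ R := (bR 1).2
  have hperp : ∀ u : V₀, polar Q (r₁ : V) (u : V) = 0 → polar Q (r₂ : V) (u : V) = 0 →
      ∀ r ∈ R, polar Q (r : V) (u : V) = 0 := fun u e1 e2 r hr' => by
    have e := congrArg (fun x : R => ((x : V₀) : V)) (bR.sum_repr ⟨r, hr'⟩)
    simp only [Fin.sum_univ_two, Submodule.coe_add, SetLike.val_smul, coe_smul_eq'] at e
    rw [← e, polar_add_left, polar_smul_l', polar_smul_l']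
    change _ * polar Q (r₁ : V) (u : V) + _ * polar Q (r₂ : V) (u : V) = 0
    rw [e1, e2]; ring
  have hKeq : hR.perpList [r₁, r₂, n] ≤ K := by
    intro u hu
    rw [hR.mem_perpList] at hu
    rw [← LinearMap.BilinForm.orthogonal_orthogonal hR.nondeg₀ hrefl K, ← hNdef]
    intro a ha
    rw [← hRN] at ha
    obtain ⟨r, hr', _, hs, rfl⟩ := Submodule.mem_sup.1 ha
    obtain ⟨c, rfl⟩ := Submodule.mem_span_singleton.1 hs
    refine (hB _ _).2 ?_
    rw [Submodule.coe_add, SetLike.val_smul, coe_smul_eq', polar_add_left, polar_smul_l',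
      hperp u (hu r₁ (by simp)) (hu r₂ (by simp)) r hr', hu n (by simp)]
    ring
  have hplane : ∀ x : V, Q x = 0 → (∀ k ∈ K, polar Q x (k : V) = 0) →
      ∀ u : V₀, polar Q (r₁ : V) (u : V) = 0 → polar Q (r₂ : V) (u : V) = 0 → polar Q x (u : V) = 0 := by
    intro x hx hxK u e1 e2
    have hmem := hR.mem_span_of_perp [r₁, r₂, n] (x := x) fun u hu => hxK u (hKeq hu)
    rw [show {v : V | ∃ a ∈ [r₁, r₂, n], (a : V) = v} = {(r₁ : V), (r₂ : V), (n : V)} by ext; simp [eq_comm]] at hmem
    obtain ⟨a, s, hs, rfl⟩ := Submodule.mem_span_insert.1 hmem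
    obtain ⟨b, c, rfl⟩ := Submodule.mem_span_pair.1 hs
    have hc : c = 0 := by
      have i1 := hRQ r₁ hr₁
      have i2 := hRQ r₂ hr₂
      have i12 : polar Q (r₁ : V) (r₂ : V) = 0 := (hmemN r₂).1 hr₂.2 r₁ hr₁.1
      have i1n : polar Q (r₁ : V) (n : V) = 0 := (hmemN n).1 hnN r₁ hr₁.1
      have i2n : polar Q (r₂ : V) (n : V) = 0 := (hmemN n).1 hnN r₂ hr₂.1
      rw [quad_add' (Q := Q), quad_smul', quad_add' (Q := Q), quad_smul', quad_smul', polar_smul_l', polar_smul_r',
        polar_add_right, polar_smul_r', polar_smul_l', polar_smul_r', polar_smul_l', i1, i2, i12, i1n, i2n] at hx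
      have hx' : c * c * Q (n : V) = 0 := by linear_combination hx
      exact mul_self_eq_zero.1 ((mul_eq_zero.1 hx').resolve_right hnQ)
    rw [hc, zero_smul, add_zero, polar_add_left, polar_smul_l', polar_smul_l', e1, e2]
    ring
  have hle : hR.perpList [r₁, r₂] ≤ K := fun u hu => by
    rw [hR.mem_perpList] at hu
    exact mem_pairKer.2 ⟨hplane y hy (fun k hk => (mem_pairKer.1 hk).1) u (hu r₁ (by simp)) (hu r₂ (by simp)),
      hplane z hz (fun k hk => (mem_pairKer.1 hk).2) u (hu r₁ (by simp)) (hu r₂ (by simp))⟩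
  have h5 := hR.finrank_perpList [r₁, r₂]
  have h6 := Submodule.finrank_mono hle
  simp at h5
  omega

/-- A root element with a fixed rational space of dimension three. -/
theorem omega_le_of_fixed (hK : 3 ≤ finrank F₀ (LinearMap.ker (pairMap Q V₀ y z)))
    (hbad : IsQBad Q V₀ ζ y z) : commutator (orthGroup Q) ≤ M := by
  classical
  obtain ⟨d, hd, hd0, hdQ⟩ := hR.exists_sing_in _ hK
  obtain ⟨hyd, hzd⟩ := mem_pairKer.1 hd
  obtain ⟨u₀, u₀', hb⟩ := hbad
  by_cases hp : ∃ u u' : V₀, polar Q (d : V) (u : V) = 0 ∧ polar Q (d : V) (u' : V) = 0 ∧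
      ζ * om Q y z (u : V) (u' : V) ∉ F₀
  · obtain ⟨u, u', hu, hu', h⟩ := hp
    exact omega_le_of_fixed_pair hR hM hdim hr hcard h4 hn hy hz hyz hT hdQ hd0 hyd hzd hu hu' h
  push Not at hp
  set W := hR.perpList [d] with hWdef
  have hW : ∀ u, u ∈ W ↔ polar Q (d : V) (u : V) = 0 := fun u => by simp [hWdef, hR.mem_perpList]
  by_cases hw : ∃ u₁ ∈ W, ∃ u₂ ∈ W, om Q y z ((u₁ : V₀) : V) ((u₂ : V₀) : V) ≠ 0
  · obtain ⟨u₁, hu₁, u₂, hu₂, hw⟩ := hw
    set c := ζ * om Q y z (u₁ : V) (u₂ : V) with hc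
    have hc0 : c ≠ 0 := mul_ne_zero hR.zeta_ne hw
    have hcF : c ∈ F₀ := hp u₁ u₂ ((hW _).1 hu₁) ((hW _).1 hu₂)
    set Φ := pairMap Q V₀ y z
    have himg : W.map Φ ≤ Submodule.span F₀ {Φ u₁, Φ u₂} := by
      rintro _ ⟨u, hu, rfl⟩
      have ha := hp u u₂ ((hW _).1 hu) ((hW _).1 hu₂)
      have hb' := hp u₁ u ((hW _).1 hu₁) ((hW _).1 hu)
      refine Submodule.mem_span_pair.2 ⟨⟨_, div_mem ha hcF⟩, ⟨_, div_mem hb' hcF⟩, ?_⟩
      simp only [Φ, pairMap, LinearMap.coe_mk, AddHom.coe_mk, Prod.smul_mk, Prod.mk_add_mk, Subfield.smul_def,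
        smul_eq_mul, hc, om]
      rw [hc, om] at hc0
      refine Prod.ext ?_ ?_ <;> (simp only; rw [div_mul_eq_mul_div, div_mul_eq_mul_div, ← add_div, div_eq_iff hc0]; ring)
    have hrange : finrank F₀ (W.map Φ) ≤ 2 := by
      refine (Submodule.finrank_mono himg).trans ?_
      have := finrank_span_finset_le_card (R := F₀) ({Φ u₁, Φ u₂} : Finset (F × F))
      rw [Finset.coe_pair, Set.finrank] at this
      exact this.trans Finset.card_le_two
    have hker : finrank F₀ V₀ ≤ finrank F₀ (LinearMap.ker Φ) + 3 := by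
      have h1 := (Φ.domRestrict W).finrank_range_add_finrank_ker
      have h2 : finrank F₀ (LinearMap.range (Φ.domRestrict W)) = finrank F₀ (W.map Φ) := by
        rw [LinearMap.range_domRestrict]
      have h3 : finrank F₀ (LinearMap.ker (Φ.domRestrict W)) ≤ finrank F₀ (LinearMap.ker Φ) :=
        LinearMap.finrank_le_finrank_of_injective
          (f := (W.subtype.comp (LinearMap.ker (Φ.domRestrict W)).subtype).codRestrict (LinearMap.ker Φ) fun x => x.2)
          fun a b h => by
            have h' := congrArg Subtype.val h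
            exact Subtype.ext (Subtype.ext h')
      have h5 := hR.finrank_perpList [d]
      rw [← hWdef, List.length_singleton] at h5
      omega
    by_cases hsmall : finrank F₀ V₀ = 7 ∧ finrank F₀ (LinearMap.ker Φ) = 4
    · exact omega_le_of_fixed_four hR hM hdim hr hcard h4 hn hy hz hyz hT hsmall.1 hsmall.2 ⟨u₀, u₀', hb⟩
    obtain ⟨d', hd', hd'0, hd'Q⟩ := hR.exists_sing_in (LinearMap.ker Φ ⊓ hR.perpList [u₀, u₀']) (by
      have h1 := Submodule.finrank_sup_add_finrank_inf_eq (LinearMap.ker Φ) (hR.perpList [u₀, u₀'])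
      have h2 := hR.finrank_perpList [u₀, u₀']
      have h3 := Submodule.finrank_le (LinearMap.ker Φ ⊔ hR.perpList [u₀, u₀'])
      simp at h2
      omega)
    obtain ⟨hd'K, hd'L⟩ := Submodule.mem_inf.1 hd'
    obtain ⟨hyd', hzd'⟩ := mem_pairKer.1 hd'K
    rw [hR.mem_perpList] at hd'L
    exact omega_le_of_fixed_pair hR hM hdim hr hcard h4 hn hy hz hyz hT hd'Q hd'0 hyd' hzd'
      (by rw [polar_comm]; exact hd'L u₀ (by simp)) (by rw [polar_comm]; exact hd'L u₀' (by simp)) hb
  push Not at hw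
  -- the rational vector lies on the singular plane
  obtain ⟨f, hfQ, hfd, -⟩ := hR.exists_sing_pair (v := d) [] (by simp; omega) (by simpa using hd0)
  let π : V₀ → V₀ := fun u => u - (⟨ζ * polar Q (d : V) (u : V), hR.pol_mem d.2 u.2⟩ : F₀) • f
  have hπW : ∀ u, π u ∈ W := fun u => by
    rw [hW]
    simp only [π, Submodule.coe_sub, SetLike.val_smul, coe_smul_eq', polar_sub_right, polar_smul_r',
      polar_comm _ (d : V) (f : V)]
    linear_combination -(polar Q (d : V) (u : V)) * hfd
  obtain ⟨p, q, hpq, hperp⟩ : ∃ p q : F, (p ≠ 0 ∨ q ≠ 0) ∧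
      ∀ u ∈ W, p * polar Q y ((u : V₀) : V) + q * polar Q z (u : V) = 0 := by
    by_cases h1 : ∀ u ∈ W, polar Q y ((u : V₀) : V) = 0
    · exact ⟨1, 0, Or.inl one_ne_zero, fun u hu => by rw [h1 u hu]; ring⟩
    push Not at h1
    obtain ⟨u₁, hu₁, h1⟩ := h1
    refine ⟨polar Q z (u₁ : V), -(polar Q y (u₁ : V)), Or.inr (neg_ne_zero.2 h1), fun u hu => ?_⟩
    have := hw u hu u₁ hu₁
    rw [om] at this
    linear_combination this
  set x := p • y + q • z with hxdef
  obtain ⟨k, hk⟩ : ∃ k : F, x = k • (d : V) := by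
    refine ⟨ζ * polar Q x (f : V), sub_eq_zero.1 (hR.sep fun u hu => ?_)⟩
    have h1 := hperp _ (hπW ⟨u, hu⟩)
    simp only [π, Submodule.coe_sub, SetLike.val_smul, coe_smul_eq', polar_sub_right, polar_smul_r'] at h1
    rw [sub_eq_add_neg, polar_add_left, polar_neg_left, polar_smul_l', hxdef, polar_add_left, polar_smul_l',
      polar_smul_l', polar_add_left, polar_smul_l', polar_smul_l']
    linear_combination h1
  have hx : ∀ u : V₀, k * polar Q (d : V) (u : V) = p * polar Q y (u : V) + q * polar Q z (u : V) := fun u => by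
    rw [← polar_smul_l', ← hk, hxdef, polar_add_left, polar_smul_l', polar_smul_l']
  have hlin : ∀ u u' : V₀, k * polar Q (d : V) (u : V) * polar Q z (u' : V) -
      polar Q z (u : V) * (k * polar Q (d : V) (u' : V)) = p * om Q y z (u : V) (u' : V) := fun u u' => by
    rw [hx, hx, om]; ring
  have hlin' : ∀ u u' : V₀, polar Q y (u : V) * (k * polar Q (d : V) (u' : V)) -
      k * polar Q (d : V) (u : V) * polar Q y (u' : V) = q * om Q y z (u : V) (u' : V) := fun u u' => by
    rw [hx, hx, om]; ring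
  have hk0 : k ≠ 0 := by
    intro h0
    apply hb
    have e1 := hlin u₀ u₀'
    have e2 := hlin' u₀ u₀'
    rw [h0] at e1 e2
    have h1 : om Q y z (u₀ : V) (u₀' : V) = 0 := by
      rcases hpq with h | h
      · exact (mul_eq_zero.1 (show p * om Q y z (u₀ : V) (u₀' : V) = 0 by rw [← e1]; ring)).resolve_left h
      · exact (mul_eq_zero.1 (show q * om Q y z (u₀ : V) (u₀' : V) = 0 by rw [← e2]; ring)).resolve_left h
    rw [h1, mul_zero]; exact zero_mem _
  have hdd : polar Q (d : V) (d : V) = 0 := by rw [polar_self', hdQ, mul_zero]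
  -- the root element as an element of the radical
  obtain ⟨x', hdx', hx', hom⟩ : ∃ x' : V, polar Q (d : V) x' = 0 ∧ SiegelIn M (d : V) x' ∧
      ∀ u u' : V₀, om Q y z (u : V) (u' : V) =
        polar Q (d : V) (u : V) * polar Q x' (u' : V) - polar Q x' (u : V) * polar Q (d : V) (u' : V) := by
    by_cases hq : q = 0
    · have hp0 : p ≠ 0 := hpq.resolve_right fun h => h hq
      have ey : y = (k / p) • (d : V) := by
        rw [div_eq_inv_mul, mul_smul, ← hk, hxdef, hq, zero_smul, add_zero, inv_smul_smul₀ hp0]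
      refine ⟨(k / p) • z, by rw [polar_smul_r', polar_comm, hzd, mul_zero], ?_, fun u u' => ?_⟩
      · intro g hg
        have ht : (k / p)⁻¹ • y = (d : V) := by rw [ey, inv_smul_smul₀ (div_ne_zero hk0 hp0)]
        rw [← ht] at hg
        have := hg.of_smul (inv_ne_zero (div_ne_zero hk0 hp0))
        rw [inv_smul_smul₀ (div_ne_zero hk0 hp0)] at this
        exact hT g this
      · rw [polar_smul_l', polar_smul_l']
        field_simp
        linear_combination -(hlin u u')
    · refine ⟨-((k / q) • y), by rw [polar_neg_right, polar_smul_r', polar_comm, hyd, mul_zero, neg_zero], ?_,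
        fun u u' => ?_⟩
      · have ez : (k / q) • (d : V) = z + (p / q) • y := by
          rw [div_eq_inv_mul, mul_smul, ← hk, hxdef, smul_add, inv_smul_smul₀ hq, smul_smul, ← div_eq_inv_mul,
            add_comm]
        have hyy : polar Q y ((p / q) • y) = 0 := by rw [polar_smul_r', polar_self', hy]; ring
        have h1 := SiegelIn.add hR.nondeg hy hyz hyy hT (siegelIn_smul_self M hy _)
        rw [← ez] at h1
        exact SiegelIn.neg hR.nondeg hdQ (by rw [polar_smul_r', polar_comm, hyd, mul_zero])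
          (siegelIn_swap hR hy hdQ hyd h1)
      · rw [polar_neg_left, polar_neg_left, polar_smul_l', polar_smul_l']
        field_simp
        linear_combination -(hlin' u u')
  obtain ⟨a, ha, hax⟩ : ∃ a : V₀, a ∈ W ∧ polar Q (a : V) x' ∉ F₀ := by
    by_contra hc
    push Not at hc
    apply hb
    have hmu : ∀ u : V₀, polar Q (d : V) ((π u : V₀) : V) = 0 := fun u => (hW _).1 (hπW u)
    have h1 := hc _ (hπW u₀)
    have h2 := hc _ (hπW u₀')
    rw [polar_comm] at h1 h2
    simp only [π, Submodule.coe_sub, SetLike.val_smul, coe_smul_eq', polar_sub_right, polar_smul_r'] at h1 h2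
    rw [hom]
    have h3 := sub_mem (mul_mem (hR.pol_mem d.2 u₀.2) h2) (mul_mem h1 (hR.pol_mem d.2 u₀'.2))
    convert h3 using 1
    ring
  exact omega_le_of_seed hR hM hdim hr hcard h4 hn hdQ hd0 hdx' hx' ((hW _).1 ha) hax

end CfsgLib.Classical.SubfieldOrth
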