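import Cfsg.Agent.Lib.Classical.SubfieldOrth.QuadFrame
import Cfsg.Agent.Lib.Classical.SubfieldMax.Main

/-!
# Spreading a nonrational Siegel element of an orthogonal group
-/

set_option autoImplicit false
set_option linter.unusedSectionVars false
set_option backward.isDefEq.respectTransparency false

open Module QuadraticMap CfsgLib.Orth

namespace CfsgLib.Classical.SubfieldOrth

variable {F : Type*} [Field F] [Fintype F] {V : Type*} [AddCommGroup V] [Module F V] [FiniteDimensional F V]
  {F₀ : Subfield F} {Q : QuadraticForm F V} {V₀ : Submodule F₀ V} {ζ : F}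
  {M : Subgroup (orthGroup Q)}

/-- The subgroup contains the rational Siegel elements. -/
def RatSiegel (V₀ : Submodule F₀ V) (ζ : F) (M : Subgroup (orthGroup Q)) : Prop :=
  ∀ d u : V₀, Q (d : V) = 0 → Q (u : V) = 0 → polar Q (d : V) (u : V) = 0 → SiegelIn M (d : V) (ζ • (u : V))

/-- The coefficient is realised on the given pair. -/
def HasQS (M : Subgroup (orthGroup Q)) (ζ s : F) (d v : V₀) : Prop :=
  Q (d : V) = 0 ∧ Q (v : V) = 0 ∧ polar Q (d : V) (v : V) = 0 ∧ SiegelIn M (d : V) ((ζ * s) • (v : V))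

theorem mem_single {a y : V₀} : y ∈ Submodule.span F₀ {z | z ∈ [a]} ↔ ∃ c : F₀, c • a = y := by
  rw [show {z | z ∈ [a]} = ({a} : Set V₀) by ext; simp, Submodule.mem_span_singleton]

theorem span_swap {p q r : V₀} (hq : q ∉ Submodule.span F₀ {y | y ∈ [p, r]})
    (hr : r ∉ Submodule.span F₀ {y | y ∈ [p]}) : r ∉ Submodule.span F₀ {y | y ∈ [p, q]} := by
  intro hrm
  rw [show {y | y ∈ [p, q]} = insert q {y | y ∈ [p]} by ext; simp [or_comm]] at hrm
  obtain ⟨k, z, hz, e⟩ := Submodule.mem_span_insert.1 hrm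
  have hk : k ≠ 0 := fun h => hr (by rw [e, h, zero_smul, zero_add]; exact hz)
  refine hq ?_
  have eq : q = k⁻¹ • (r - z) := by rw [e, add_sub_cancel_right, smul_smul, inv_mul_cancel₀ hk, one_smul]
  rw [eq]
  refine Submodule.smul_mem _ _ (sub_mem (Submodule.subset_span (by simp)) ?_)
  exact Submodule.span_mono (by intro y; simp; tauto) hz

variable (hR : IsQFrame Q V₀ ζ)
include hR

/-- Exchanging the two vectors. -/
theorem siegelIn_swap {d x : V} (hd : Q d = 0) (hx : Q x = 0) (hdx : polar Q d x = 0) {k : F}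
    (h : SiegelIn M d (k • x)) : SiegelIn M x (k • d) := by
  intro g hg
  by_cases hk : k = 0
  · rw [hk, zero_smul] at hg
    rw [hg.unique (isSiegel_one hx)]; exact M.one_mem
  -- the inverse element
  obtain ⟨s, hs⟩ := exists_isSiegel hR.nondeg (d := d) (u := k • x) hd (by rw [polar_smul_r', hdx, mul_zero])
  have h1 := (IsSiegel.swap (by rw [quad_smul', hx, mul_zero]) hs).of_smul hk
  rw [smul_neg] at h1
  have h0 : IsSiegel (g * s) x (k • d + -(k • d)) := hg.mul h1
  rw [add_neg_cancel] at h0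
  rw [eq_inv_of_mul_eq_one_left (h0.unique (isSiegel_one hx))]
  exact M.inv_mem (h s hs)

theorem HasQS.swap {s : F} {d v : V₀} (h : HasQS M ζ s d v) : HasQS M ζ s v d :=
  ⟨h.2.1, h.1, by rw [polar_comm]; exact h.2.2.1, siegelIn_swap hR h.1 h.2.1 h.2.2.1 h.2.2.2⟩

theorem HasQS.add {s t : F} {d v : V₀} (h : HasQS M ζ s d v) (h' : HasQS M ζ t d v) : HasQS M ζ (s + t) d v := by
  refine ⟨h.1, h.2.1, h.2.2.1, ?_⟩
  rw [mul_add, add_smul]
  exact SiegelIn.add hR.nondeg h.1 (by rw [polar_smul_r', h.2.2.1, mul_zero])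
    (by rw [polar_smul_r', h.2.2.1, mul_zero]) h.2.2.2 h'.2.2.2

theorem HasQS.neg {s : F} {d v : V₀} (h : HasQS M ζ s d v) : HasQS M ζ (-s) d v := by
  refine ⟨h.1, h.2.1, h.2.2.1, ?_⟩
  rw [mul_neg, neg_smul]
  exact SiegelIn.neg hR.nondeg h.1 (by rw [polar_smul_r', h.2.2.1, mul_zero]) h.2.2.2

/-- The commutator of two Siegel elements. -/
theorem qs_commutator {s t : F} {a v v' x : V₀} (hs : HasQS M ζ s a v) (ht : HasQS M ζ t v' x)
    (hav' : polar Q (a : V) (v' : V) = 0) (hax : polar Q (a : V) (x : V) = 0) (hvx : polar Q (v : V) (x : V) = 0)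
    (hvv' : ζ * polar Q (v : V) (v' : V) = 1) : HasQS M ζ (s * t) a x := by
  obtain ⟨haa, hvv, hav, hsM⟩ := hs
  obtain ⟨hv'v', hxx, hv'x, htM⟩ := ht
  refine ⟨haa, hxx, hax, ?_⟩
  by_cases ht0 : t = 0
  · rw [ht0, mul_zero, mul_zero, zero_smul]
    exact fun g hg => by rw [hg.unique (isSiegel_one haa)]; exact M.one_mem
  obtain ⟨g, hg⟩ := exists_isSiegel hR.nondeg (d := (a : V)) (u := (ζ * s) • (v : V)) haa
    (by rw [polar_smul_r', hav, mul_zero])
  have hgM := hsM g hg
  set ν := ζ * t with hν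
  have hν0 : ν ≠ 0 := mul_ne_zero hR.zeta_ne ht0
  have e1 : g.1 (x : V) = x := by
    rw [hg.2.2, hax, polar_smul_l', hvx, mul_zero, zero_smul, mul_zero, neg_zero, sub_zero, zero_smul,
      add_zero, add_zero]
  have e2 : g.1 (v' : V) = (v' : V) + (-s) • (a : V) := by
    rw [hg.2.2, hav', polar_smul_l', show ζ * s * polar Q (v : V) (v' : V) = s by
      rw [mul_comm ζ, mul_assoc, hvv', mul_one], mul_zero, zero_smul, add_zero, sub_zero]
  obtain ⟨h, hh⟩ := exists_isSiegel hR.nondeg (d := (v' : V)) (u := ν • (x : V)) hv'v'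
    (by rw [polar_smul_r', hv'x, mul_zero])
  have hconj := hh.conj g
  rw [map_smul, e1, e2] at hconj
  have hQw : Q (ν • (x : V)) = 0 := by rw [quad_smul', hxx, mul_zero]
  set A : V := (v' : V) + (-s) • (a : V)
  have hA : SiegelIn M A (ν • (x : V)) := fun k hk => by
    rw [hk.unique hconj]; exact M.mul_mem (M.mul_mem hgM (htM h hh)) (M.inv_mem hgM)
  have hAQ : Q A = 0 := by simp only [A, quad_add', quad_smul', polar_smul_r', hv'v', haa, polar_comm _ (v' : V) a, hav']; ring
  have hAx : polar Q A (x : V) = 0 := by simp only [A, polar_add_left, polar_smul_l', hv'x, hax]; ring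
  have h1 := siegelIn_swap hR hAQ hxx hAx hA
  have h2 := siegelIn_swap hR hv'v' hxx hv'x htM
  have h3 := SiegelIn.add hR.nondeg hxx (u := ν • A) (w := -(ν • (v' : V)))
    (by rw [polar_smul_r', polar_comm, hAx, mul_zero])
    (by rw [polar_neg_right, polar_smul_r', polar_comm, hv'x, mul_zero, neg_zero]) h1
    (SiegelIn.neg hR.nondeg hxx (by rw [polar_smul_r', polar_comm, hv'x, mul_zero]) h2)
  rw [show ν • A + -(ν • (v' : V)) = -((ν * s) • (a : V)) by simp only [A]; module] at h3
  have h4 := SiegelIn.neg hR.nondeg hxx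
    (by rw [polar_neg_right, polar_smul_r', polar_comm, hax, mul_zero, neg_zero]) h3
  rw [neg_neg, show ν * s = ζ * (s * t) by rw [hν]; ring] at h4
  exact siegelIn_swap hR hxx haa (by rw [polar_comm]; exact hax) h4

variable (hM : RatSiegel V₀ ζ M) (hdim : 7 ≤ finrank F₀ V₀)
include hM hdim

theorem hasQS_rational {d u : V₀} (hd : Q (d : V) = 0) (hu : Q (u : V) = 0) (hdu : polar Q (d : V) (u : V) = 0)
    {c : F} (hc : c ∈ F₀) : HasQS M ζ c d u := by
  refine ⟨hd, hu, hdu, ?_⟩
  rw [mul_smul]
  exact hM d ⟨_, smul_memQ hc u.2⟩ hd (by rw [quad_smul', hu, mul_zero]) (by rw [polar_smul_r', hdu, mul_zero])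

/-- Rational vectors orthogonal to a singular one. -/
theorem siegelIn_rational {d u : V₀} (hd : Q (d : V) = 0) (hu : polar Q (d : V) (u : V) = 0) :
    SiegelIn M (d : V) (ζ • (u : V)) := by
  let P : Submodule F₀ V₀ :=
    { carrier := {y | ∀ t : F₀, polar Q (d : V) ((t • y : V₀) : V) = 0 ∧ SiegelIn M (d : V) (ζ • ((t • y : V₀) : V))}
      add_mem' := fun {a b} ha hb t => by
        rw [smul_add, Submodule.coe_add, smul_add]
        exact ⟨by rw [polar_add_right, (ha t).1, (hb t).1, add_zero],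
          SiegelIn.add hR.nondeg hd (by rw [polar_smul_r', (ha t).1, mul_zero])
            (by rw [polar_smul_r', (hb t).1, mul_zero]) (ha t).2 (hb t).2⟩
      zero_mem' := fun t => by
        rw [smul_zero, Submodule.coe_zero, smul_zero]
        exact ⟨polar_zero_right Q _, fun g hg => by rw [hg.unique (isSiegel_one hd)]; exact M.one_mem⟩
      smul_mem' := fun k a ha t => by rw [smul_smul]; exact ha _ }
  have hle : Submodule.span F₀ (IsQFrame.singPerp Q V₀ [d]) ≤ P := by
    refine Submodule.span_le.2 fun y hy t => ?_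
    have hdy : polar Q (d : V) ((t • y : V₀) : V) = 0 := by
      rw [SetLike.val_smul, coe_smul_eq', polar_smul_r', hy.2 d (by simp), mul_zero]
    exact ⟨hdy, hM d (t • y) hd (by rw [SetLike.val_smul, coe_smul_eq', quad_smul', hy.1, mul_zero]) hdy⟩
  have := (hle (hR.mem_span_sing [d] (by simp; omega) (x := u) (by simp [hu])) 1).2
  rwa [one_smul] at this

/-- Change the second vector. -/
theorem HasQS.move {s : F} {a v x : V₀} (h : HasQS M ζ s a v) (hxx : Q (x : V) = 0)
    (hax : polar Q (a : V) (x : V) = 0) (hvx : polar Q (v : V) (x : V) = 0)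
    (hind : v ∉ Submodule.span F₀ {y | y ∈ [a, x]}) : HasQS M ζ s a x := by
  obtain ⟨v', hv'v', hvv', hL⟩ := hR.exists_sing_pair [a, x] (by simp; omega) hind
  have h1 : HasQS M ζ 1 v' x :=
    hasQS_rational hR hM hdim hv'v' hxx (by rw [polar_comm]; exact hL x (by simp)) (one_mem F₀)
  have := qs_commutator hR h h1 (hL a (by simp)) hax hvx (by rw [polar_comm]; exact hvv')
  rwa [mul_one] at this

theorem HasQS.step {s : F} {a v x : V₀} (h : HasQS M ζ s a v) (hav : v ∉ Submodule.span F₀ {y | y ∈ [a]})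
    (ha : a ≠ 0) (hxx : Q (x : V) = 0) (hax : polar Q (a : V) (x : V) = 0) (hxa : x ∉ Submodule.span F₀ {y | y ∈ [a]}) :
    HasQS M ζ s a x := by
  have hav0 := h.2.2.1
  have hvv : polar Q (v : V) (v : V) = 0 := by rw [polar_self', h.2.1, mul_zero]
  have hxx' : polar Q (x : V) (x : V) = 0 := by rw [polar_self', hxx, mul_zero]
  have via : ∀ m : V₀, Q (m : V) = 0 → polar Q (a : V) (m : V) = 0 → polar Q (v : V) (m : V) = 0 →
      polar Q (m : V) (x : V) = 0 → m ∉ Submodule.span F₀ {y | y ∈ [a, v]} →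
      m ∉ Submodule.span F₀ {y | y ∈ [a, x]} → HasQS M ζ s a x := fun m hmm ham hvm hmx hm1 hm2 =>
    (h.move hR hM hdim hmm ham hvm (span_swap hm1 hav)).move hR hM hdim hxx hax hmx hm2
  by_cases hvx : polar Q (v : V) (x : V) = 0
  · by_cases hind : v ∉ Submodule.span F₀ {y | y ∈ [a, x]}
    · exact h.move hR hM hdim hxx hax hvx hind
    push Not at hind
    have hxav : x ∈ Submodule.span F₀ {y | y ∈ [a, v]} := by
      by_contra hc
      exact span_swap hc hav hind
    obtain ⟨m, hm, hmm, hmL⟩ := hR.exists_sing_outside [a, v] (Submodule.span F₀ {y | y ∈ [a, v]})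
      (by simp; omega) (by have := IsQFrame.finrank_span_list_le hR [a, v]; simp at this ⊢; omega)
    refine via m hmm (hmL a (by simp)) (hmL v (by simp)) ?_ hm fun hc => hm (Submodule.span_le.2 (fun y hy => by
      simp only [Set.mem_setOf_eq, List.mem_cons, List.not_mem_nil, or_false] at hy
      rcases hy with rfl | rfl
      · exact Submodule.subset_span (by simp)
      · exact hxav) hc)
    rw [show {y | y ∈ [a, v]} = ({a, v} : Set V₀) by ext; simp, Submodule.mem_span_pair] at hxav
    obtain ⟨c, c', hc⟩ := hxav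
    simp [← hc, polar_add_right, coe_smul_eq', polar_smul_r', polar_comm _ (m : V) a, polar_comm _ (m : V) v,
      hmL a (by simp), hmL v (by simp)]
  -- both vectors and a partner of the axis
  have hpair : ∀ (α β : F₀) (q : V₀), polar Q ((α • v + β • q : V₀) : V) (v : V) = (β : F) * polar Q (q : V) v := by
    intro α β q; simp [coe_smul_eq', polar_add_left, polar_smul_l', hvv]
  have hna : a ∉ Submodule.span F₀ {y | y ∈ [v, x]} := by
    rw [show {y | y ∈ [v, x]} = ({v, x} : Set V₀) by ext; simp, Submodule.mem_span_pair]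
    rintro ⟨α, β, e⟩
    have h1 := hpair α β x
    rw [e, hav0, polar_comm _ (x : V) v, eq_comm, mul_eq_zero, or_iff_left hvx] at h1
    have h2 := hax
    simp [← e, coe_smul_eq', polar_add_left, polar_smul_l', h1, hvx] at h2
    exact ha (by rw [← e, h2, show β = 0 from Subtype.ext h1]; simp)
  obtain ⟨a', -, ha'a, ha'L⟩ := hR.exists_sing_pair [v, x] (by simp; omega) hna
  obtain ⟨m, hm, hm0, hmm⟩ := hR.exists_sing_in (hR.perpList [a, v, x, a']) (by
    have := hR.finrank_perpList [a, v, x, a']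
    simp at this
    omega)
  rw [hR.mem_perpList] at hm
  have hout : ∀ q : V₀, polar Q (a' : V) (q : V) = 0 → ∀ r : V₀, polar Q (a : V) (r : V) = 0 →
      polar Q (q : V) (r : V) ≠ 0 → polar Q (m : V) (r : V) = 0 → m ∉ Submodule.span F₀ {y | y ∈ [a, q]} := by
    intro q hq r har hqr hmr
    rw [show {y | y ∈ [a, q]} = ({a, q} : Set V₀) by ext; simp, Submodule.mem_span_pair]
    rintro ⟨α, β, e⟩
    rw [← e] at hmr
    simp [coe_smul_eq', polar_add_left, polar_smul_l', har, hqr] at hmr
    have h2 := hm a' (by simp)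
    rw [← e] at h2
    simp [coe_smul_eq', polar_add_right, polar_smul_r', hq, hmr, right_ne_zero_of_mul_eq_one ha'a] at h2
    exact hm0 (by rw [← e, h2, hmr]; simp)
  refine via m hmm (hm a (by simp)) (hm v (by simp)) (by rw [polar_comm]; exact hm x (by simp))
    (hout v (by rw [polar_comm]; exact ha'L v (by simp)) x hax hvx (by rw [polar_comm]; exact hm x (by simp)))
    (hout x (by rw [polar_comm]; exact ha'L x (by simp)) v hav0 (by rw [polar_comm]; exact hvx)
      (by rw [polar_comm]; exact hm v (by simp)))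

/-- A coefficient is realised on every pair. -/
theorem HasQS.all {s : F} {a v : V₀} (h : HasQS M ζ s a v) (hav : v ∉ Submodule.span F₀ {y | y ∈ [a]})
    (ha : a ≠ 0) {u x : V₀} (huu : Q (u : V) = 0) (hxx : Q (x : V) = 0) (hux : polar Q (u : V) (x : V) = 0) :
    HasQS M ζ s u x := by
  by_cases hxu : x ∈ Submodule.span F₀ {y | y ∈ [u]}
  · obtain ⟨c, rfl⟩ := mem_single.1 hxu
    refine ⟨huu, hxx, hux, ?_⟩
    rw [SetLike.val_smul, coe_smul_eq', smul_smul]
    exact siegelIn_smul_self M huu _
  by_cases hu0 : u = 0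
  · subst hu0
    exact ⟨huu, hxx, hux, by rw [Submodule.coe_zero]; exact fun g hg => AxIn.zero M _ g hg⟩
  have hmono : ∀ {S T : List V₀}, S ⊆ T → ∀ {y}, y ∈ Submodule.span F₀ {z | z ∈ S} →
      y ∈ Submodule.span F₀ {z | z ∈ T} := fun hST _ hy => Submodule.span_mono (fun z hz => hST hz) hy
  have hflip : ∀ {p q : V₀}, p ≠ 0 → q ∉ Submodule.span F₀ {y | y ∈ [p]} →
      p ∉ Submodule.span F₀ {y | y ∈ [q]} := by
    intro p q hp hq hc
    obtain ⟨c, hc'⟩ := mem_single.1 hc
    exact hq (mem_single.2 ⟨c⁻¹, by rw [← hc', inv_smul_smul₀ (fun e => hp (by rw [← hc', e, zero_smul]))]⟩)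
  obtain ⟨m, hm, hmm, hmL⟩ := hR.exists_sing_outside [a, u] (Submodule.span F₀ {y | y ∈ [a, u]})
    (by simp; omega) (by have := IsQFrame.finrank_span_list_le hR [a, u]; simp at this ⊢; omega)
  have hm0 : m ≠ 0 := fun e => hm (e ▸ zero_mem _)
  have hma : m ∉ Submodule.span F₀ {y | y ∈ [a]} := fun hc => hm (hmono (by simp) hc)
  have hmu : m ∉ Submodule.span F₀ {y | y ∈ [u]} := fun hc => hm (hmono (by simp) hc)
  have h1 : HasQS M ζ s a m := h.step hR hM hdim hav ha hmm (hmL a (by simp)) hma
  have h2 : HasQS M ζ s m u := (h1.swap hR).step hR hM hdim (hflip ha hma) hm0 huu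
    (by rw [polar_comm]; exact hmL u (by simp)) (hflip hu0 hmu)
  exact (h2.swap hR).step hR hM hdim hmu hu0 hxx hux hxu

/-- A nonrational coefficient gives `Ω`. -/
theorem omega_le_of_hasQS {r : ℕ} (hr : r.Prime) (hcard : Fintype.card F = Nat.card F₀ ^ r)
    (h4 : Good F V) (hn : 5 ≤ finrank F V)
    {μ : F} (hμ : μ ∉ F₀) {a v : V₀} (h : HasQS M ζ μ a v) (ha : a ≠ 0)
    (hav : v ∉ Submodule.span F₀ {y | y ∈ [a]}) : commutator (orthGroup Q) ≤ M := by
  obtain ⟨hp⟩ := exists_hypPairs hR.nondeg hn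
  let T : Set F := {t | ∀ u x : V₀, Q (u : V) = 0 → Q (x : V) = 0 → polar Q (u : V) (x : V) = 0 → HasQS M ζ t u x}
  have hF₀ : ∀ c ∈ F₀, c ∈ T := fun c hc u x huu hxx hux => hasQS_rational hR hM hdim huu hxx hux hc
  let R : Subring F :=
    { carrier := T
      one_mem' := hF₀ 1 (one_mem _)
      zero_mem' := hF₀ 0 (zero_mem _)
      add_mem' := fun {s t} hs ht u x huu hxx hux => (hs u x huu hxx hux).add hR (ht u x huu hxx hux)
      neg_mem' := fun {s} hs u x huu hxx hux => (hs u x huu hxx hux).neg hR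
      mul_mem' := fun {s t} hs ht u x huu hxx hux => by
        obtain ⟨w, hw, hww, hwL⟩ := hR.exists_sing_outside [u, x] (Submodule.span F₀ {y | y ∈ [u, x]})
          (by simp; omega) (by have := IsQFrame.finrank_span_list_le hR [u, x]; simp at this ⊢; omega)
        obtain ⟨v', hv'v', hwv', hL⟩ := hR.exists_sing_pair [u, x] (by simp; omega) hw
        exact qs_commutator hR (hs u w huu hww (hwL u (by simp)))
          (ht v' x hv'v' hxx (by rw [polar_comm]; exact hL x (by simp)))
          (hL u (by simp)) hux (by rw [polar_comm]; exact hwL x (by simp)) (by rw [polar_comm]; exact hwv') }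
  have hall : ∀ t, t ∈ R := SubfieldMax.eq_top_of_prime_degree hr hcard R hF₀
    (show μ ∈ R from fun u x huu hxx hux => h.all hR hM hdim hav ha huu hxx hux) hμ
  -- rational singular vectors are axes
  have hax : ∀ d : V₀, Q (d : V) = 0 → AxIn M (d : V) := by
    intro d hdd
    by_cases hd0 : d = 0
    · rw [hd0, Submodule.coe_zero]; exact AxIn.zero M
    obtain ⟨f, hff, hfd, -⟩ := hR.exists_sing_pair (v := d) [] (by simp; omega) (by simpa using hd0)
    let π : V → V := fun u => u - (ζ * polar Q (d : V) u) • (f : V)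
    let W : Submodule F V :=
      { carrier := {u | ∀ c : F, polar Q (d : V) (c • u) = 0 ∧ SiegelIn M (d : V) (c • u)}
        add_mem' := fun {a b} ha hb c => by
          rw [smul_add]
          exact ⟨by rw [polar_add_right, (ha c).1, (hb c).1, add_zero],
            SiegelIn.add hR.nondeg hdd (ha c).1 (hb c).1 (ha c).2 (hb c).2⟩
        zero_mem' := fun c => by
          rw [smul_zero]
          exact ⟨polar_zero_right Q _, fun g hg => by rw [hg.unique (isSiegel_one hdd)]; exact M.one_mem⟩
        smul_mem' := fun k a ha c => by rw [smul_smul]; exact ha _ }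
    have hsing : Submodule.span F₀ (IsQFrame.singPerp Q V₀ [d]) ≤ (W.restrictScalars F₀).comap V₀.subtype := by
      refine Submodule.span_le.2 fun y hy c => ⟨by simp [polar_smul_r', hy.2 d (by simp)], ?_⟩
      have := (hall (c / ζ) d y hdd hy.1 (hy.2 d (by simp))).2.2.2
      rwa [mul_div_cancel₀ _ hR.zeta_ne] at this
    have hπ : ∀ u, π u ∈ W := by
      intro u
      have hu : u ∈ Submodule.span F (V₀ : Set V) := hR.spans ▸ Submodule.mem_top
      induction hu using Submodule.span_induction with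
      | mem z hz =>
        have hmem : π z ∈ V₀ := sub_mem hz (smul_memQ (hR.pol_mem d.2 hz) f.2)
        refine hsing (hR.mem_span_sing [d] (by simp; omega) (x := ⟨π z, hmem⟩) ?_)
        simp only [List.mem_singleton, forall_eq, π, polar_sub_right, polar_smul_r', polar_comm _ (d : V) (f : V)]
        linear_combination -(polar Q (d : V) z) * hfd
      | zero => simp [π]
      | add a b _ _ ha hb =>
        have e : π (a + b) = π a + π b := by simp only [π, polar_add_right]; module
        rw [e]; exact W.add_mem ha hb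
      | smul k a _ ha =>
        have e : π (k • a) = k • π a := by simp only [π, polar_smul_r']; module
        rw [e]; exact W.smul_mem k ha
    intro u g hg
    have hu := hπ u 1
    simp only [one_smul, π, hg.2.1, mul_zero, zero_smul, sub_zero] at hu
    exact hu.2 g hg
  -- every singular vector is an axis
  rw [commutator_eq_siegelGroup hR.nondeg h4 hp hn]
  refine siegelGroup_le_of_ax fun v hv => ?_
  by_cases hv0 : v = 0
  · rw [hv0]; exact AxIn.zero M
  obtain ⟨r, hr, hrv⟩ : ∃ r : V₀, Q (r : V) = 0 ∧ polar Q (r : V) v ≠ 0 := by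
    by_contra hc
    push Not at hc
    refine hv0 (hR.sep fun z hz => ?_)
    have hz' := hR.mem_span_sing [] (by simp; omega) (x := ⟨z, hz⟩) (by simp)
    suffices ∀ y ∈ Submodule.span F₀ (IsQFrame.singPerp Q V₀ []), polar Q (y : V) v = 0 from
      (polar_comm _ _ _).trans (this _ hz')
    intro y hy
    induction hy using Submodule.span_induction with
    | mem y hy => exact hc y hy.1
    | zero => exact polar_zero_left Q v
    | add a b _ _ ha hb => rw [Submodule.coe_add, polar_add_left, ha, hb, add_zero]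
    | smul c a _ ha => rw [SetLike.val_smul, coe_smul_eq', polar_smul_l', ha, mul_zero]
  have hr0 : r ≠ 0 := fun e => hrv (by rw [e, Submodule.coe_zero, polar_zero_left])
  obtain ⟨x, hxx, hxr, -⟩ := hR.exists_sing_pair (v := r) [] (by simp; omega) (by simpa using hr0)
  refine ax_move hR.nondeg (hax r hr) hr hxx hv ?_ hrv (hax x hxx)
  rw [polar_comm]
  exact right_ne_zero_of_mul_eq_one hxr

/-- A nonrational vector in the radical at a rational singular vector gives `Ω`. -/
theorem omega_le_of_seed {r : ℕ} (hr : r.Prime) (hcard : Fintype.card F = Nat.card F₀ ^ r)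
    (h4 : Good F V) (hn : 5 ≤ finrank F V) {d : V₀} (hd : Q (d : V) = 0) (hd0 : d ≠ 0) {x : V}
    (hdx : polar Q (d : V) x = 0) (hx : SiegelIn M (d : V) x) {u : V₀} (hdu : polar Q (d : V) (u : V) = 0)
    (hu : polar Q (u : V) x ∉ F₀) : commutator (orthGroup Q) ≤ M := by
  obtain ⟨a, haa, hda, ha⟩ : ∃ a : V₀, Q (a : V) = 0 ∧ polar Q (d : V) (a : V) = 0 ∧ polar Q (a : V) x ∉ F₀ := by
    by_contra hc
    push Not at hc
    have hu' := hR.mem_span_sing [d] (by simp; omega) (x := u) (by simp [hdu])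
    suffices ∀ y ∈ Submodule.span F₀ (IsQFrame.singPerp Q V₀ [d]), polar Q (y : V) x ∈ F₀ from hu (this _ hu')
    intro y hy
    induction hy using Submodule.span_induction with
    | mem y hy => exact hc y hy.1 (hy.2 d (by simp))
    | zero => rw [Submodule.coe_zero, polar_zero_left]; exact zero_mem _
    | add a b _ _ ha hb => rw [Submodule.coe_add, polar_add_left]; exact add_mem ha hb
    | smul c a _ ha => rw [SetLike.val_smul, coe_smul_eq', polar_smul_l']; exact mul_mem c.2 ha
  obtain ⟨b, hb, hbb, hbL⟩ := hR.exists_sing_outside [d, a] (Submodule.span F₀ {y | y ∈ [d, a]})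
    (by simp; omega) (by have := IsQFrame.finrank_span_list_le hR [d, a]; simp at this ⊢; omega)
  obtain ⟨a', ha'a', ha'b, ha'L⟩ := hR.exists_sing_pair [d, a] (by simp; omega) hb
  set μ := polar Q (a : V) x with hμ
  -- the first move
  have mv : ∀ {p q : V₀} {y : V}, Q (p : V) = 0 → Q (q : V) = 0 → polar Q (p : V) (q : V) = 0 →
      polar Q (d : V) (p : V) = 0 → polar Q (d : V) (q : V) = 0 → polar Q (d : V) y = 0 → SiegelIn M (d : V) y →
      polar Q (d : V) ((ζ * polar Q (p : V) y) • (q : V) + (-(ζ * polar Q (q : V) y)) • (p : V)) = 0 ∧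
      SiegelIn M (d : V) ((ζ * polar Q (p : V) y) • (q : V) + (-(ζ * polar Q (q : V) y)) • (p : V)) := by
    intro p q y hpp hqq hpq hdp hdq hdy hy
    obtain ⟨s, hs⟩ := exists_isSiegel hR.nondeg (d := (p : V)) (u := ζ • (q : V)) hpp
      (by rw [polar_smul_r', hpq, mul_zero])
    have hsM := hM p q hpp hqq hpq s hs
    obtain ⟨g, hg⟩ := exists_isSiegel hR.nondeg hd hdy
    have hgM := hy g hg
    have hc := hg.conj s
    have e1 : s.1 (d : V) = d := by
      rw [hs.2.2, polar_comm _ (p : V) d, hdp, polar_smul_l', polar_comm _ (q : V) d, hdq, mul_zero, mul_zero,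
        neg_zero, sub_zero, zero_smul, zero_smul, add_zero, add_zero]
    set w := (ζ * polar Q (p : V) y) • (q : V) + (-(ζ * polar Q (q : V) y)) • (p : V) with hwdef
    have e2 : s.1 y = y + w := by
      rw [hs.2.2, quad_smul', hqq, mul_zero, zero_mul, sub_zero, polar_smul_l', hwdef, smul_smul, mul_comm _ ζ]
      abel
    rw [e1, e2] at hc
    have hdw : polar Q (d : V) w = 0 := by
      simp only [hwdef, polar_add_right, polar_smul_r', hdp, hdq]; ring
    have hin : SiegelIn M (d : V) (y + w) := fun k hk => by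
      rw [hk.unique hc]; exact M.mul_mem (M.mul_mem hsM hgM) (M.inv_mem hsM)
    refine ⟨hdw, ?_⟩
    have := SiegelIn.add hR.nondeg hd (by rw [polar_add_right, hdy, hdw, add_zero])
      (by rw [polar_neg_right, hdy, neg_zero]) hin (SiegelIn.neg hR.nondeg hd hdy hy)
    rwa [add_neg_cancel_comm] at this
  obtain ⟨hy1, hy2⟩ := mv haa hbb (hbL a (by simp)) hda (hbL d (by simp)) hdx hx
  obtain ⟨-, h3⟩ := mv ha'a' haa (by rw [polar_comm]; exact ha'L a (by simp)) (ha'L d (by simp)) hda hy1 hy2
  have haself : polar Q (a : V) (a : V) = 0 := by rw [polar_self', haa, mul_zero]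
  simp only [polar_add_right, polar_smul_r', hbL a (by simp), haself,
    polar_comm _ (a' : V) a, ha'L a (by simp), ← hμ, mul_zero, add_zero, neg_zero, zero_smul] at h3
  rw [show ζ * (ζ * μ * polar Q (a' : V) (b : V)) = ζ * μ by linear_combination (ζ * μ) * ha'b] at h3
  refine omega_le_of_hasQS hR hM hdim hr hcard h4 hn ha ⟨hd, haa, hda, h3⟩ hd0 fun h => ha ?_
  obtain ⟨c, rfl⟩ := mem_single.1 h
  simp [μ, coe_smul_eq', polar_smul_l', hdx]

end CfsgLib.Classical.SubfieldOrth
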