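import Cfsg.Agent.Lib.Classical.SubfieldOrth.QuadBig

/-!
# The subfield stabiliser is maximal in `Ω`
-/

set_option autoImplicit false
set_option linter.unusedSectionVars false
set_option backward.isDefEq.respectTransparency false

open Module QuadraticMap CfsgLib.Orth

namespace CfsgLib.Classical.SubfieldOrth

variable {F : Type*} [Field F] [Fintype F] {V : Type*} [AddCommGroup V] [Module F V] [FiniteDimensional F V]
  {F₀ : Subfield F} {Q : QuadraticForm F V} {V₀ : Submodule F₀ V} {ζ : F}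
  {M : Subgroup (orthGroup Q)}

variable (hR : IsQFrame Q V₀ ζ) (hdim : 7 ≤ finrank F₀ V₀)
include hR hdim

/-- An element of `Ω` outside the stabiliser. -/
theorem exists_not_rational (h4 : Good F V) (hn : 5 ≤ finrank F V) {μ : F} (hμ : μ ∉ F₀) :
    ∃ k ∈ commutator (orthGroup Q), ¬ ∃ s : F, s ≠ 0 ∧ ∀ x ∈ V₀, s • k.1 x ∈ V₀ := by
  obtain ⟨hp⟩ := exists_hypPairs hR.nondeg hn
  obtain ⟨d, hd0, hdQ, -⟩ := hR.exists_sing_outside [] ⊥ (by simp; omega) (by simp; omega)
  obtain ⟨v, hv, hvQ, hvL⟩ := hR.exists_sing_outside [d] (Submodule.span F₀ {y | y ∈ [d]}) (by simp; omega)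
    (by have := IsQFrame.finrank_span_list_le hR [d]; simp at this ⊢; omega)
  have hdv : polar Q (d : V) (v : V) = 0 := hvL d (by simp)
  obtain ⟨f, -, hfd, hfL⟩ := hR.exists_sing_pair (v := d) [v] (by simp; omega) (by
    rw [show {z | z ∈ [v]} = ({v} : Set V₀) by ext; simp, Submodule.mem_span_singleton]
    rintro ⟨c, hc⟩
    have hc0 : c ≠ 0 := fun e => hd0 (by rw [← hc, e, zero_smul]; exact zero_mem _)
    exact hv (by
      rw [← inv_smul_smul₀ hc0 v, hc]
      exact Submodule.smul_mem _ _ (Submodule.subset_span (by simp))))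
  obtain ⟨v', -, hv'v, hv'L⟩ := hR.exists_sing_pair [d] (by simp; omega) hv
  obtain ⟨k, hk⟩ := exists_isSiegel hR.nondeg (d := (d : V)) (u := (ζ * μ) • (v : V)) hdQ
    (by rw [polar_smul_r', hdv, mul_zero])
  refine ⟨k, hk.mem_commutator hR.nondeg h4 hp hn, fun ⟨s, hs, hsV⟩ => ?_⟩
  have hfd' : ζ * polar Q (d : V) (f : V) = 1 := by rw [polar_comm]; exact hfd
  have hdd : polar Q (d : V) (d : V) = 0 := by rw [polar_self', hdQ, mul_zero]
  have hs' : s ∈ F₀ := by
    have h1 := hR.pol_mem f.2 (hsV _ d.2)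
    rw [hk.2.2, hdd, polar_smul_l', polar_comm _ (v : V) d, hdv] at h1
    simp only [mul_zero, zero_smul, add_zero, neg_zero, sub_zero, polar_smul_r'] at h1
    rwa [mul_left_comm, hfd, mul_one] at h1
  have hvf : polar Q (v : V) (f : V) = 0 := hfL v (by simp)
  have h2 := hR.pol_mem v'.2 (hsV _ f.2)
  rw [hk.2.2, polar_smul_l', hvf, quad_smul', hvQ] at h2
  simp only [mul_zero, zero_mul, neg_zero, sub_zero, zero_smul, add_zero, polar_smul_r', polar_add_right] at h2
  have h3 := sub_mem h2 (mul_mem hs' (hR.pol_mem v'.2 f.2))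
  rw [show ζ * (s * (polar Q (v' : V) (f : V) + polar Q (d : V) (f : V) * (ζ * μ * polar Q (v' : V) (v : V)))) -
      s * (ζ * polar Q (v' : V) (f : V)) = s * μ * ((ζ * polar Q (d : V) (f : V)) * (ζ * polar Q (v' : V) (v : V))) by
    ring, hfd', hv'v, mul_one, mul_one] at h3
  have h4' := mul_mem (inv_mem hs') h3
  rw [inv_mul_cancel_left₀ hs] at h4'
  exact hμ h4'

variable (hM : RatSiegel V₀ ζ M)
include hM

/-- Above the subfield stabiliser there is all of `Ω`. -/
theorem quad_top {r : ℕ} (hr : r.Prime) (hcard : Fintype.card F = Nat.card F₀ ^ r) (h4 : Good F V)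
    (hn : 5 ≤ finrank F V) {g : orthGroup Q} (hg : g ∈ M) (hnot : ¬ ∃ s : F, s ≠ 0 ∧ ∀ x ∈ V₀, s • g.1 x ∈ V₀) :
    commutator (orthGroup Q) ≤ M := by
  classical
  by_cases hbad : ∃ e f : V₀, Q (e : V) = 0 ∧ Q (f : V) = 0 ∧ polar Q (e : V) (f : V) = 0 ∧
      IsQBad Q V₀ ζ (g.1 (e : V)) (ζ • g.1 (f : V))
  · obtain ⟨e, f, hee, hff, hef, hb⟩ := hbad
    have hy : Q (g.1 (e : V)) = 0 := (apply_quad g _).trans hee
    have hz : Q (ζ • g.1 (f : V)) = 0 := by rw [quad_smul', apply_quad, hff, mul_zero]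
    have hyz : polar Q (g.1 (e : V)) (ζ • g.1 (f : V)) = 0 := by rw [polar_smul_r', polar_isom, hef, mul_zero]
    have hT : SiegelIn M (g.1 (e : V)) (ζ • g.1 (f : V)) := by
      intro k hk
      obtain ⟨S, hS⟩ := exists_isSiegel hR.nondeg (d := (e : V)) (u := ζ • (f : V)) hee
        (by rw [polar_smul_r', hef, mul_zero])
      have hS' := hS.conj g
      rw [map_smul] at hS'
      rw [hk.unique hS']
      exact M.mul_mem (M.mul_mem hg (hM e f hee hff hef S hS)) (M.inv_mem hg)
    by_cases hK : 3 ≤ finrank F₀ (LinearMap.ker (pairMap Q V₀ (g.1 (e : V)) (ζ • g.1 (f : V))))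
    · exact omega_le_of_fixed hR hM hdim hr hcard h4 hn hy hz hyz hT hK hb
    · exact omega_le_of_small hR hM hdim hr hcard h4 hn hy hz hyz hT (by omega) hb
  exfalso
  simp only [IsQBad, not_exists, not_and, not_not] at hbad
  -- the pairings with the image of a rational vector
  let a : V → V₀ → F := fun x u => ζ * polar Q (g.1 x) (u : V)
  have hrat : ∀ e f : V₀, Q (e : V) = 0 → Q (f : V) = 0 → polar Q (e : V) (f : V) = 0 → ∀ u u' : V₀,
      a e u * a f u' - a f u * a e u' ∈ F₀ := by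
    intro e f hee hff hef u u'
    have h := hbad e f hee hff hef u u'
    simp only [om, polar_smul_l'] at h
    convert h using 1
    simp only [a]
    ring
  have hsepa : ∀ x : V, (∀ u : V₀, a x u = 0) → x = 0 := fun x h => by
    have : g.1 x = 0 := hR.sep fun u hu => (mul_eq_zero.1 (h ⟨u, hu⟩)).resolve_left hR.zeta_ne
    exact g.1.injective (this.trans (map_zero g.1).symm)
  have haadd : ∀ x u v, a x (u + v) = a x u + a x v := fun x u v => by
    simp only [a, Submodule.coe_add, polar_add_right]; ring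
  have hasmul : ∀ x (c : F₀) (u : V₀), a x (c • u) = (c : F) * a x u := fun x c u => by
    simp only [a, SetLike.val_smul, coe_smul_eq', polar_smul_r']; ring
  have halin : ∀ (c₀ c₁ c₂ : F) (p q t : V) (u : V₀),
      a (c₀ • p + c₁ • q + c₂ • t) u = c₀ * a p u + c₁ * a q u + c₂ * a t u := fun c₀ c₁ c₂ p q t u => by
    simp only [a, map_add, map_smul, polar_add_left, polar_smul_l']; ring
  -- images of singular vectors are multiples of rational vectors
  have himg : ∀ e : V₀, Q (e : V) = 0 → ∃ (c : F) (v : V₀), g.1 (e : V) = c • (v : V) := by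
    intro e hee
    by_cases he0 : e = 0
    · exact ⟨0, 0, by simp [he0]⟩
    obtain ⟨f₁, hf₁, hf₁Q, hf₁L⟩ := hR.exists_sing_outside [e] (Submodule.span F₀ {y | y ∈ [e]}) (by simp; omega)
      (by have := IsQFrame.finrank_span_list_le hR [e]; simp at this ⊢; omega)
    obtain ⟨f₂, hf₂, hf₂Q, hf₂L⟩ := hR.exists_sing_outside [e, f₁] (Submodule.span F₀ {y | y ∈ [e, f₁]})
      (by simp; omega) (by have := IsQFrame.finrank_span_list_le hR [e, f₁]; simp at this ⊢; omega)
    -- it is enough that the ratios are rational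
    suffices hratio : ∃ u₁ : V₀, a e u₁ ≠ 0 ∧ ∀ u, a e u / a e u₁ ∈ F₀ by
      obtain ⟨u₁, hu₁, hq⟩ := hratio
      let f : V₀ →ₗ[F₀] F₀ :=
        { toFun := fun u => ⟨_, hq u⟩
          map_add' := fun p q => Subtype.ext (by rw [Subfield.coe_add, ← add_div, ← haadd])
          map_smul' := fun c p => Subtype.ext (by
            rw [RingHom.id_apply, smul_eq_mul, Subfield.coe_mul, mul_div_assoc', ← hasmul]) }
      set v := (LinearMap.BilinForm.toDual (QuadraticMap.polarBilin hR.quad₀) hR.nondeg₀).symm f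
      refine ⟨a e u₁, v, sub_eq_zero.1 (hR.sep fun u hu => ?_)⟩
      have h1 : ζ * polar Q (v : V) u = a e ⟨u, hu⟩ / a e u₁ := by
        have h : QuadraticMap.polarBilin hR.quad₀ v ⟨u, hu⟩ = f ⟨u, hu⟩ := by
          rw [← LinearMap.BilinForm.toDual_def hR.nondeg₀, LinearEquiv.apply_symm_apply]
        exact (hR.polar₀_coe v ⟨u, hu⟩).symm.trans (congrArg Subtype.val h)
      refine (mul_eq_zero.1 (?_ : ζ * _ = 0)).resolve_left hR.zeta_ne
      rw [sub_eq_add_neg, polar_add_left, polar_neg_left, polar_smul_l', mul_add, mul_neg,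
        mul_left_comm ζ (a e u₁), h1, mul_div_cancel₀ _ hu₁]
      exact add_neg_cancel _
    obtain ⟨u₁, hu₁⟩ : ∃ u₁, a e u₁ ≠ 0 := by
      by_contra hc
      push Not at hc
      exact he0 (Subtype.ext (hsepa _ hc))
    refine ⟨u₁, hu₁, fun u₂ => ?_⟩
    by_contra hκ
    have h01 : polar Q (e : V) (f₁ : V) = 0 := hf₁L e (by simp)
    have h02 : polar Q (e : V) (f₂ : V) = 0 := hf₂L e (by simp)
    have r1 := hrat e f₁ hee hf₁Q h01
    have r2 := hrat e f₂ hee hf₂Q h02
    -- independence of the three vectors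
    have hindep : ∀ c₀ c₁ c₂ : F, c₀ • (e : V) + c₁ • (f₁ : V) + c₂ • (f₂ : V) = 0 → c₁ = 0 ∧ c₂ = 0 ∧ c₀ = 0 := by
      intro c₀ c₁ c₂ h
      obtain ⟨p₂, -, hp₂, hp₂L⟩ := hR.exists_sing_pair [e, f₁] (by simp; omega) hf₂
      obtain ⟨p₁, -, hp₁, hp₁L⟩ := hR.exists_sing_pair [e] (by simp; omega) hf₁
      obtain ⟨p₀, -, hp₀, -⟩ := hR.exists_sing_pair (v := e) [] (by simp; omega) (by simpa using he0)
      have e2 : c₂ = 0 := by
        have h' := congrArg (fun x => ζ * polar Q (p₂ : V) x) h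
        simp only [polar_add_right, polar_smul_r', polar_comm _ (p₂ : V) e, hp₂L e (by simp),
          polar_comm _ (p₂ : V) f₁, hp₂L f₁ (by simp), polar_zero_right, mul_zero, zero_add, add_zero] at h'
        linear_combination h' - c₂ * hp₂
      rw [e2, zero_smul, add_zero] at h
      have e1 : c₁ = 0 := by
        have h' := congrArg (fun x => ζ * polar Q (p₁ : V) x) h
        simp only [polar_add_right, polar_smul_r', polar_comm _ (p₁ : V) e, hp₁L e (by simp),
          polar_zero_right, mul_zero, zero_add, add_zero] at h'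
        linear_combination h' - c₁ * hp₁
      rw [e1, zero_smul, add_zero] at h
      have e0 : c₀ = 0 := by
        have h' := congrArg (fun x => ζ * polar Q (p₀ : V) x) h
        simp only [polar_smul_r', polar_zero_right, mul_zero] at h'
        linear_combination h' - c₀ * hp₀
      exact ⟨e1, e2, e0⟩
    -- the form of the first two
    set c := a e u₁ * a f₁ u₂ - a f₁ u₁ * a e u₂ with hcdef
    have hc : c ∈ F₀ := r1 u₁ u₂
    have hκ0 : a e u₂ ≠ 0 := fun h => hκ (by rw [h, zero_div]; exact zero_mem _)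
    obtain ⟨d₁, d₂, d₀, hne, hd₁, hd₂⟩ : ∃ d₁ d₂ d₀ : F, (d₁ ≠ 0 ∨ d₂ ≠ 0 ∨ d₀ ≠ 0) ∧
        d₀ * a e u₁ + d₁ * a f₁ u₁ + d₂ * a f₂ u₁ = 0 ∧ d₀ * a e u₂ + d₁ * a f₁ u₂ + d₂ * a f₂ u₂ = 0 := by
      by_cases hc0 : c = 0
      · exact ⟨a e u₁, 0, -(a f₁ u₁), Or.inl hu₁, by ring, by linear_combination hc0⟩
      · exact ⟨-(a e u₁ * a f₂ u₂ - a f₂ u₁ * a e u₂), c, a f₁ u₁ * a f₂ u₂ - a f₂ u₁ * a f₁ u₂,
          Or.inr (Or.inl hc0), by rw [hcdef]; ring, by rw [hcdef]; ring⟩
    -- the common kernel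
    have hker : ∀ u : V₀, a e u = 0 → a f₁ u = 0 ∧ a f₂ u = 0 := by
      intro u hu
      have key : ∀ f : V₀, (∀ p q : V₀, a e p * a f q - a f p * a e q ∈ F₀) → a f u = 0 := by
        intro f hf
        by_contra hne'
        refine hκ ?_
        have h1 := hf u u₁
        have h2 := hf u u₂
        rw [hu, zero_mul, zero_sub] at h1 h2
        have h3 := div_mem h2 h1
        rwa [neg_div_neg_eq, mul_div_mul_left _ _ hne'] at h3
      exact ⟨key f₁ r1, key f₂ r2⟩
    -- the functional vanishes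
    have hzero : ∀ u : V₀, d₀ * a e u + d₁ * a f₁ u + d₂ * a f₂ u = 0 := by
      by_cases hc0 : c = 0
      · intro u
        -- the first two are proportional
        have hprop : ∀ u, a e u₁ * a f₁ u - a f₁ u₁ * a e u = 0 := by
          intro u
          by_contra hne'
          have h1 := r1 u₁ u
          have h2 := r1 u₂ u
          refine hκ ?_
          have h3 := div_mem h2 h1
          have e : a e u₂ * a f₁ u - a f₁ u₂ * a e u =
              a e u₂ / a e u₁ * (a e u₁ * a f₁ u - a f₁ u₁ * a e u) := by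
            field_simp
            linear_combination (-(a e u)) * hc0
          rwa [e, mul_div_assoc, div_self hne', mul_one] at h3
        obtain ⟨h1, h2, h0⟩ := hindep (-(a f₁ u₁)) (a e u₁) 0 (hsepa _ fun u => by
          rw [halin]; linear_combination hprop u)
        exact absurd h1 hu₁
      intro u
      -- reduce to the kernel
      set A : F₀ := ⟨(a e u * a f₁ u₂ - a f₁ u * a e u₂) / c, div_mem (r1 u u₂) hc⟩
      set B : F₀ := ⟨(a e u₁ * a f₁ u - a f₁ u₁ * a e u) / c, div_mem (r1 u₁ u) hc⟩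
      set u' := u + (-A) • u₁ + (-B) • u₂ with hu'
      have he' : a e u' = 0 := by
        rw [hu', haadd, haadd, hasmul, hasmul]
        simp only [A, B, Subfield.coe_neg]
        field_simp
        rw [hcdef]
        ring
      obtain ⟨h1, h2⟩ := hker u' he'
      rw [hu', haadd, haadd, hasmul, hasmul] at he' h1 h2
      linear_combination d₀ * he' + d₁ * h1 + d₂ * h2 + (-((-A : F₀) : F)) * hd₁ + (-((-B : F₀) : F)) * hd₂
    obtain ⟨h1, h2, h0⟩ := hindep d₀ d₁ d₂ (hsepa _ fun u => by rw [halin]; exact hzero u)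
    rcases hne with h | h | h
    · exact h h1
    · exact h h2
    · exact h h0
  -- orthogonal vectors have the same scalar
  have hstep : ∀ {s : F}, s ≠ 0 → ∀ m e : V₀, Q (m : V) = 0 → Q (e : V) = 0 →
      polar Q (m : V) (e : V) = 0 → m ≠ 0 → s • g.1 (m : V) ∈ V₀ → s • g.1 (e : V) ∈ V₀ := by
    intro s hs m e hmm hee hme hm0 hsm
    obtain ⟨c', v', hv'⟩ := himg e hee
    obtain ⟨c'', v'', hv''⟩ := himg (m + e) (by rw [Submodule.coe_add, quad_add', hmm, hee, hme]; ring)
    set v : V₀ := ⟨_, hsm⟩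
    have hv : (v : V) = s • g.1 (m : V) := rfl
    have hv0 : v ≠ 0 := fun h => hm0 (Subtype.ext (g.1.injective (by
      have : s • g.1 (m : V) = 0 := by rw [← hv, h]; rfl
      rw [(smul_eq_zero.1 this).resolve_left hs]; simp)))
    have hsum : (v : V) + (s * c') • (v' : V) = (s * c'') • (v'' : V) := by
      rw [hv, mul_smul, mul_smul, ← smul_add, ← hv', ← hv'', Submodule.coe_add, map_add]
    rw [hv', smul_smul]
    by_cases hc' : s * c' = 0
    · rw [hc', zero_smul]; exact zero_mem _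
    by_cases hv'v : v' ∈ Submodule.span F₀ {z | z ∈ [v]}
    · obtain ⟨k, rfl⟩ := mem_single.1 hv'v
      have hem : (e : V) = (c' * (k : F) * s) • (m : V) := by
        apply g.1.injective
        rw [map_smul, hv', SetLike.val_smul, coe_smul_eq', hv, smul_smul, smul_smul]
      obtain ⟨p, -, hp, -⟩ := hR.exists_sing_pair (v := m) [] (by simp; omega) (by simpa using hm0)
      have hl := hR.pol_mem p.2 e.2
      rw [hem, polar_smul_r', mul_left_comm, hp, mul_one] at hl
      rw [SetLike.val_smul, coe_smul_eq', smul_smul, show s * c' * (k : F) = c' * (k : F) * s by ring]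
      exact smul_memQ hl v.2
    have hvv' : v ∉ Submodule.span F₀ {z | z ∈ [v']} := fun h => by
      obtain ⟨k, hk⟩ := mem_single.1 h
      have hk0 : k ≠ 0 := fun e => hv0 (by rw [← hk, e, zero_smul])
      exact hv'v (mem_single.2 ⟨k⁻¹, by rw [← hk, inv_smul_smul₀ hk0]⟩)
    obtain ⟨p, -, hp, hpL⟩ := hR.exists_sing_pair [v'] (by simp; omega) hvv'
    obtain ⟨p', -, hp', hp'L⟩ := hR.exists_sing_pair [v] (by simp; omega) hv'v
    have h1 := congrArg (fun x => ζ * polar Q (p : V) x) hsum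
    have h2 := congrArg (fun x => ζ * polar Q (p' : V) x) hsum
    simp only [polar_add_right, polar_smul_r', polar_comm _ (p : V) v', hpL v' (by simp), polar_comm _ (p' : V) v,
      hp'L v (by simp), mul_zero, add_zero, zero_add] at h1 h2
    rw [hp, mul_left_comm] at h1
    rw [mul_left_comm, hp', mul_one, mul_left_comm] at h2
    have hb : s * c'' = (ζ * polar Q (p : V) (v'' : V))⁻¹ := eq_inv_of_mul_eq_one_left h1.symm
    rw [hb] at h2
    rw [h2]
    exact smul_memQ (mul_mem (inv_mem (hR.pol_mem p.2 v''.2)) (hR.pol_mem p'.2 v''.2)) v'.2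
  obtain ⟨e₀, he₀, he₀e₀, -⟩ := hR.exists_sing_outside [] ⊥ (by simp; omega) (by simp; omega)
  obtain ⟨c, v₀, hv₀⟩ := himg e₀ he₀e₀
  have he₀' : e₀ ≠ 0 := fun h => he₀ (by simp [h])
  have hc : c ≠ 0 := fun h => he₀' (Subtype.ext (g.1.injective (by rw [hv₀, h]; simp)))
  refine hnot ⟨c⁻¹, inv_ne_zero hc, fun f hf => ?_⟩
  have hspan := hR.mem_span_sing [] (by simp; omega) (x := ⟨f, hf⟩) (by simp)
  let P : Submodule F₀ V₀ :=
    { carrier := {x | c⁻¹ • g.1 (x : V) ∈ V₀}
      add_mem' := fun {a b} ha hb => by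
        show c⁻¹ • g.1 ((a + b : V₀) : V) ∈ V₀
        rw [Submodule.coe_add, map_add, smul_add]; exact add_mem ha hb
      zero_mem' := by simp
      smul_mem' := fun k a ha => by
        show c⁻¹ • g.1 ((k • a : V₀) : V) ∈ V₀
        rw [SetLike.val_smul, coe_smul_eq', map_smul, smul_comm]; exact smul_memQ k.2 ha }
  refine (Submodule.span_le (p := P)).2 (fun e he => ?_) hspan
  obtain ⟨m, hm, hmm, hmL⟩ := hR.exists_sing_outside [e₀, e] ⊥ (by simp; omega) (by simp; omega)
  have hm0 : m ≠ 0 := fun h => hm (by simp [h])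
  have h1 : c⁻¹ • g.1 (m : V) ∈ V₀ := hstep (inv_ne_zero hc) e₀ m he₀e₀ hmm (hmL e₀ (by simp)) he₀'
    (by rw [hv₀, inv_smul_smul₀ hc]; exact v₀.2)
  exact hstep (inv_ne_zero hc) m e hmm he.1 (by rw [polar_comm]; exact hmL e (by simp)) hm0 h1

end CfsgLib.Classical.SubfieldOrth
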