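import Cfsg.Agent.Lib.Classical.SubfieldOrth.Spread

/-!
# From an element outside the normaliser to a nonrational Siegel element
-/

set_option autoImplicit false
set_option linter.unusedSectionVars false
set_option backward.isDefEq.respectTransparency false

open Module

namespace CfsgLib.Classical.SubfieldOrth

open CfsgLib.Classical.SubfieldMax (coe_smul_eq smul_mem')

variable {F : Type*} [Field F] [Fintype F] {V : Type*} [AddCommGroup V] [Module F V] [FiniteDimensional F V]
  {σ : F →+* F} {F₀ : Subfield F} {B : V →ₛₗ[σ] V →ₗ[F] F} {V₀ : Submodule F₀ V} {ε : F}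
  {M : Subgroup (isomGroup B)}

/-- The short root element of an orthogonal pair of isotropic vectors. -/
theorem IsOFrame.exists_sg (hR : IsOFrame B V₀ ε) {d b : V} (hd : B d d = 0) (hb : B b b = 0)
    (hdb : B d b = 0) : ∃ g : isomGroup B, idet B g = 1 ∧ IsSg B g d b 0 := by
  have hne : σ ε ≠ ε := fun h => hR.eps_ne (by
    have : (2 : F) * ε = 0 := by
      rw [hR.eps_tr] at h
      linear_combination -h
    exact (mul_eq_zero.1 this).resolve_left hR.two)
  have hT : SubfieldMax.IsHFrame B (⊤ : Submodule (⊤ : Subfield F) V) ε := by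
    refine ⟨hR.herm, hR.nondeg, fun _ _ => trivial, ⟨ε, trivial, hne⟩, trivial, hR.eps_ne, hR.eps_tr,
      fun _ _ _ _ => trivial, ?_⟩
    rw [Submodule.top_coe]
    exact Submodule.span_univ
  have hbd := hR.symm_zero hdb
  set s := -ε⁻¹
  have h1 : B (d + σ s • b) (d + σ s • b) = 0 := by simp [hd, hb, hdb, hbd]
  have h2 : σ (-(s * σ s)) = -(s * σ s) := by rw [map_neg, hR.herm.conj.norm_fixed]
  refine ⟨hT.hS d b s, ?_, fun z => ?_⟩
  · rw [SubfieldMax.IsHFrame.hS, map_mul, map_mul, hR.herm.idet_uTv (hT.hTv_isUTv h1 (map_one σ)),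
      hR.herm.idet_uTv (hT.hTv_isUTv hd (by rw [map_neg, map_one])), hR.herm.idet_uTv (hT.hTv_isUTv hb h2),
      one_mul, one_mul]
  · rw [hT.hS_apply hd hb hdb, show s = -ε⁻¹ from rfl, map_neg, map_inv₀, hR.eps_tr, inv_neg, neg_neg,
      mul_neg, mul_inv_cancel₀ hR.eps_ne]
    simp only [zero_mul, zero_smul, add_zero]
    module

variable (hR : IsOFrame B V₀ ε) (hM : RatSg B V₀ M) (hdim : 10 ≤ finrank F₀ V₀)
include hR hM hdim

/-- The top argument. -/
theorem orth_top (hF : finrank F₀ F = 2) (hn : 4 ≤ finrank F V) {g : isomGroup B} (hg : g ∈ M)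
    (hnot : ¬ ∃ s : F, s ≠ 0 ∧ ∀ f ∈ V₀, s • g.1 f ∈ V₀) : sIsom B ≤ M := by
  classical
  suffices hbad : ∃ e : V₀, B (e : V) (e : V) = 0 ∧ ∀ y₀ y₁ : V₀, (y₀ : V) + ε • (y₁ : V) = g.1 (e : V) →
      ∀ a b : F₀, a • y₀ + b • y₁ = 0 → a = 0 ∧ b = 0 by
    obtain ⟨e, hee, hbad⟩ := hbad
    obtain ⟨y₀, y₁, hy⟩ := hR.vec_decomp (g.1 (e : V))
    have hind := hbad y₀ y₁ hy
    obtain ⟨d, hd, hdd, hdL⟩ := hR.exists_iso_outside [y₀, y₁] (Submodule.span F₀ {z | z ∈ [y₀, y₁]})
      (by simp; omega) (by have := IsOFrame.finrank_span_list_le hR [y₀, y₁]; simp at this ⊢; omega)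
    obtain ⟨d₀, d₁, hd'⟩ := hR.vec_decomp ((g⁻¹ : isomGroup B).1 (d : V))
    -- the second vector
    let W : Submodule F V := Submodule.span F {(d : V), (y₀ : V), (y₁ : V)}
    let T : V₀ →ₗ[F₀] V :=
      { toFun := fun x => g.1 (x : V)
        map_add' := fun a b => by simp
        map_smul' := fun c a => by simp [coe_smul_eq] }
    obtain ⟨f, hfS, hff, hfL⟩ := hR.exists_iso_outside [e, d₀, d₁] ((W.restrictScalars F₀).comap T)
      (by simp; omega) (by
        have hinj : Function.Injective T := fun a b h => Subtype.ext (g.1.injective h)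
        have h1 : finrank F₀ ((W.restrictScalars F₀).comap T) ≤ finrank F₀ (W.restrictScalars F₀) :=
          LinearMap.finrank_le_finrank_of_injective
            (f := T.restrict (p := (W.restrictScalars F₀).comap T) (q := W.restrictScalars F₀) fun x hx => hx)
            fun a b h => Subtype.ext (hinj (congrArg Subtype.val h))
        have h2 : finrank F₀ (W.restrictScalars F₀) = 2 * finrank F W := by
          rw [← hF]
          exact (Module.finrank_mul_finrank F₀ F W).symm
        have h3 : finrank F W ≤ 3 := by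
          have := finrank_span_finset_le_card (R := F) ({(d : V), (y₀ : V), (y₁ : V)} : Finset V)
          simp only [Finset.coe_insert, Finset.coe_singleton] at this
          exact this.trans Finset.card_le_three
        simp; omega)
    set w := g.1 (e : V) with hw
    set z := g.1 (f : V) with hz
    have hwz : B w z = 0 := by rw [hw, hz, isomGroup_apply]; exact hfL e (by simp)
    have hzz : B z z = 0 := by rw [hz, isomGroup_apply, hff]
    have hdz : B (d : V) z = 0 := by
      have h2 : g.1 ((g⁻¹ : isomGroup B).1 (d : V)) = (d : V) := g.1.apply_symm_apply _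
      rw [hz, ← h2, isomGroup_apply, ← hd']
      simp [hfL d₀ (by simp), hfL d₁ (by simp)]
    have hdw : B (d : V) w = 0 := by
      rw [← hy, map_add, map_smul, hR.symm_zero (hdL y₀ (by simp)), hR.symm_zero (hdL y₁ (by simp))]
      simp
    obtain ⟨u, huu, hdu, hwu, hzu⟩ : ∃ u : V₀, B (u : V) (u : V) = 0 ∧ B (d : V) (u : V) = 0 ∧
        B w (u : V) = 0 ∧ B z (u : V) ≠ 0 := by
      obtain ⟨z₀, z₁, hz'⟩ := hR.vec_decomp z
      have hout : z₀ ∉ Submodule.span F₀ {x | x ∈ [d, y₀, y₁]} ∨ z₁ ∉ Submodule.span F₀ {x | x ∈ [d, y₀, y₁]} := by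
        by_contra hc
        push Not at hc
        have hmem : ∀ x : V₀, x ∈ Submodule.span F₀ {x | x ∈ [d, y₀, y₁]} → (x : V) ∈ W := by
          intro x hx
          induction hx using Submodule.span_induction with
          | mem x hx =>
            simp at hx
            rcases hx with rfl | rfl | rfl <;> exact Submodule.subset_span (by simp)
          | zero => simp
          | add a b _ _ ha hb => exact W.add_mem ha hb
          | smul c a _ ha => rw [SetLike.val_smul, coe_smul_eq]; exact W.smul_mem _ ha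
        refine hfS ?_
        show z ∈ W
        rw [← hz']
        exact W.add_mem (hmem _ hc.1) (W.smul_mem _ (hmem _ hc.2))
      obtain ⟨u, huu, hu, huL⟩ : ∃ u : V₀, B (u : V) (u : V) = 0 ∧ B (u : V) z ≠ 0 ∧
          ∀ b ∈ [d, y₀, y₁], B (b : V) (u : V) = 0 := by
        have hz2 : ∀ u : V₀, B (u : V) z = 0 → B (u : V) (z₀ : V) = 0 ∧ B (u : V) (z₁ : V) = 0 := fun u h =>
          hR.perp_parts (by rwa [hz'])
        rcases hout with h | h
        · obtain ⟨a, haa, hav, hL⟩ := hR.exists_iso_pair [d, y₀, y₁] (by simp; omega) h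
          exact ⟨a, haa, fun h0 => one_ne_zero (hav.symm.trans (hz2 a h0).1), hL⟩
        · obtain ⟨a, haa, hav, hL⟩ := hR.exists_iso_pair [d, y₀, y₁] (by simp; omega) h
          exact ⟨a, haa, fun h0 => one_ne_zero (hav.symm.trans (hz2 a h0).2), hL⟩
      refine ⟨u, huu, huL d (by simp), ?_, fun h => hu (hR.symm_zero h)⟩
      rw [← hy, map_add, map_smulₛₗ, LinearMap.add_apply, LinearMap.smul_apply, huL y₀ (by simp),
        huL y₁ (by simp)]
      simp
    -- the commutator
    obtain ⟨S, hS, hSs⟩ := hM e f hee hff (hfL e (by simp))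
    have hTs := hSs.conj g
    rw [← hw, ← hz] at hTs
    set t := g * S * g⁻¹
    have ht : t ∈ M := mul_mem (mul_mem hg hS) (inv_mem hg)
    obtain ⟨R, hRM, hRs⟩ := hM d u hdd huu hdu
    have hconj := hRs.conj t
    have e1 : t.1 (d : V) = d := by
      rw [hTs, hR.symm_zero hdw, hR.symm_zero hdz]; simp
    have e2 : t.1 (u : V) = (u : V) + (-(B z (u : V))) • w := by
      rw [hTs, hwu]; module
    rw [e1, e2] at hconj
    have hrad : (-(B z (u : V))) • w ∈ Rad M (d : V) := by
      have h1 : (u : V) + (-(B z (u : V))) • w ∈ Rad M (d : V) :=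
        ⟨by simp [hdu, hdw], _, mul_mem (mul_mem ht hRM) (inv_mem ht), _, hconj⟩
      have h2 := rad_add hR.herm hdd h1 (rad_neg hR.herm hdd ⟨hdu, R, hRM, _, hRs⟩)
      rwa [add_neg_cancel_comm] at h2
    obtain ⟨k₀, k₁, hk⟩ := hR.scalar_decomp (-(B z (u : V)))
    let x₀ : V₀ := k₀ • y₀ + (⟨ε * ε, hR.eps_sq⟩ * k₁ : F₀) • y₁
    let x₁ : V₀ := k₁ • y₀ + k₀ • y₁
    have hx : (x₀ : V) + ε • (x₁ : V) = (-(B z (u : V))) • w := by
      rw [← hk, ← hy]
      simp only [x₀, x₁, Submodule.coe_add, SetLike.val_smul, coe_smul_eq, Subfield.coe_mul]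
      module
    have hd0 : d ≠ 0 := fun h => hd (by rw [h]; exact zero_mem _)
    refine sIsom_le_of_full hR hM (by omega) hdim hn hdd hd0 (full_of_seed hR hM (by omega) hdim hdd (hx.symm ▸ hrad) ?_)
    rw [show {z | z ∈ [d]} = ({d} : Set V₀) by ext; simp, Submodule.mem_span_singleton]
    rintro ⟨c, hc⟩
    rcases eq_or_ne c 0 with rfl | hc0
    · rw [zero_smul] at hc
      obtain ⟨h1, h0⟩ := hind k₁ k₀ hc.symm
      refine hzu ?_
      rw [← neg_eq_zero, ← hk, h1, h0]
      simp
    · refine hd ?_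
      rw [show d = c⁻¹ • x₁ by rw [← hc, inv_smul_smul₀ hc0]]
      exact Submodule.smul_mem _ _ (add_mem (Submodule.smul_mem _ _ (Submodule.subset_span (by simp)))
        (Submodule.smul_mem _ _ (Submodule.subset_span (by simp))))
  by_contra hgood
  push Not at hgood
  -- every image is a multiple of a rational vector
  have himg : ∀ e : V₀, B (e : V) (e : V) = 0 → ∃ (c : F) (v : V₀), g.1 (e : V) = c • (v : V) := by
    intro e hee
    obtain ⟨y₀, y₁, hy, a, b, hab, hne⟩ := hgood e hee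
    rw [← hy]
    by_cases ha : a = 0
    · refine ⟨1, y₀, ?_⟩
      rw [ha, zero_smul, zero_add] at hab
      rw [(smul_eq_zero.1 hab).resolve_left (hne ha)]; simp
    · refine ⟨-((b : F) / (a : F)) + ε, y₁, ?_⟩
      have e0 : y₀ = -(b / a) • y₁ := by
        have e' : a • y₀ = -(b • y₁) := eq_neg_of_add_eq_zero_left hab
        rw [← inv_smul_smul₀ ha y₀, e', smul_neg, smul_smul, neg_smul, inv_mul_eq_div]
      rw [e0]
      simp only [Submodule.coe_neg, SetLike.val_smul, coe_smul_eq, Subfield.coe_div, neg_smul]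
      module
  -- orthogonal vectors have the same scalar
  have hstep : ∀ {s : F}, s ≠ 0 → ∀ m e : V₀, B (m : V) (m : V) = 0 → B (e : V) (e : V) = 0 →
      B (m : V) (e : V) = 0 → m ≠ 0 → s • g.1 (m : V) ∈ V₀ → s • g.1 (e : V) ∈ V₀ := by
    intro s hs m e hmm hee hme hm0 hsm
    obtain ⟨c', v', hv'⟩ := himg e hee
    obtain ⟨c'', v'', hv''⟩ := himg (m + e) (by simp [hmm, hee, hme, hR.symm_zero hme])
    set v : V₀ := ⟨_, hsm⟩
    have hv : (v : V) = s • g.1 (m : V) := rfl
    have hv0 : v ≠ 0 := fun h => hm0 (Subtype.ext (g.1.injective (by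
      have : s • g.1 (m : V) = 0 := by rw [← hv, h]; rfl
      rw [(smul_eq_zero.1 this).resolve_left hs]; simp)))
    have hsum : (v : V) + (s * c') • (v' : V) = (s * c'') • (v'' : V) := by
      rw [hv, mul_smul, mul_smul, ← smul_add, ← hv', ← hv'', Submodule.coe_add, map_add]
    rw [hv', smul_smul]
    obtain ⟨a₀, a₁, ha⟩ := hR.scalar_decomp (s * c')
    obtain ⟨b₀, b₁, hb⟩ := hR.scalar_decomp (s * c'')
    rw [← ha, ← hb] at hsum
    have hz := hR.vec_zero (a := v + a₀ • v' - b₀ • v'') (b := a₁ • v' - b₁ • v'') (by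
      simp only [Submodule.coe_add, Submodule.coe_sub, SetLike.val_smul, coe_smul_eq]
      linear_combination (norm := module) hsum)
    by_cases ha1 : a₁ = 0
    · rw [← ha, ha1]
      simp only [ZeroMemClass.coe_zero, mul_zero, add_zero]
      exact smul_mem' a₀.2 v'.2
    -- otherwise the second vector is proportional to the first
    have e1 : a₁ • v' = b₁ • v'' := sub_eq_zero.1 hz.2
    have e0 : v + a₀ • v' = b₀ • v'' := sub_eq_zero.1 hz.1
    have e' : v' = (b₁ / a₁) • v'' := by
      rw [← inv_smul_smul₀ ha1 v', e1, smul_smul, inv_mul_eq_div]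
    have ev : v = (b₀ - a₀ * (b₁ / a₁)) • v'' := by
      rw [sub_smul, mul_smul, ← e', ← e0, add_sub_cancel_right]
    set k := b₀ - a₀ * (b₁ / a₁) with hk
    have hk0 : k ≠ 0 := fun h => hv0 (by rw [ev, h, zero_smul])
    have ev' : (v' : V) = ((b₁ / a₁ : F₀) : F) • ((k⁻¹ : F₀) : F) • (v : V) := by
      have : v' = (b₁ / a₁) • k⁻¹ • v := by rw [ev, inv_smul_smul₀ hk0, e']
      rw [← coe_smul_eq, ← coe_smul_eq]
      exact congrArg Subtype.val this
    -- so `e` is a multiple of `m`
    set l : F := c' * ((b₁ / a₁ : F₀) : F) * ((k⁻¹ : F₀) : F) * s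
    have hem : (e : V) = l • (m : V) := by
      apply g.1.injective
      rw [map_smul, hv', ev', hv, smul_smul, smul_smul, smul_smul]
    have hl : l ∈ F₀ := by
      obtain ⟨f, -, hmf, hfm, -⟩ := hR.exists_iso_partner hmm [] (by simp; omega) (by simpa using hm0)
      have := hR.form _ f.2 _ e.2
      rwa [hem, map_smul, hfm, smul_eq_mul, mul_one] at this
    rw [← smul_smul, ← hv', hem, map_smul, smul_comm]
    exact smul_mem' hl hsm
  obtain ⟨e₀, he₀, he₀e₀, -⟩ := hR.exists_iso_outside [] ⊥ (by simp; omega) (by simp; omega)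
  obtain ⟨c, v₀, hv₀⟩ := himg e₀ he₀e₀
  have he₀' : e₀ ≠ 0 := fun h => he₀ (by simp [h])
  have hc : c ≠ 0 := fun h => he₀' (Subtype.ext (g.1.injective (by rw [hv₀, h]; simp)))
  refine hnot ⟨c⁻¹, inv_ne_zero hc, fun f hf => ?_⟩
  have hspan : ⟨f, hf⟩ ∈ Submodule.span F₀ (IsOFrame.isoPerp B V₀ []) :=
    hR.mem_span_iso [] (by simp; omega) (by simp)
  let P : Submodule F₀ V₀ :=
    { carrier := {x | c⁻¹ • g.1 (x : V) ∈ V₀}
      add_mem' := fun {a b} ha hb => by
        show c⁻¹ • g.1 ((a + b : V₀) : V) ∈ V₀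
        rw [Submodule.coe_add, map_add, smul_add]; exact add_mem ha hb
      zero_mem' := by simp
      smul_mem' := fun k a ha => by
        show c⁻¹ • g.1 ((k • a : V₀) : V) ∈ V₀
        rw [SetLike.val_smul, coe_smul_eq, map_smul, smul_comm]; exact smul_mem' k.2 ha }
  refine (Submodule.span_le (p := P)).2 (fun e he => ?_) hspan
  obtain ⟨m, hm, hmm, hmL⟩ := hR.exists_iso_outside [e₀, e] ⊥ (by simp; omega) (by simp; omega)
  have hm0 : m ≠ 0 := fun h => hm (by simp [h])
  have h1 : c⁻¹ • g.1 (m : V) ∈ V₀ := hstep (inv_ne_zero hc) e₀ m he₀e₀ hmm (hmL e₀ (by simp)) he₀'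
    (by rw [hv₀, inv_smul_smul₀ hc]; exact v₀.2)
  exact hstep (inv_ne_zero hc) m e hmm he.1 (hR.symm_zero (hmL e (by simp))) hm0 h1

end CfsgLib.Classical.SubfieldOrth
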