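import Cfsg.Agent.Lib.Classical.SubfieldOrth.Frame

/-!
# Spreading a nonrational Siegel element of a unitary group
-/

set_option autoImplicit false
set_option linter.unusedSectionVars false
set_option backward.isDefEq.respectTransparency false

open Module

namespace CfsgLib.Classical.SubfieldOrth

open CfsgLib.Classical.SubfieldMax (coe_smul_eq smul_mem')

variable {F : Type*} [Field F] [Fintype F] {V : Type*} [AddCommGroup V] [Module F V] [FiniteDimensional F V]
  {σ : F →+* F} {F₀ : Subfield F}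

/-- An element of the unipotent radical at `d`. -/
def IsSg (B : V →ₛₗ[σ] V →ₗ[F] F) (g : isomGroup B) (d x : V) (c : F) : Prop :=
  ∀ z, g.1 z = z + B d z • x - B x z • d + (c * B d z) • d

variable {B : V →ₛₗ[σ] V →ₗ[F] F} {V₀ : Submodule F₀ V} {ε : F}

theorem IsSg.conj {g : isomGroup B} {d x : V} {c : F} (hg : IsSg B g d x c) (k : isomGroup B) :
    IsSg B (k * g * k⁻¹) (k.1 d) (k.1 x) c := by
  intro z
  have h2 : k.1 ((k⁻¹ : isomGroup B).1 z) = z := k.1.apply_symm_apply z
  simp only [Subgroup.coe_mul, LinearEquiv.mul_apply]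
  rw [hg, map_add, map_sub, map_add, map_smul, map_smul, map_smul, h2]
  have e : ∀ a, B a ((k⁻¹ : isomGroup B).1 z) = B (k.1 a) z := fun a => by
    conv_rhs => rw [← h2]
    rw [isomGroup_apply]
  rw [e, e]

theorem IsSg.mul {g g' : isomGroup B} {d x x' : V} {c c' : F} (hB : IsHermitian B) (hg : IsSg B g d x c)
    (hg' : IsSg B g' d x' c') (hd : B d d = 0) (hx : B d x = 0) (hx' : B d x' = 0) :
    IsSg B (g * g') d (x + x') (c + c' - B x x') := by
  intro z
  have hxd : B x d = 0 := hB.isRefl _ _ hx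
  simp only [Subgroup.coe_mul, LinearEquiv.mul_apply]
  rw [hg, hg']
  simp only [map_add, map_sub, map_smul, LinearMap.add_apply, smul_eq_mul, hd, hx', hxd]
  module

theorem IsSg.inv {g : isomGroup B} {d x : V} {c : F} (hB : IsHermitian B) (hg : IsSg B g d x c)
    (hd : B d d = 0) (hx : B d x = 0) : IsSg B g⁻¹ d (-x) (-c - B x x) := by
  intro z
  apply g.1.injective
  rw [show g.1 ((g⁻¹ : isomGroup B).1 z) = z from g.1.apply_symm_apply z, hg]
  simp only [map_add, map_sub, map_smul, map_neg, LinearMap.neg_apply, smul_eq_mul, hd, hx, hB.isRefl _ _ hx]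
  module

theorem isUTv_of_isSg {g : isomGroup B} {d : V} {c : F} (hg : IsSg B g d 0 c) (hd : B d d = 0)
    (hc : c + σ c = 0) : IsUTv g d c := ⟨hd, hc, fun z => by rw [hg]; simp⟩

/-- The subgroup contains the rational Siegel elements. -/
def RatSg (B : V →ₛₗ[σ] V →ₗ[F] F) (V₀ : Submodule F₀ V) (M : Subgroup (isomGroup B)) : Prop :=
  ∀ d b : V₀, B (d : V) (d : V) = 0 → B (b : V) (b : V) = 0 → B (d : V) (b : V) = 0 →
    ∃ g ∈ M, IsSg B g (d : V) (b : V) 0

/-- The vectors realised in the radical at `d`. -/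
def Rad (M : Subgroup (isomGroup B)) (d : V) : Set V :=
  {x | B d x = 0 ∧ ∃ g ∈ M, ∃ c, IsSg B g d x c}

variable {M : Subgroup (isomGroup B)}

theorem rad_add (hB : IsHermitian B) {d x y : V} (hd : B d d = 0) (hx : x ∈ Rad M d) (hy : y ∈ Rad M d) :
    x + y ∈ Rad M d := by
  obtain ⟨hdx, g, hg, c, hc⟩ := hx
  obtain ⟨hdy, g', hg', c', hc'⟩ := hy
  exact ⟨by rw [map_add, hdx, hdy, add_zero], g * g', mul_mem hg hg', _, hc.mul hB hc' hd hdx hdy⟩

theorem rad_neg (hB : IsHermitian B) {d x : V} (hd : B d d = 0) (hx : x ∈ Rad M d) : -x ∈ Rad M d := by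
  obtain ⟨hdx, g, hg, c, hc⟩ := hx
  exact ⟨by rw [map_neg, hdx, neg_zero], g⁻¹, inv_mem hg, _, hc.inv hB hd hdx⟩

theorem rad_line {d : V} (hd : B d d = 0) (a : F) : a • d ∈ Rad M d := by
  refine ⟨by rw [map_smul, hd, smul_zero], 1, one_mem M, σ a - a, fun z => ?_⟩
  rw [map_smulₛₗ, LinearMap.smul_apply, smul_eq_mul]
  simp only [OneMemClass.coe_one, LinearEquiv.coe_one, id_eq]
  module

/-- The radical at `d` is full. -/
def Full (M : Subgroup (isomGroup B)) (d : V) : Prop := ∀ x, B d x = 0 → x ∈ Rad M d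

variable (hR : IsOFrame B V₀ ε) (hM : RatSg B V₀ M) (hdim : 6 ≤ finrank F₀ V₀)
include hR hM hdim

theorem rad_rational {d x : V₀} (hd : B (d : V) (d : V) = 0) (hx : B (d : V) (x : V) = 0) :
    (x : V) ∈ Rad M (d : V) := by
  let P : Submodule F₀ V₀ :=
    { carrier := {y | ∀ t : F₀, ((t • y : V₀) : V) ∈ Rad M (d : V)}
      add_mem' := fun {a b} ha hb t => by
        rw [smul_add, Submodule.coe_add]; exact rad_add hR.herm hd (ha t) (hb t)
      zero_mem' := fun t => by rw [smul_zero]; simpa using rad_line (M := M) hd 0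
      smul_mem' := fun k a ha t => by rw [smul_smul]; exact ha _ }
  have hle : Submodule.span F₀ (IsOFrame.isoPerp B V₀ [d]) ≤ P := by
    refine Submodule.span_le.2 fun y hy t => ?_
    have hdy : B (d : V) ((t • y : V₀) : V) = 0 := by simp [coe_smul_eq, hy.2 d (by simp)]
    obtain ⟨g, hg, hs⟩ := hM d (t • y) hd (by simp [coe_smul_eq, hy.1]) hdy
    exact ⟨hdy, g, hg, 0, hs⟩
  have := hle (hR.mem_span_iso [d] (by simp; omega) (x := x) (by simp [hx])) 1
  rwa [one_smul] at this

/-- A vector of the radical with nonrational part outside the line gives everything. -/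
theorem full_of_seed (h10 : 10 ≤ finrank F₀ V₀) {d : V₀} (hd : B (d : V) (d : V) = 0) {x₀ x₁ : V₀}
    (hx : (x₀ : V) + ε • (x₁ : V) ∈ Rad M (d : V)) (hx₁ : x₁ ∉ Submodule.span F₀ {y | y ∈ [d]}) :
    Full M (d : V) := by
  let U₁ : Set V₀ := {v | B (d : V) (v : V) = 0 ∧ ε • (v : V) ∈ Rad M (d : V)}
  have hseed : x₁ ∈ U₁ := by
    obtain ⟨h0, h1⟩ := hR.perp_parts hx.1
    refine ⟨h1, ?_⟩
    have h := rad_add hR.herm hd hx (rad_neg hR.herm hd (rad_rational hR hM hdim hd h0))
    rwa [add_neg_cancel_comm] at h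
  -- moving by rational Siegel elements
  have step : ∀ v ∈ U₁, ∀ b : V₀, B (b : V) (b : V) = 0 → B (d : V) (b : V) = 0 → B (v : V) (b : V) = 0 →
      v ∉ Submodule.span F₀ {y | y ∈ [d, b]} → b ∈ U₁ := by
    intro v ⟨hdv, _, g, hg, c, hc⟩ b hbb hdb hvb hv
    obtain ⟨a, haa, hav, hL⟩ := hR.exists_iso_pair [d, b] (by simp; omega) hv
    have hda : B (d : V) (a : V) = 0 := hL d (by simp)
    have had := hR.symm_zero hda
    have hbd := hR.symm_zero hdb
    obtain ⟨s, hs, hsS⟩ := hM a b haa hbb (hR.symm_zero (hL b (by simp)))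
    have h := hc.conj s
    have e1 : s.1 (d : V) = d := by rw [hsS, had, hbd]; simp
    have e2 : s.1 (ε • (v : V)) = ε • (v : V) + ε • (b : V) := by
      rw [hsS, map_smul, map_smul, hav, hR.symm_zero hvb]
      simp
    rw [e1, e2] at h
    have hmem : ε • (v : V) + ε • (b : V) ∈ Rad M (d : V) :=
      ⟨by simp [hdv, hdb], _, mul_mem (mul_mem hs hg) (inv_mem hs), c, h⟩
    have h2 := rad_add hR.herm hd hmem (rad_neg hR.herm hd ⟨by simp [hdv], g, hg, c, hc⟩)
    rw [add_neg_cancel_comm] at h2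
    exact ⟨hdb, h2⟩
  have hd0 : B (d : V) (x₁ : V) = 0 := hseed.1
  obtain ⟨b₀, hb₀, hb₀b₀, hb₀L⟩ := hR.exists_iso_outside [d, x₁] (Submodule.span F₀ {y | y ∈ [d, x₁]})
    (by simp; omega) (by have := IsOFrame.finrank_span_list_le hR [d, x₁]; simp at this ⊢; omega)
  have swap : ∀ {p q r : V₀}, q ∉ Submodule.span F₀ {y | y ∈ [p, r]} → r ∉ Submodule.span F₀ {y | y ∈ [p]} →
      r ∉ Submodule.span F₀ {y | y ∈ [p, q]} := by
    intro p q r hq hr hrm
    rw [show {y | y ∈ [p, q]} = insert q {y | y ∈ [p]} by ext; simp [or_comm]] at hrm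
    obtain ⟨k, z, hz, e⟩ := Submodule.mem_span_insert.1 hrm
    have hk : k ≠ 0 := fun h => hr (by rw [e, h, zero_smul, zero_add]; exact hz)
    refine hq ?_
    have eq : q = k⁻¹ • (r - z) := by rw [e, add_sub_cancel_right, smul_smul, inv_mul_cancel₀ hk, one_smul]
    rw [eq]
    refine Submodule.smul_mem _ _ (sub_mem (Submodule.subset_span (by simp)) ?_)
    exact Submodule.span_mono (by intro y; simp; tauto) hz
  have hb₀U : b₀ ∈ U₁ :=
    step x₁ hseed b₀ hb₀b₀ (hb₀L d (by simp)) (hb₀L x₁ (by simp)) (swap hb₀ hx₁)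
  have hb₀d : b₀ ∉ Submodule.span F₀ {y | y ∈ [d]} := fun h =>
    hb₀ (Submodule.span_mono (by intro y; simp; tauto) h)
  have hall : ∀ x : V₀, B (x : V) (x : V) = 0 → B (d : V) (x : V) = 0 → x ∈ U₁ := by
    intro x hxx hdx
    obtain ⟨m, hm, hmm, hmL⟩ := hR.exists_iso_outside [d, b₀, x] (Submodule.span F₀ {y | y ∈ [d, b₀, x]})
      (by simp; omega) (by have := IsOFrame.finrank_span_list_le hR [d, b₀, x]; simp at this ⊢; omega)
    have hmU : m ∈ U₁ := step b₀ hb₀U m hmm (hmL d (by simp)) (hmL b₀ (by simp))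
      (swap (fun h => hm (Submodule.span_mono (by intro y; simp; tauto) h)) hb₀d)
    exact step m hmU x hxx hdx (hR.symm_zero (hmL x (by simp)))
      fun h => hm (Submodule.span_mono (by intro y; simp; tauto) h)
  let P : Submodule F₀ V₀ :=
    { carrier := {y | ∀ t : F₀, ε • ((t • y : V₀) : V) ∈ Rad M (d : V)}
      add_mem' := fun {a b} ha hb t => by
        rw [smul_add, Submodule.coe_add, smul_add]; exact rad_add hR.herm hd (ha t) (hb t)
      zero_mem' := fun t => by rw [smul_zero]; simpa using rad_line (M := M) hd 0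
      smul_mem' := fun k a ha t => by rw [smul_smul]; exact ha _ }
  have hle : Submodule.span F₀ (IsOFrame.isoPerp B V₀ [d]) ≤ P := Submodule.span_le.2 fun y hy t =>
    (hall (t • y) (by simp [coe_smul_eq, hy.1]) (by simp [coe_smul_eq, hy.2 d (by simp)])).2
  intro x hdx
  obtain ⟨y₀, y₁, rfl⟩ := hR.vec_decomp x
  obtain ⟨h0, h1⟩ := hR.perp_parts hdx
  refine rad_add hR.herm hd (rad_rational hR hM hdim hd h0) ?_
  have := hle (hR.mem_span_iso [d] (by simp; omega) (x := y₁) (by simp [h1])) 1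
  rwa [one_smul] at this

/-- A full radical makes the vector an axis. -/
theorem isTAxis_of_full {d : V₀} (hd : B (d : V) (d : V) = 0) (h : Full M (d : V)) : IsTAxis M (d : V) := by
  obtain ⟨u, hu, huu, huL⟩ := hR.exists_iso_outside [d] (Submodule.span F₀ {y | y ∈ [d]}) (by simp; omega)
    (by have := IsOFrame.finrank_span_list_le hR [d]; simp at this ⊢; omega)
  obtain ⟨v, hvv, huv, hvu, hvL⟩ := hR.exists_iso_partner huu [d] (by simp; omega) hu
  intro g c hg
  have hdu : B (d : V) (u : V) = 0 := huL d (by simp)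
  have hdv : B (d : V) (v : V) = 0 := hvL d (by simp)
  obtain ⟨hdd, hc, hgz⟩ := hg
  set a := -c / 2
  obtain ⟨-, g₁, hg₁, c₁, h₁⟩ := h (u : V) hdu
  have hdav : B (d : V) (a • (v : V)) = 0 := by rw [map_smul, hdv, smul_zero]
  obtain ⟨-, g₂, hg₂, c₂, h₂⟩ := h (a • (v : V)) hdav
  have hsum : B (d : V) ((u : V) + a • (v : V)) = 0 := by rw [map_add, hdu, hdav, add_zero]
  have hsum' : B (d : V) (a • (v : V) + (u : V)) = 0 := by rw [add_comm]; exact hsum
  have h12 := h₁.mul hR.herm h₂ hdd hdu hdav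
  have h21 := (h₂.mul hR.herm h₁ hdd hdav hdu).inv hR.herm hdd hsum'
  have key := h12.mul hR.herm h21 hdd hsum (by rw [map_neg, hsum', neg_zero])
  have : g = g₁ * g₂ * (g₂ * g₁)⁻¹ := by
    refine Subtype.ext (LinearEquiv.ext fun z => ?_)
    rw [hgz, key]
    have hσa : σ a = -a := by
      rw [show a = -c / 2 from rfl, map_div₀, map_neg, map_ofNat, eq_neg_of_add_eq_zero_right hc]; ring
    have hc2 : c = -(2 * a) := by rw [show a = -c / 2 from rfl]; field_simp [hR.two]
    simp only [map_add, map_neg, map_smulₛₗ, LinearMap.add_apply, LinearMap.smul_apply, LinearMap.neg_apply, neg_smul,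
      RingHom.id_apply,
      smul_eq_mul, huu, hvv, huv, hvu, hσa, hc2]
    module
  rw [this]
  exact mul_mem (mul_mem hg₁ hg₂) (inv_mem (mul_mem hg₂ hg₁))

/-- A full radical spreads to orthogonal vectors. -/
theorem full_of_perp (h10 : 10 ≤ finrank F₀ V₀) {d e : V₀} (hd : B (d : V) (d : V) = 0) (hee : B (e : V) (e : V) = 0)
    (hde : B (d : V) (e : V) = 0) (hind : d ∉ Submodule.span F₀ {y | y ∈ [e]}) (h : Full M (d : V)) :
    Full M (e : V) := by
  have hdεe : B (d : V) (ε • (e : V)) = 0 := by rw [map_smul, hde, smul_zero]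
  obtain ⟨-, g, hg, c, hc⟩ := h (ε • (e : V)) hdεe
  have hcc : c + σ c = 0 := by
    obtain ⟨f, hff, hdf, hfd, -⟩ := hR.exists_iso_partner hd [e] (by simp; omega) hind
    have hX := (hR.fixed _).1 (hR.form _ e.2 _ f.2)
    have h1 : B (g.1 (f : V)) (g.1 (f : V)) = 0 := by rw [isomGroup_apply, hff]
    rw [hc] at h1
    simp only [map_add, map_sub, map_smul, map_smulₛₗ, LinearMap.add_apply, LinearMap.sub_apply, LinearMap.smul_apply,
      RingHom.id_apply, smul_eq_mul, hff, hdf, hfd, hee, hde, hR.symm_zero hde, hd, hR.eps_tr, map_one, map_mul, map_neg,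
      hX, hR.comm₀ f e] at h1
    linear_combination h1
  obtain ⟨t, ht⟩ := hR.herm.exists_uTv hR.nondeg (v := (d : V)) (c := -c) hd
    (by rw [map_neg, ← neg_add, hcc, neg_zero])
  have htM := isTAxis_of_full hR hM hdim hd h t _ ht
  refine full_of_seed hR hM hdim h10 hee (x₀ := 0) (x₁ := d) ⟨by simp [hR.symm_zero hde], t * g, mul_mem htM hg, 0,
    fun z => ?_⟩ hind
  simp only [Subgroup.coe_mul, LinearEquiv.mul_apply]
  rw [ht.2.2, hc]
  simp only [map_add, map_sub, map_smul, map_smulₛₗ, LinearMap.smul_apply, RingHom.id_apply, smul_eq_mul, hd, hde,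
    hR.eps_tr, Submodule.coe_zero, zero_add]
  module

/-- One full radical gives the special unitary group. -/
theorem sIsom_le_of_full (h10 : 10 ≤ finrank F₀ V₀) (hn : 4 ≤ finrank F V) {d : V₀} (hd : B (d : V) (d : V) = 0) (hd0 : d ≠ 0)
    (h : Full M (d : V)) : sIsom B ≤ M := by
  have hfull : ∀ e : V₀, B (e : V) (e : V) = 0 → e ≠ 0 → Full M (e : V) := by
    intro e hee he0
    obtain ⟨m, hm, hmm, hmL⟩ := hR.exists_iso_outside [d, e] (Submodule.span F₀ {y | y ∈ [d, e]}) (by simp; omega)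
      (by have := IsOFrame.finrank_span_list_le hR [d, e]; simp at this ⊢; omega)
    have hind : ∀ {p q : V₀}, p ≠ 0 → q ∉ Submodule.span F₀ {y | y ∈ [p]} →
        p ∉ Submodule.span F₀ {y | y ∈ [q]} := by
      intro p q hp hq hpq
      rw [show {y | y ∈ [q]} = ({q} : Set V₀) by ext; simp, Submodule.mem_span_singleton] at hpq
      obtain ⟨k, rfl⟩ := hpq
      have hk : k ≠ 0 := fun e => hp (by rw [e, zero_smul])
      refine hq ?_
      have := Submodule.smul_mem _ k⁻¹ (Submodule.subset_span (R := F₀)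
        (show k • q ∈ {y | y ∈ [k • q]} by simp))
      rwa [inv_smul_smul₀ hk] at this
    have hmd : m ∉ Submodule.span F₀ {y | y ∈ [d]} := fun h =>
      hm (Submodule.span_mono (by intro y; simp; tauto) h)
    exact full_of_perp hR hM hdim h10 hmm hee (hR.symm_zero (hmL e (by simp)))
      (fun h => hm (Submodule.span_mono (by intro y; simp; tauto) h))
      (full_of_perp hR hM hdim h10 hd hmm (hmL d (by simp)) (hind hd0 hmd) h)
  refine hR.herm.sIsom_le_of_axes hR.nondeg hn fun v hvv => ?_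
  by_cases hv0 : v = 0
  · rw [hv0]; exact hR.herm.isTAxis_zero M
  obtain ⟨u, huu, huv⟩ : ∃ u : V₀, B (u : V) (u : V) = 0 ∧ B (u : V) v ≠ 0 := by
    by_contra hc
    push Not at hc
    refine hv0 (hR.sep fun z hz => ?_)
    have hz' : (⟨z, hz⟩ : V₀) ∈ Submodule.span F₀ (IsOFrame.isoPerp B V₀ []) :=
      hR.mem_span_iso [] (by simp; omega) (by simp)
    suffices ∀ y ∈ Submodule.span F₀ (IsOFrame.isoPerp B V₀ []), B (y : V) v = 0 from this _ hz'
    intro y hy
    induction hy using Submodule.span_induction with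
    | mem y hy => exact hc y hy.1
    | zero => simp
    | add a b _ _ ha hb => simp [ha, hb]
    | smul c a _ ha => simp [coe_smul_eq, ha]
  have hu0 : u ≠ 0 := by rintro rfl; simp at huv
  obtain ⟨f, hff, huf, hfu, -⟩ := hR.exists_iso_partner huu [] (by simp; omega) (by simpa using hu0)
  have hf0 : f ≠ 0 := by rintro rfl; simp at huf
  suffices IsTAxis M ((B (u : V) v)⁻¹ • v) by
    have h' := this.smul hR.invol huv
    rwa [smul_smul, mul_inv_cancel₀ huv, one_smul] at h'
  set v₁ := (B (u : V) v)⁻¹ • v with hv₁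
  have huv₁ : B (u : V) v₁ = 1 := by rw [hv₁, map_smul, smul_eq_mul, inv_mul_cancel₀ huv]
  have hvu₁ : B v₁ (u : V) = 1 := by rw [← hR.symm, huv₁, map_one]
  have hvv₁ : B v₁ v₁ = 0 := by rw [hv₁, hR.herm.smul_self, hvv, mul_zero]
  set y := v₁ - (f : V)
  obtain ⟨-, φ, hφ, c, hc⟩ := hfull u huu hu0 y (by rw [map_sub, huv₁, huf, sub_self])
  set κ := c - B y (f : V)
  have e : φ.1 (f : V) = v₁ + κ • (u : V) := by
    rw [hc, huf]
    simp only [y, κ]
    module
  have hiso : B (v₁ + κ • (u : V)) (v₁ + κ • (u : V)) = 0 := by rw [← e, isomGroup_apply, hff]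
  have hκ : κ + σ κ = 0 := by
    simp only [map_add, map_smul, map_smulₛₗ, LinearMap.add_apply, LinearMap.smul_apply, RingHom.id_apply,
      smul_eq_mul, hvv₁, huv₁, hvu₁, huu] at hiso
    linear_combination hiso
  obtain ⟨t, ht⟩ := hR.herm.exists_uTv hR.nondeg (v := (u : V)) (c := -κ) huu
    (by rw [map_neg, ← neg_add, hκ, neg_zero])
  have htM := isTAxis_of_full hR hM hdim huu (hfull u huu hu0) t _ ht
  have htv : (t * φ).1 (f : V) = v₁ := by
    rw [Subgroup.coe_mul, LinearEquiv.mul_apply, e, ht.2.2]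
    simp only [map_add, map_smul, smul_eq_mul, huv₁, huu]
    module
  have := (isTAxis_of_full hR hM hdim hff (hfull f hff hf0)).map (mul_mem htM hφ)
  rwa [htv] at this

end CfsgLib.Classical.SubfieldOrth
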